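import Groth.Agent.WeakEt.Basic
import Groth.Agent.S0426
import Groth.Prelude.Def_ProEtW
import Mathlib

/-!
Residue field extensions of weakly étale maps.
-/

set_option autoImplicit false
set_option backward.isDefEq.respectTransparency false
set_option backward.isDefEq.respectTransparency.types false
set_option linter.style.haveILetI false
set_option synthInstance.maxHeartbeats 200000

universe u

open scoped TensorProduct

namespace Groth.Agent.WContr

theorem isSeparable_of_weaklyEtale_gen (A B K L : Type u) [CommRing A] [CommRing B] [Field K] [Field L]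
    [Algebra A B] [Algebra A K] [Algebra A L] [Algebra K L] [Algebra B L] [IsScalarTower A K L]
    [IsScalarTower A B L] [Algebra.WeaklyEtale A B]
    (hgen : ∀ x : L, ∃ b c : B, algebraMap B L c ≠ 0 ∧ x * algebraMap B L c = algebraMap B L b) :
    Algebra.IsSeparable K L := by
  let f : K ⊗[A] B →ₐ[K] L := Algebra.TensorProduct.lift (Algebra.ofId K L) (IsScalarTower.toAlgHom A B L)
    fun _ _ => .all _ _
  have hK : ∀ a : K, ∃ b, a * a * b = a := fun a => ⟨a⁻¹, by
    by_cases h : a = 0
    · simp [h]
    · rw [mul_assoc, mul_inv_cancel₀ h, mul_one]⟩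
  have hT : ∀ a : K ⊗[A] B, ∃ b, a * a * b = a := Groth.Agent.WeakEt.exists_sq_mul_of_weaklyEtale hK
  have hinv : ∀ a, f a ≠ 0 → ∃ b, f b = (f a)⁻¹ := fun a ha => by
    obtain ⟨b, hb⟩ := hT a
    refine ⟨b, (eq_inv_of_mul_eq_one_left ?_)⟩
    have h := congrArg f hb
    rw [map_mul, map_mul, mul_assoc, mul_eq_left₀ ha] at h
    rwa [mul_comm]
  have hB : ∀ b : B, f (1 ⊗ₜ[A] b) = algebraMap B L b := fun b => by simp [f]
  have hsurj : Function.Surjective f := fun x => by
    obtain ⟨b, c, hc, hx⟩ := hgen x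
    obtain ⟨d, hd⟩ := hinv (1 ⊗ₜ[A] c) (by rwa [hB])
    refine ⟨(1 ⊗ₜ[A] b) * d, ?_⟩
    rw [map_mul, hd, hB, hB, ← hx, mul_assoc, mul_inv_cancel₀ hc, mul_one]
  letI : Algebra (K ⊗[A] B) L := f.toRingHom.toAlgebra
  haveI : IsScalarTower K (K ⊗[A] B) L := IsScalarTower.of_algebraMap_eq fun a => (f.commutes a).symm
  haveI : Algebra.WeaklyEtale (K ⊗[A] B) L :=
    { flat := Groth.Agent.WeakEt.flat_of_forall_exists_sq_mul hT L
      flat_lmul' := .of_bijective ⟨(Algebra.isEpi_of_surjective_algebraMap (K ⊗[A] B) L hsurj).injective_lift_mul,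
        fun x => ⟨x ⊗ₜ 1, by simp⟩⟩ }
  haveI : Algebra.WeaklyEtale K L := Algebra.WeaklyEtale.trans K (K ⊗[A] B) L
  exact Groth.Agent.S0426.result

theorem isSeparable_residueField_of_weaklyEtale (A B : Type u) [CommRing A] [CommRing B] [Algebra A B]
    [Algebra.WeaklyEtale A B] (p : Ideal A) [p.IsPrime] (q : Ideal B) [q.IsPrime] [q.LiesOver p]
    [Algebra (Localization.AtPrime p) (Localization.AtPrime q)] [Localization.AtPrime.IsLiesOverAlgebra p q] :
    Algebra.IsSeparable p.ResidueField q.ResidueField := by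
  refine isSeparable_of_weaklyEtale_gen A B p.ResidueField q.ResidueField fun x => ?_
  obtain ⟨y, rfl⟩ := IsLocalRing.residue_surjective x
  obtain ⟨b, c, rfl⟩ := IsLocalization.exists_mk'_eq q.primeCompl y
  refine ⟨b, c, ?_, ?_⟩
  · rw [ne_eq, Ideal.algebraMap_residueField_eq_zero]
    exact c.2
  · rw [IsScalarTower.algebraMap_apply B (Localization.AtPrime q) q.ResidueField,
      IsScalarTower.algebraMap_apply B (Localization.AtPrime q) q.ResidueField]
    change IsLocalRing.residue _ _ * IsLocalRing.residue _ _ = IsLocalRing.residue _ _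
    rw [← map_mul, IsLocalization.mk'_spec]

theorem algebraicResidueExtensions_of_weaklyEtale (A B : Type u) [CommRing A] [CommRing B] [Algebra A B]
    [Algebra.WeaklyEtale A B] : ProEtW.AlgebraicResidueExtensions A B := by
  intro q _
  let p := q.comap (algebraMap A B)
  haveI : q.LiesOver p := ⟨rfl⟩
  letI := Localization.AtPrime.algebraOfLiesOver p q
  haveI := isSeparable_residueField_of_weaklyEtale A B p q
  letI : Algebra (A ⧸ p) q.ResidueField :=
    ((algebraMap p.ResidueField q.ResidueField).comp (algebraMap (A ⧸ p) p.ResidueField)).toAlgebra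
  haveI : IsScalarTower (A ⧸ p) p.ResidueField q.ResidueField := IsScalarTower.of_algebraMap_eq fun _ => rfl
  haveI : IsScalarTower (A ⧸ p) (B ⧸ q) q.ResidueField := IsScalarTower.of_algebraMap_eq fun x => by
    obtain ⟨a, rfl⟩ := Ideal.Quotient.mk_surjective x
    change algebraMap p.ResidueField q.ResidueField
        (algebraMap (A ⧸ p) p.ResidueField (algebraMap A (A ⧸ p) a)) =
      algebraMap (B ⧸ q) q.ResidueField (algebraMap B (B ⧸ q) (algebraMap A B a))
    simp only [← IsScalarTower.algebraMap_apply]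
  haveI : Algebra.IsAlgebraic (A ⧸ p) q.ResidueField :=
    (IsFractionRing.comap_isAlgebraic_iff (A := A ⧸ p) (K := p.ResidueField)).mpr inferInstance
  exact Algebra.IsAlgebraic.of_injective (IsScalarTower.toAlgHom (A ⧸ p) (B ⧸ q) q.ResidueField)
    (IsFractionRing.injective (B ⧸ q) q.ResidueField)

end Groth.Agent.WContr
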