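import Groth.Agent.WContr.DCSite
import Groth.Agent.KInj.Ops
import Groth.Agent.KInj.Existence
import Mathlib.Algebra.Homology.DerivedCategory.KProjective
import Mathlib

/-!
Derived complete objects of the derived category: cohomology criterion.
-/

set_option autoImplicit false
set_option backward.isDefEq.respectTransparency false
set_option backward.isDefEq.respectTransparency.types false
set_option linter.style.haveILetI false
set_option maxHeartbeats 800000
set_option synthInstance.maxHeartbeats 200000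

universe w t v u

open CategoryTheory CategoryTheory.Limits Opposite

namespace Groth.Agent.WContr.DC

section Proj

variable {C : Type u} [Category.{v} C] [Abelian C] [HasDerivedCategory.{t} C] {P : C}

/-- Evaluation of a map from an object in degree zero in degree-zero cohomology. -/
noncomputable def evH (P : C) (K : DerivedCategory C)
    (g : (DerivedCategory.singleFunctor C 0).obj P ⟶ K) : P ⟶ (DerivedCategory.homologyFunctor C 0).obj K :=
  (HomologicalComplex.singleObjHomologySelfIso (ComplexShape.up ℤ) 0 P).inv ≫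
    (DerivedCategory.homologyFunctorFactors C 0).inv.app ((HomologicalComplex.single C (ComplexShape.up ℤ) 0).obj P) ≫
      (DerivedCategory.homologyFunctor C 0).map g

theorem evH_comp (P : C) {K K' : DerivedCategory C} (g : (DerivedCategory.singleFunctor C 0).obj P ⟶ K)
    (h : K ⟶ K') : evH P K' (g ≫ h) = evH P K g ≫ (DerivedCategory.homologyFunctor C 0).map h := by
  simp [evH]

theorem evH_single {P' : C} (a : P' ⟶ P) {K : DerivedCategory C}
    (g : (DerivedCategory.singleFunctor C 0).obj P ⟶ K) :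
    evH P' K ((DerivedCategory.singleFunctor C 0).map a ≫ g) = a ≫ evH P K g := by
  unfold evH
  rw [Functor.map_comp, ← Category.assoc a, ← HomologicalComplex.singleObjHomologySelfIso_inv_naturality]
  simp only [Category.assoc]
  congr 1
  rw [← Category.assoc, ← Category.assoc (HomologicalComplex.homologyMap _ _)]
  congr 1
  exact ((DerivedCategory.homologyFunctorFactors C 0).inv.naturality
    ((HomologicalComplex.single C (ComplexShape.up ℤ) 0).map a)).symm

/-- The cycle underlying a chain map out of a single complex. -/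
noncomputable def cyc {K : CochainComplex C ℤ} (φ : (HomologicalComplex.single C (ComplexShape.up ℤ) 0).obj P ⟶ K) :
    P ⟶ K.cycles 0 :=
  K.liftCycles ((HomologicalComplex.singleObjXSelf (ComplexShape.up ℤ) 0 P).inv ≫ φ.f 0) 1 (by simp) (by simp)

theorem evH_Q (K : CochainComplex C ℤ) (φ : (HomologicalComplex.single C (ComplexShape.up ℤ) 0).obj P ⟶ K) :
    evH P (DerivedCategory.Q.obj K) (DerivedCategory.Q.map φ) ≫ (DerivedCategory.homologyFunctorFactors C 0).hom.app K
      = cyc φ ≫ K.homologyπ 0 := by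
  unfold evH
  have h : (DerivedCategory.homologyFunctor C 0).map (DerivedCategory.Q.map φ) ≫
      (DerivedCategory.homologyFunctorFactors C 0).hom.app K =
      (DerivedCategory.homologyFunctorFactors C 0).hom.app _ ≫ HomologicalComplex.homologyMap φ 0 :=
    (DerivedCategory.homologyFunctorFactors C 0).hom.naturality φ
  rw [Category.assoc, Category.assoc, h]
  erw [Iso.inv_hom_id_app_assoc]
  rw [← HomologicalComplex.singleObjCyclesSelfIso_inv_homologyπ, Category.assoc,
    HomologicalComplex.homologyπ_naturality, ← Category.assoc]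
  congr 1
  rw [← cancel_mono (K.iCycles 0), Category.assoc, HomologicalComplex.cyclesMap_i,
    HomologicalComplex.singleObjCyclesSelfIso_inv_iCycles_assoc, cyc, HomologicalComplex.liftCycles_i]

theorem isKProjective_single (P : C) [Projective P] :
    CochainComplex.IsKProjective ((HomologicalComplex.single C (ComplexShape.up ℤ) 0).obj P) := by
  haveI : ∀ n, Projective (((HomologicalComplex.single C (ComplexShape.up ℤ) 0).obj P).X n) := fun n => by
    by_cases hn : n = 0
    · subst hn
      exact Projective.of_iso (HomologicalComplex.singleObjXSelf (ComplexShape.up ℤ) 0 P).symm inferInstance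
    · have hz := HomologicalComplex.isZero_single_obj_X (ComplexShape.up ℤ) 0 P n hn
      exact Projective.of_iso hz.isoZero.symm inferInstance
  exact CochainComplex.isKProjective_of_projective _ 0

theorem Q_map_surjective_single (P : C) [Projective P] (K : CochainComplex C ℤ) :
    Function.Surjective (DerivedCategory.Q.map :
      ((HomologicalComplex.single C (ComplexShape.up ℤ) 0).obj P ⟶ K) → _) := fun g => by
  haveI := isKProjective_single P
  obtain ⟨h, hh⟩ := (CochainComplex.IsKProjective.Qh_map_bijective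
    ((HomologicalComplex.single C (ComplexShape.up ℤ) 0).obj P)
    ((HomotopyCategory.quotient C (ComplexShape.up ℤ)).obj K)).2
    ((DerivedCategory.quotientCompQhIso C).hom.app _ ≫ g ≫ (DerivedCategory.quotientCompQhIso C).inv.app K)
  obtain ⟨h, rfl⟩ := (HomotopyCategory.quotient C (ComplexShape.up ℤ)).map_surjective h
  refine ⟨h, ?_⟩
  have := DerivedCategory.quotientCompQhIso_hom_naturality h
  rw [hh] at this
  simpa using! this.symm

theorem Q_map_eq_zero_of_cyc [Projective P] {K : CochainComplex C ℤ}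
    (φ : (HomologicalComplex.single C (ComplexShape.up ℤ) 0).obj P ⟶ K) (h : cyc φ ≫ K.homologyπ 0 = 0) :
    DerivedCategory.Q.map φ = 0 := by
  have hex : (ShortComplex.mk (K.toCycles (-1) 0) (K.homologyπ 0) (K.toCycles_comp_homologyπ (-1) 0)).Exact :=
    ShortComplex.exact_of_g_is_cokernel _ (K.homologyIsCokernel (-1) 0 (by simp))
  let w := hex.liftFromProjective (cyc φ) h
  have hw : w ≫ K.toCycles (-1) 0 = cyc φ := hex.liftFromProjective_comp _ _
  have hδ : CochainComplex.HomComplex.δ (-1) 0 (CochainComplex.HomComplex.Cochain.fromSingleMk w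
      (show (0 : ℤ) + (-1) = -1 by omega)) = CochainComplex.HomComplex.Cochain.ofHom φ := by
    rw [CochainComplex.HomComplex.Cochain.δ_fromSingleMk _ _ _ 0 (by omega)]
    ext p
    by_cases hp : p = 0
    · subst hp
      rw [CochainComplex.HomComplex.Cochain.fromSingleMk_v, CochainComplex.HomComplex.Cochain.ofHom_v,
        ← K.toCycles_i (-1) 0, reassoc_of% hw, cyc, HomologicalComplex.liftCycles_i]
      simp
    · exact (HomologicalComplex.isZero_single_obj_X (ComplexShape.up ℤ) 0 P p hp).eq_of_src _ _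
  obtain ⟨ho⟩ := Groth.Agent.KInj.nonempty_homotopy_of_delta_eq _ hδ
  rw [← Functor.map_zero DerivedCategory.Q]
  exact Groth.Agent.KInj.Q_map_eq_of_homotopy ((Homotopy.ofEq (sub_zero φ)).trans ho)

/-- Maps out of a projective in degree zero are maps to cohomology. -/
theorem evH_bijective (P : C) [Projective P] (K : DerivedCategory C) : Function.Bijective (evH P K) := by
  suffices H : ∀ L : CochainComplex C ℤ, Function.Bijective (evH P (DerivedCategory.Q.obj L)) by
    let e := (DerivedCategory.Q (C := C)).objObjPreimageIso K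
    have : evH P K = (fun y => y ≫ (DerivedCategory.homologyFunctor C 0).map e.hom) ∘
        evH P (DerivedCategory.Q.obj _) ∘ (fun g => g ≫ e.inv) := by
      funext g
      simp [← evH_comp]
    rw [this]
    exact ((DerivedCategory.homologyFunctor C 0).mapIso e).homToEquiv.bijective.comp
      ((H _).comp e.symm.homToEquiv.bijective)
  intro L
  refine ⟨fun g₁ g₂ hg => ?_, fun y => ?_⟩
  · obtain ⟨φ₁, rfl⟩ := Q_map_surjective_single P L g₁
    obtain ⟨φ₂, rfl⟩ := Q_map_surjective_single P L g₂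
    rw [← sub_eq_zero, ← Functor.map_sub]
    refine Q_map_eq_zero_of_cyc _ ?_
    have hs : cyc (φ₁ - φ₂) = cyc φ₁ - cyc φ₂ := by
      rw [← cancel_mono (L.iCycles 0)]; simp [cyc]
    rw [hs, Preadditive.sub_comp, ← evH_Q, ← evH_Q, hg, sub_self]
  · let z := Projective.factorThru (y ≫ (DerivedCategory.homologyFunctorFactors C 0).hom.app L) (L.homologyπ 0)
    refine ⟨DerivedCategory.Q.map (HomologicalComplex.mkHomFromSingle (z ≫ L.iCycles 0) (fun k _ => by simp)), ?_⟩
    rw [← cancel_mono ((DerivedCategory.homologyFunctorFactors C 0).hom.app L), evH_Q,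
      show cyc (HomologicalComplex.mkHomFromSingle (z ≫ L.iCycles 0) (fun k _ => by simp)) = z by
        rw [← cancel_mono (L.iCycles 0)]; simp [cyc]]
    exact Projective.factorThru_comp _ _

theorem evH_add (P : C) (K : DerivedCategory C) (g g' : (DerivedCategory.singleFunctor C 0).obj P ⟶ K) :
    evH P K (g + g') = evH P K g + evH P K g' := by
  simp [evH]

variable {R : Type w} [CommRing R] [Linear R C]

theorem evH_smul (P : C) [Projective P] (K : DerivedCategory C) (r : R)
    (g : (DerivedCategory.singleFunctor C 0).obj P ⟶ K) : evH P K (r • g) = r • evH P K g := by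
  let e := (DerivedCategory.Q (C := C)).objObjPreimageIso K
  obtain ⟨φ, hφ⟩ := Q_map_surjective_single P _ (g ≫ e.inv)
  have hg : g = DerivedCategory.Q.map φ ≫ e.hom := by
    rw [hφ, Category.assoc, Iso.inv_hom_id]; exact (Category.comp_id g).symm
  rw [hg, show r • (DerivedCategory.Q.map φ ≫ e.hom) = DerivedCategory.Q.map (r • φ) ≫ e.hom by
    rw [Functor.map_smul]; exact (Linear.smul_comp _ _ _ r (DerivedCategory.Q.map φ) e.hom).symm,
    evH_comp, evH_comp, ← Linear.smul_comp]
  congr 1
  rw [← cancel_mono ((DerivedCategory.homologyFunctorFactors C 0).hom.app _), Linear.smul_comp, evH_Q, evH_Q,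
    ← Linear.smul_comp]
  congr 1
  rw [← cancel_mono (HomologicalComplex.iCycles _ 0)]
  simp [cyc]

/-- Maps out of a projective in degree zero, linearly. -/
noncomputable def evEquiv (P : C) [Projective P] (K : DerivedCategory C) :
    ((DerivedCategory.singleFunctor C 0).obj P ⟶ K) ≃ₗ[R] (P ⟶ (DerivedCategory.homologyFunctor C 0).obj K) :=
  LinearEquiv.ofBijective
    { toFun := evH P K
      map_add' := evH_add P K
      map_smul' := fun r g => evH_smul P K r g } (evH_bijective P K)

end Proj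

section Prod

variable {Λ : Type w} [CommRing Λ] {D : Type u} [Category.{v} D] [Preadditive D] [Linear Λ D]

theorem dcSec_comp_iso {A K K' : D} (f : Λ) (e : K ≅ K') (h : DCSec f (A ⟶ K)) : DCSec f (A ⟶ K') :=
  DCSec.of_equiv (Linear.homCongr Λ (Iso.refl A) e) h

/-- The telescope endomorphism of a countable power. -/
theorem tel_fan {A K W : D} (f : Λ) (p : ℕ → (W ⟶ K)) (τ : W ⟶ W)
    (hτ : ∀ i, τ ≫ p i = p i - f • p (i + 1)) (g : A ⟶ W) :
    (fun i => (g ≫ τ) ≫ p i) = tel f (A ⟶ K) (fun i => g ≫ p i) := by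
  funext i
  simp [tel, hτ]

theorem bijective_comp_fan_iff {A K W : D} (f : Λ) (p : ℕ → (W ⟶ K)) (τ : W ⟶ W)
    (hτ : ∀ i, τ ≫ p i = p i - f • p (i + 1))
    (hb : Function.Bijective fun (g : A ⟶ W) i => g ≫ p i) :
    Function.Bijective (fun g : A ⟶ W => g ≫ τ) ↔ DCSec f (A ⟶ K) := by
  let e := Equiv.ofBijective _ hb
  have h : ⇑(tel f (A ⟶ K)) ∘ ⇑e = ⇑e ∘ (fun g : A ⟶ W => g ≫ τ) := funext fun g => (tel_fan f p τ hτ g).symm
  constructor
  · intro hτb
    have h2 := e.bijective.comp hτb
    rw [← h] at h2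
    exact (Function.Bijective.of_comp_iff _ e.bijective).mp h2
  · intro hd
    have h2 : Function.Bijective (⇑(tel f (A ⟶ K)) ∘ ⇑e) := Function.Bijective.comp hd e.bijective
    rw [h] at h2
    exact (Function.Bijective.of_comp_iff' e.bijective _).mp h2

end Prod

end Groth.Agent.WContr.DC

namespace Groth.Agent.WContr.DC

open AlgebraicGeometry

section Site

attribute [local instance] HasDerivedCategory.standard

variable {Λ : Type (u + 1)} [CommRing Λ] {X : Scheme.{u}}

local notation "DX" => ProEtDC.DP Λ X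
local notation "H₀" => DerivedCategory.homologyFunctor (EtModW.ModP Λ X) 0
local notation "S₀" => DerivedCategory.singleFunctor (EtModW.ModP Λ X) 0

theorem isDCSheaf_of_iso' {I : Ideal Λ} {F G : EtModW.ModP Λ X} (e : F ≅ G) (h : ProEtDC.IsDCSheaf Λ I F) :
    ProEtDC.IsDCSheaf Λ I G :=
  isDCSheaf_of_hom I G fun _ hf U _ =>
    DCSec.of_equiv (Linear.homCongr Λ (Iso.refl (PU Λ U)) e) (dcSec_hom_sheaf h hf _)

theorem isIso_of_bijective_wc' {A B : EtModW.ModP Λ X} (e : A ⟶ B)
    (h : ∀ U : X.ProEt, ProEtS.IsWC U → Function.Bijective fun g : PU Λ U ⟶ A => g ≫ e) : IsIso e := by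
  haveI : Mono e := Preadditive.mono_of_cancel_zero _ fun {Z} k hk => by
    obtain ⟨ι, V, π, hV, hπ⟩ := exists_projective_cover Z
    refine (cancel_epi π).mp (Sigma.hom_ext _ _ fun i => (h _ (hV i)).1 ?_)
    simp only [Category.assoc, hk, comp_zero, zero_comp]
  haveI : Epi e := by
    obtain ⟨ι, V, π, hV, hπ⟩ := exists_projective_cover B
    choose l hl using fun i => (h _ (hV i)).2 (Sigma.ι (fun i => PU Λ (V i)) i ≫ π)
    exact epi_of_epi_fac (f := Sigma.desc l) (g := e) (h := π) (Sigma.hom_ext _ _ fun i => by simp [hl])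
  exact isIso_of_mono_of_epi e

/-- `H^n` as `H^0` of the shift. -/
noncomputable def hShift (K : DX) (n : ℤ) : (H₀).obj ((shiftFunctor DX n).obj K) ≅ ProEtDC.HDP K n :=
  ((H₀).shiftIso n 0 n (by simp)).app K

theorem dc_of_isDC {I : Ideal Λ} {K : DX} (h : ProEtDC.IsDC Λ I K) {f : Λ} (hf : f ∈ I) (U : X.ProEt)
    (hU : ProEtS.IsWC U) (n : ℤ) : DCSec f (PU Λ U ⟶ (H₀).obj ((shiftFunctor DX n).obj K)) := by
  haveI := projective_PU (Λ := Λ) U hU
  obtain ⟨q, hq, ⟨hc⟩⟩ := free_away_coker U f (Localization.Away f)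
  let S : ShortComplex (EtModW.ModP Λ X) := ShortComplex.mk (T f (PU Λ U)) q hq
  have hS : S.ShortExact :=
    { exact := ShortComplex.exact_of_g_is_cokernel _ hc
      mono_f := mono_T f _
      epi_g := Cofork.IsColimit.epi hc }
  let K' := (shiftFunctor DX n).obj K
  haveI : Projective S.X₁ := inferInstanceAs (Projective (Sg.obj (PU Λ U)))
  haveI : Projective S.X₂ := inferInstanceAs (Projective (Sg.obj (PU Λ U)))
  have hinj : ∀ g : (S₀).obj S.X₂ ⟶ K', (S₀).map S.f ≫ g = 0 → g = 0 := fun g hg => by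
    obtain ⟨l, rfl⟩ := Pretriangulated.Triangle.yoneda_exact₂ _ hS.singleTriangle_distinguished g hg
    haveI := h U f hf n
    rw [Subsingleton.elim (α := (S₀).obj (ProEtDC.locExt Λ U f) ⟶ K') l 0]
    exact comp_zero
  have hsurj : ∀ g : (S₀).obj S.X₁ ⟶ K', ∃ g' : (S₀).obj S.X₂ ⟶ K', (S₀).map S.f ≫ g' = g := fun g => by
    let t := hS.singleTriangle
    have hd := Pretriangulated.inv_rot_of_distTriang _ hS.singleTriangle_distinguished
    haveI := h U f hf (n + 1)
    have hz : ∀ x : (shiftFunctor DX (-1 : ℤ)).obj ((S₀).obj (ProEtDC.locExt Λ U f)) ⟶ K', x = 0 := fun x => by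
      let adj := (shiftEquiv DX (-1 : ℤ)).toAdjunction
      have e : (shiftFunctor DX (-(-1 : ℤ))).obj K' ≅ (shiftFunctor DX (n + 1)).obj K :=
        ((shiftFunctorAdd' DX n (-(-1)) (n + 1) (by omega)).symm).app K
      apply (adj.homEquiv _ _).injective
      rw [← cancel_mono e.hom]
      exact Subsingleton.elim (α := (S₀).obj (ProEtDC.locExt Λ U f) ⟶ (shiftFunctor DX (n + 1)).obj K) _ _
    obtain ⟨g', hg'⟩ := Pretriangulated.Triangle.yoneda_exact₂ _ hd g (hz _)
    exact ⟨g', hg'.symm⟩
  rw [← T_comp_bijective_iff f]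
  refine ⟨fun p p' hp => ?_, fun p => ?_⟩
  · obtain ⟨g, rfl⟩ := (evH_bijective _ K').2 p
    obtain ⟨g', rfl⟩ := (evH_bijective _ K').2 p'
    refine congrArg (evH _ K') (sub_eq_zero.mp (hinj _ ?_))
    rw [Preadditive.comp_sub, sub_eq_zero]
    refine (evH_bijective S.X₁ K').1 ?_
    rw [evH_single, evH_single]
    exact hp
  · obtain ⟨g, rfl⟩ := (evH_bijective _ K').2 p
    obtain ⟨g', rfl⟩ := hsurj g
    exact ⟨evH _ K' g', (evH_single S.f g').symm⟩

theorem hom_eq_zero_of_dc {f : Λ} {K : DX}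
    (h : ∀ (U : X.ProEt), ProEtS.IsWC U → ∀ m : ℤ,
      DCSec f (PU Λ U ⟶ (H₀).obj ((shiftFunctor DX m).obj K)))
    (L : EtModW.ModP Λ X) [IsIso (f • 𝟙 L)] (x : (S₀).obj L ⟶ K) : x = 0 := by
  let M := (DerivedCategory.Q (C := EtModW.ModP Λ X)).objPreimage K
  obtain ⟨J, j, hJ, hj, -, -⟩ := Groth.Agent.KInj.exists_kInjective M
  haveI := hj
  let e : DerivedCategory.Q.obj J ≅ K :=
    (asIso (DerivedCategory.Q.map j)).symm ≪≫ (DerivedCategory.Q (C := EtModW.ModP Λ X)).objObjPreimageIso K
  let N := ULift.{u + 1} ℕ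
  haveI : HasProduct fun _ : N => K :=
    Groth.Agent.KInj.hasProduct_Q (fun _ : N => J) (fun _ => hJ) _ fun _ => e
  let W := ∏ᶜ fun _ : N => K
  let p : ℕ → (W ⟶ K) := fun i => Pi.π (fun _ : N => K) ⟨i⟩
  let τ : W ⟶ W := Pi.lift fun i => p i.down - f • p (i.down + 1)
  have hτ : ∀ i, τ ≫ p i = p i - f • p (i + 1) := fun i => Pi.lift_π _ _
  have hb : ∀ (A : DX), Function.Bijective fun (g : A ⟶ W) i => g ≫ p i := fun A =>
    ⟨fun g g' hg => Pi.hom_ext _ _ fun i => congrFun hg i.down,
      fun y => ⟨Pi.lift fun i => y i.down, funext fun i => Pi.lift_π _ _⟩⟩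
  haveI : IsIso τ := by
    rw [DerivedCategory.isIso_iff]
    intro m
    refine (NatIso.isIso_map_iff ((H₀).shiftIso m 0 m (by simp)) τ).mp ?_
    show IsIso ((H₀).map ((shiftFunctor DX m).map τ))
    refine isIso_of_bijective_wc' _ fun U hU => ?_
    haveI := projective_PU (Λ := Λ) U hU
    let Km := (shiftFunctor DX m).obj K
    let pm : ℕ → ((shiftFunctor DX m).obj W ⟶ Km) := fun i => (shiftFunctor DX m).map (p i)
    have hτm : ∀ i, (shiftFunctor DX m).map τ ≫ pm i = pm i - f • pm (i + 1) := fun i => by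
      simp only [pm, ← Functor.map_comp, hτ, Functor.map_sub, Functor.map_smul]
    have hbm : Function.Bijective fun (g : (S₀).obj (PU Λ U) ⟶ (shiftFunctor DX m).obj W) i => g ≫ pm i := by
      have hl := isLimitFanMkObjOfIsLimit (shiftFunctor DX m) (fun _ : N => K) (Pi.π _) (productIsProduct _)
      exact ⟨fun g g' hg => hl.hom_ext fun i => congrFun hg i.as.down,
        fun y => ⟨hl.lift (Fan.mk _ fun i => y i.down), funext fun i => hl.fac _ ⟨⟨i⟩⟩⟩⟩
    have hd : DCSec f ((S₀).obj (PU Λ U) ⟶ Km) := DCSec.of_equiv (evEquiv (R := Λ) (PU Λ U) Km).symm (h U hU m)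
    have hbij := (bijective_comp_fan_iff f pm _ hτm hbm).mpr hd
    have e1 := evH_bijective (PU Λ U) ((shiftFunctor DX m).obj W)
    have : (fun g : PU Λ U ⟶ (H₀).obj ((shiftFunctor DX m).obj W) => g ≫ (H₀).map ((shiftFunctor DX m).map τ)) ∘
        evH (PU Λ U) _ = evH (PU Λ U) _ ∘ (fun g => g ≫ (shiftFunctor DX m).map τ) :=
      funext fun g => (evH_comp _ g _).symm
    exact (Function.Bijective.of_comp_iff _ e1).mp (this ▸ e1.comp hbij)
  have hd : DCSec f ((S₀).obj L ⟶ K) :=
    (bijective_comp_fan_iff f p τ hτ (hb _)).mp (asIso τ).homToEquiv.bijective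
  haveI : IsIso (f • 𝟙 ((S₀).obj L)) := by
    have : (S₀).map (f • 𝟙 L) = f • 𝟙 ((S₀).obj L) := by rw [Functor.map_smul, CategoryTheory.Functor.map_id]
    rw [← this]; infer_instance
  let y : ℕ → ((S₀).obj L ⟶ K) := fun i => Nat.rec x (fun _ g => inv (f • 𝟙 ((S₀).obj L)) ≫ g) i
  refine congrFun (dcSec_inj_iff.mp hd.1 y (funext fun i => ?_)) 0
  show y i - f • (inv (f • 𝟙 ((S₀).obj L)) ≫ y i) = 0
  rw [← Linear.smul_comp, ← Category.comp_id (inv (f • 𝟙 ((S₀).obj L))), ← Linear.comp_smul, IsIso.inv_hom_id,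
    Category.id_comp, sub_self]

theorem isIso_smul_coker (f : Λ) {P Q : EtModW.ModP Λ X} (q : Sg.obj P ⟶ Q) (hq : T f P ≫ q = 0)
    (hc : IsColimit (CokernelCofork.ofπ q hq)) : IsIso (f • 𝟙 Q) := by
  haveI : Epi q := Cofork.IsColimit.epi hc
  have hrel : ∀ i, inc P i ≫ q = f • (inc P (i + 1) ≫ q) := fun i =>
    sub_eq_zero.mp ((inc_T_comp f q i).symm.trans (by rw [hq, comp_zero]))
  obtain ⟨s, hs⟩ := CokernelCofork.IsColimit.desc' hc (sdesc fun i => inc P (i + 1) ≫ q) (sg_ext fun i => by
    rw [inc_T_comp, comp_zero]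
    simp only [tel, LinearMap.coe_mk, AddHom.coe_mk, inc_sdesc]
    exact sub_eq_zero.mpr (hrel (i + 1)))
  have h1 : ∀ i, inc P i ≫ q ≫ s = inc P (i + 1) ≫ q := fun i =>
    (congrArg (inc P i ≫ ·) hs).trans (inc_sdesc _ i)
  refine ⟨s, ?_, ?_⟩ <;> refine (cancel_epi q).mp (sg_ext fun i => ?_)
  · rw [Linear.smul_comp, Category.id_comp, Category.comp_id, Linear.comp_smul, Linear.comp_smul, h1, ← hrel]
  · rw [Linear.comp_smul, Category.comp_id, Category.comp_id, Linear.comp_smul, Linear.comp_smul, h1, ← hrel]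

theorem isDC_iff (I : Ideal Λ) (K : DX) :
    ProEtDC.IsDC Λ I K ↔ ∀ p : ℤ, ProEtDC.IsDCSheaf Λ I (ProEtDC.HDP K p) := by
  refine ⟨fun h p => isDCSheaf_of_iso' (hShift K p) (isDCSheaf_of_hom I _ fun f hf U hU => dc_of_isDC h hf U hU p),
    fun h U f hf n => subsingleton_of_forall_eq 0 fun x => ?_⟩
  obtain ⟨q, hq, ⟨hc⟩⟩ := free_away_coker U f (Localization.Away f)
  haveI : IsIso (f • 𝟙 (ProEtDC.locExt Λ U f)) := isIso_smul_coker f q hq hc
  refine hom_eq_zero_of_dc (f := f) (fun V hV m => ?_) _ x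
  haveI := projective_PU (Λ := Λ) V hV
  exact dcSec_comp_iso f ((hShift K (n + m)).symm ≪≫ (H₀).mapIso ((shiftFunctorAdd DX n m).app K))
    (dcSec_hom_sheaf (h (n + m)) hf _)

end Site

end Groth.Agent.WContr.DC
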