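import Groth.Agent.IndEtLib.WContract
import Mathlib

/-!
Finite products of weakly étale algebras.
-/

set_option autoImplicit false
set_option backward.isDefEq.respectTransparency false
set_option linter.style.haveILetI false

universe u

open TensorProduct

namespace Groth.Agent.WContr

theorem weaklyEtale_of_algEquiv {R S T : Type u} [CommRing R] [CommRing S] [CommRing T] [Algebra R S] [Algebra R T]
    [Algebra.WeaklyEtale R S] (e : S ≃ₐ[R] T) : Algebra.WeaklyEtale R T where
  flat := Module.Flat.of_linearEquiv e.toLinearEquiv.symm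
  flat_lmul' := by
    let ee : T ⊗[R] T ≃ₐ[R] S ⊗[R] S := Algebra.TensorProduct.congr e.symm e.symm
    rw [show Algebra.TensorProduct.lmul' R (S := T) =
      e.toAlgHom.comp ((Algebra.TensorProduct.lmul' R (S := S)).comp ee.toAlgHom) by ext <;> simp [ee]]
    exact .comp (.comp (.of_bijective ee.bijective) (Algebra.WeaklyEtale.flat_lmul' R S)) (.of_bijective e.bijective)

theorem weaklyEtale_pi_fin {R : Type u} [CommRing R] : ∀ (n : ℕ) (S : Fin n → Type u) [∀ i, CommRing (S i)]
    [∀ i, Algebra R (S i)] [∀ i, Algebra.WeaklyEtale R (S i)], Algebra.WeaklyEtale R (∀ i, S i)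
  | 0, S, _, _, _ => by
    haveI : Algebra.Etale R (∀ i, S i) := by
      haveI : ∀ i, Algebra.Etale R (S i) := fun i => i.elim0
      infer_instance
    infer_instance
  | n + 1, S, _, _, _ => by
    haveI := weaklyEtale_pi_fin (R := R) n (fun i => S i.succ)
    haveI := Groth.Agent.IndEtLib.weaklyEtale_prod R (S 0) (∀ i : Fin n, S i.succ)
    let e : (S 0 × ∀ i : Fin n, S i.succ) ≃ₐ[R] ∀ i, S i :=
      AlgEquiv.ofBijective
        (AlgHom.pi fun i => Fin.cases (motive := fun i => (S 0 × ∀ i : Fin n, S i.succ) →ₐ[R] S i)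
          (AlgHom.fst R _ _) (fun j => (Pi.evalAlgHom R (fun i : Fin n => S i.succ) j).comp (AlgHom.snd R _ _)) i)
        ⟨fun x y h => Prod.ext (congrFun h 0) (funext fun j => congrFun h j.succ),
          fun f => ⟨(f 0, fun j => f j.succ), funext fun i => Fin.cases rfl (fun j => rfl) i⟩⟩
    exact weaklyEtale_of_algEquiv e

end Groth.Agent.WContr
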