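import Groth.Prelude.Def_ProEtS
import Groth.Prelude.Def_PBC
import Groth.Agent.WeakEt.Scheme
import Groth.Agent.WContr.WEtPi

/-!
Weakly contractible affines of the small pro-étale site.
-/

set_option autoImplicit false
set_option backward.isDefEq.respectTransparency false
set_option backward.isDefEq.respectTransparency.types false
set_option linter.style.haveILetI false

universe u w

open CategoryTheory CategoryTheory.Limits AlgebraicGeometry Opposite

namespace Groth.Agent.WContr

variable {X : Scheme.{u}}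

/-- finite affine refinements of covering sieves -/
theorem exists_finite_affine (U : X.ProEt) [IsAffine U.left] (R : Sieve U) (hR : R ∈ Scheme.ProEt.topology X U) :
    ∃ (n : ℕ) (Z : Fin n → X.ProEt) (g : ∀ k, Z k ⟶ U),
      (∀ k, IsAffine (Z k).left) ∧ (∀ k, R (g k)) ∧ ∀ x : U.left, ∃ k, x ∈ Set.range (g k).left := by
  haveI : Scheme.proetalePrecoverage.IsStableUnderComposition := inferInstance
  haveI : (Scheme.ProEt.precoverage X).IsStableUnderComposition := by
    unfold Scheme.ProEt.precoverage; infer_instance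
  haveI : (Scheme.ProEt.precoverage X).IsStableUnderBaseChange := by
    unfold Scheme.ProEt.precoverage; infer_instance
  haveI : (Scheme.ProEt.precoverage X).HasIsos := by
    unfold Scheme.ProEt.precoverage; infer_instance
  rw [Scheme.ProEt.topology, Precoverage.mem_toGrothendieck_iff_of_isStableUnderComposition] at hR
  obtain ⟨P, hP, hPR⟩ := hR
  obtain ⟨ι, W, w, rfl⟩ := P.exists_eq_ofArrows
  rw [Scheme.ProEt.precoverage, Precoverage.mem_comap_iff, Presieve.map_ofArrows] at hP
  let E : PreZeroHypercover U.left := ⟨ι, fun i => (W i).left, fun i => (w i).left⟩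
  haveI : QuasiCompactCover E := Scheme.presieve₀_mem_qcPrecoverage_iff.mp hP.1
  obtain ⟨n, a, V, hV, huV⟩ := QuasiCompactCover.exists_isAffineOpen_of_isCompact E (U := ⊤) isCompact_univ
  let Z : Fin n → X.ProEt := fun k => Scheme.ProEt.mk ((V k).ι ≫ (W (a k)).hom)
  let g : ∀ k, Z k ⟶ U := fun k => (MorphismProperty.Over.homMk (V k).ι rfl : Z k ⟶ W (a k)) ≫ w (a k)
  refine ⟨n, Z, g, fun k => hV k, fun k => R.downward_closed (hPR _ _ (Presieve.ofArrows.mk (a k))) _, fun x => ?_⟩
  obtain ⟨k, y, hy, rfl⟩ := Set.mem_iUnion.mp (huV.ge (Set.mem_univ x))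
  obtain ⟨z, rfl⟩ := (Scheme.Opens.range_ι (V k)).ge hy
  exact ⟨k, z, Scheme.Hom.comp_apply _ _ z⟩

/-- finite jointly surjective affine families cover -/
theorem ofArrows_mem_topology (U : X.ProEt) [IsAffine U.left] {ι : Type u} [Finite ι] (Z : ι → X.ProEt)
    (g : ∀ k, Z k ⟶ U) [∀ k, IsAffine (Z k).left] (hs : ∀ x : U.left, ∃ k, x ∈ Set.range (g k).left) :
    Sieve.ofArrows Z g ∈ Scheme.ProEt.topology X U := by
  refine Precoverage.generate_mem_toGrothendieck ?_
  rw [Scheme.ProEt.precoverage, Precoverage.mem_comap_iff, Presieve.map_ofArrows]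
  have he : ∀ k, WeaklyEtale (g k).left := fun k => by
    haveI : WeaklyEtale ((g k).left ≫ U.hom) := by
      rw [show (g k).left ≫ U.hom = (Z k).hom from Over.w (g k).hom]; infer_instance
    exact WeaklyEtale.of_comp (g k).left U.hom
  let 𝒲 : U.left.Cover (Scheme.precoverage @WeaklyEtale) :=
    ⟨⟨ι, fun k => (Z k).left, fun k => (g k).left⟩,
      (Scheme.ofArrows_mem_precoverage_iff (P := @WeaklyEtale)).mpr ⟨hs, he⟩⟩
  haveI : Finite 𝒲.I₀ := inferInstanceAs (Finite ι)
  haveI : ∀ i, AlgebraicGeometry.QuasiCompact (𝒲.f i) := fun k =>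
    inferInstanceAs (QuasiCompact (show (Z k).left ⟶ U.left from (g k).left))
  haveI hqc : QuasiCompactCover 𝒲.toPreZeroHypercover := QuasiCompactCover.of_finite
  exact ⟨(Scheme.presieve₀_mem_qcPrecoverage_iff (E := 𝒲.toPreZeroHypercover)).mpr hqc, 𝒲.mem₀⟩

/-- the object given by an open piece -/
noncomputable abbrev piece (U : X.ProEt) (W : U.left.Opens) : X.ProEt := Scheme.ProEt.mk (W.ι ≫ U.hom)

/-- its inclusion -/
noncomputable abbrev pieceHom (U : X.ProEt) (W : U.left.Opens) : piece U W ⟶ U :=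
  MorphismProperty.Over.homMk W.ι rfl

/-- every covering sieve contains a clopen decomposition -/
def Decomposable (U : X.ProEt) : Prop :=
  ∀ R ∈ Scheme.ProEt.topology X U, ∃ (n : ℕ) (W : Fin n → U.left.Opens),
    (∀ k, IsClopen ((W k : Set ↥U.left))) ∧ Pairwise (fun k l => Disjoint (W k : Set ↥U.left) (W l)) ∧
    (⋃ k, (W k : Set ↥U.left)) = Set.univ ∧
    ∀ k, R.arrows (MorphismProperty.Over.homMk (W k).ι : Scheme.ProEt.mk ((W k).ι ≫ U.hom) ⟶ U)

theorem weaklyEtale_appTop {Y Z : Scheme.{u}} [IsAffine Y] [IsAffine Z] (f : Y ⟶ Z) [WeaklyEtale f] :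
    letI := f.appTop.hom.toAlgebra
    Algebra.WeaklyEtale Γ(Z, ⊤) Γ(Y, ⊤) := by
  refine (Groth.Agent.WeakEt.specMap_iff f.appTop).1 ?_
  haveI : WeaklyEtale (Spec.map f.appTop ≫ Z.isoSpec.inv) := by
    rw [Scheme.isoSpec_inv_naturality]; infer_instance
  exact WeaklyEtale.of_comp (Spec.map f.appTop) Z.isoSpec.inv

theorem decomposable_of_isWContractible (U : X.ProEt) [IsAffine U.left]
    (h : EtPBC.IsWContractible ↥(Γ(U.left, ⊤))) : Decomposable U := by
  classical
  intro R hR
  obtain ⟨n, Z, g, hZ, hgR, hs⟩ := exists_finite_affine U R hR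
  letI : ∀ k, Algebra Γ(U.left, ⊤) Γ((Z k).left, ⊤) := fun k => (g k).left.appTop.hom.toAlgebra
  haveI : ∀ k, Algebra.WeaklyEtale Γ(U.left, ⊤) Γ((Z k).left, ⊤) := fun k => by
    haveI := hZ k
    haveI : WeaklyEtale ((g k).left ≫ U.hom) := by
      rw [show (g k).left ≫ U.hom = (Z k).hom from Over.w (g k).hom]; infer_instance
    haveI := WeaklyEtale.of_comp (g k).left U.hom
    exact weaklyEtale_appTop (g k).left
  haveI := weaklyEtale_pi_fin (R := Γ(U.left, ⊤)) n (fun k => Γ((Z k).left, ⊤))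
  have hff : Module.FaithfullyFlat Γ(U.left, ⊤) (∀ k, Γ((Z k).left, ⊤)) :=
    Module.FaithfullyFlat.of_comap_surjective fun x => by
      obtain ⟨k, z, hz⟩ := hs (U.left.isoSpec.inv x)
      haveI := hZ k
      let q : PrimeSpectrum Γ((Z k).left, ⊤) := (Z k).left.isoSpec.hom z
      refine ⟨PrimeSpectrum.comap (Pi.evalRingHom (fun k => (Γ((Z k).left, ⊤) : Type u)) k) q, ?_⟩
      have h1 : (Spec.map (g k).left.appTop ≫ U.left.isoSpec.inv) ((Z k).left.isoSpec.hom z) = (g k).left z := by
        rw [Scheme.isoSpec_inv_naturality, Scheme.Hom.comp_apply, Scheme.hom_inv_apply]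
      rw [hz, Scheme.Hom.comp_apply] at h1
      have h2 := congrArg U.left.isoSpec.hom h1
      rw [Scheme.inv_hom_apply, Scheme.inv_hom_apply] at h2
      exact h2
  obtain ⟨r⟩ := h (∀ k, Γ((Z k).left, ⊤)) hff inferInstance
  let e : Fin n → Γ(U.left, ⊤) := fun k => r (Pi.single k 1)
  have he : CompleteOrthogonalIdempotents e :=
    (CompleteOrthogonalIdempotents.single fun k => (Γ((Z k).left, ⊤) : Type u)).map r.toRingHom
  refine ⟨n, fun k => U.left.basicOpen (e k), fun k => ⟨?_, (U.left.basicOpen (e k)).isOpen⟩, fun i j hij => ?_, ?_,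
    fun k => ?_⟩
  · rw [← isOpen_compl_iff]
    convert (U.left.basicOpen (1 - e k)).isOpen using 1
    ext x
    have hbot : U.left.basicOpen (e k * (1 - e k)) = ⊥ := by
      rw [mul_sub, mul_one, (he.idem k).eq, sub_self, Scheme.basicOpen_zero]
    constructor
    · intro hx
      by_contra hx'
      have htop : x ∈ U.left.basicOpen (1 : Γ(U.left, ⊤)) := by simp
      rw [show (1 : Γ(U.left, ⊤)) = e k + (1 - e k) by ring] at htop
      rcases Scheme.basicOpen_add_le _ _ _ htop with h1 | h1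
      · exact hx h1
      · exact hx' h1
    · intro hx hx'
      have : x ∈ U.left.basicOpen (e k * (1 - e k)) := by
        rw [Scheme.basicOpen_mul]; exact ⟨hx', hx⟩
      rw [hbot] at this
      exact this
  · refine Set.disjoint_left.mpr fun x hi hj => ?_
    have : x ∈ U.left.basicOpen (e i * e j) := by rw [Scheme.basicOpen_mul]; exact ⟨hi, hj⟩
    rw [he.ortho hij, Scheme.basicOpen_zero] at this
    exact this
  · rw [Set.eq_univ_iff_forall]
    intro x
    by_contra hx
    rw [Set.mem_iUnion] at hx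
    push Not at hx
    obtain ⟨p, rfl⟩ : ∃ p, U.left.isoSpec.inv p = x := ⟨U.left.isoSpec.hom x, Scheme.hom_inv_apply ..⟩
    refine (show (p : PrimeSpectrum Γ(U.left, ⊤)).asIdeal ≠ ⊤ from p.2.ne_top) ((Ideal.eq_top_iff_one _).mpr ?_)
    rw [← he.complete]
    refine Ideal.sum_mem _ fun k _ => ?_
    by_contra hk
    refine hx k ?_
    show U.left.isoSpec.inv p ∈ U.left.basicOpen (e k)
    rw [← Scheme.toSpecΓ_preimage_basicOpen]
    show U.left.isoSpec.hom (U.left.isoSpec.inv p) ∈ PrimeSpectrum.basicOpen (e k)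
    rw [Scheme.inv_hom_apply]
    exact hk
  · haveI := hZ k
    set W := U.left.basicOpen (e k)
    have hu : IsUnit (W.ι.appTop (e k)) := by
      rw [Scheme.Opens.ι_appTop]
      have := (U.left.toRingedSpace.isUnit_res_basicOpen (e k)).map
        (U.left.presheaf.map (homOfLE (le_of_eq W.ι_image_top)).op).hom
      convert this using 1
      all_goals first | rfl | exact congrArg (fun m => m.hom (e k)) (U.left.presheaf.map_comp
        (homOfLE (U.left.basicOpen_le (e k))).op (homOfLE (le_of_eq W.ι_image_top)).op)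
    have h1 : W.ι.appTop (e k) = 1 := (IsIdempotentElem.iff_eq_one_of_isUnit hu).mp ((he.idem k).map W.ι.appTop.hom)
    let φ : Γ((Z k).left, ⊤) ⟶ Γ(W.toScheme, ⊤) := CommRingCat.ofHom
      { toFun := fun b => W.ι.appTop (r (Pi.single k b))
        map_one' := h1
        map_mul' := fun a b => (congrArg (fun x => W.ι.appTop.hom (r x)) (Pi.single_mul k a b)).trans
          ((congrArg (fun x => W.ι.appTop.hom x) (map_mul r _ _)).trans (map_mul W.ι.appTop.hom _ _))
        map_zero' := (congrArg (fun x => W.ι.appTop.hom (r x)) (Pi.single_zero k)).trans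
          ((congrArg (fun x => W.ι.appTop.hom x) (map_zero r)).trans (map_zero W.ι.appTop.hom))
        map_add' := fun a b => (congrArg (fun x => W.ι.appTop.hom (r x)) (Pi.single_add k a b)).trans
          ((congrArg (fun x => W.ι.appTop.hom x) (map_add r _ _)).trans (map_add W.ι.appTop.hom _ _)) }
    let m : W.toScheme ⟶ (Z k).left := W.toScheme.toSpecΓ ≫ Spec.map φ ≫ (Z k).left.isoSpec.inv
    have hm : m ≫ (g k).left = W.ι := by
      simp only [m, Category.assoc]
      rw [← Scheme.isoSpec_inv_naturality, ← Spec.map_comp_assoc]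
      have hφ : (g k).left.appTop ≫ φ = W.ι.appTop := by
        ext a
        show W.ι.appTop (r (Pi.single k ((g k).left.appTop a))) = W.ι.appTop a
        rw [show (Pi.single k ((g k).left.appTop a) : ∀ k, Γ((Z k).left, ⊤)) =
          algebraMap Γ(U.left, ⊤) (∀ k, Γ((Z k).left, ⊤)) a * Pi.single k 1 by
            ext j
            rcases eq_or_ne j k with rfl | hj
            · simp; rfl
            · simp [hj], map_mul, r.commutes, Algebra.algebraMap_self_apply, map_mul]
        exact (congrArg _ h1).trans (mul_one _)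
      rw [hφ, ← Scheme.toSpecΓ_naturality_assoc, Scheme.toSpecΓ_isoSpec_inv, Category.comp_id]
    have hw : m ≫ (Z k).hom = W.ι ≫ U.hom := by
      rw [show (Z k).hom = (g k).left ≫ U.hom from (Over.w (g k).hom).symm, ← Category.assoc, hm]
    let mm : piece U W ⟶ Z k := MorphismProperty.Over.homMk m hw
    have : (MorphismProperty.Over.homMk W.ι : Scheme.ProEt.mk (W.ι ≫ U.hom) ⟶ U) = mm ≫ g k := by
      ext; exact hm.symm
    rw [this]
    exact R.downward_closed (hgR k) mm

/-- gluing along a clopen decomposition -/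
theorem existsUnique_glue {U : X.ProEt} {P : (X.ProEt)ᵒᵖ ⥤ Type w} (hP : Presieve.IsSheaf (Scheme.ProEt.topology X) P)
    {n : ℕ} (W : Fin n → U.left.Opens) (hd : Pairwise (fun k l => Disjoint (W k : Set ↥U.left) (W l)))
    (hc : (⋃ k, (W k : Set ↥U.left)) = Set.univ) (t : ∀ k, P.obj (op (piece U (W k)))) :
    ∃! s : P.obj (op U), ∀ k, P.map (pieceHom U (W k)).op s = t k := by
  have hmem : Sieve.ofArrows (fun k => piece U (W k)) (fun k => pieceHom U (W k)) ∈ Scheme.ProEt.topology X U := by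
    refine Precoverage.generate_mem_toGrothendieck ?_
    rw [Scheme.ProEt.precoverage, Precoverage.mem_comap_iff, Presieve.map_ofArrows]
    refine Scheme.zariskiPrecoverage_le_propQCPrecoverage _ ?_
    rw [Scheme.ofArrows_mem_precoverage_iff]
    refine ⟨fun x => ?_, fun k => inferInstanceAs (IsOpenImmersion (W k).ι)⟩
    obtain ⟨k, hk⟩ := Set.mem_iUnion.mp (hc.ge (Set.mem_univ x))
    obtain ⟨y, hy⟩ := (Scheme.Opens.range_ι (W k)).ge hk
    exact ⟨k, y, hy⟩
  refine (Presieve.isSheafFor_arrows_iff _ _).mp ((Presieve.isSheafFor_iff_generate _).mpr (hP _ hmem)) t ?_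
  intro i j V gi gj hij
  by_cases hne : i = j
  · subst hne
    have : gi = gj := by
      apply MorphismProperty.Over.Hom.ext
      have h : gi.left ≫ (W i).ι = gj.left ≫ (W i).ι := congrArg (fun f => f.left) hij
      exact (cancel_mono (W i).ι).mp h
    rw [this]
  · haveI : IsEmpty V.left := ⟨fun v => by
      have h' : gi.left ≫ (W i).ι = gj.left ≫ (W j).ι := congrArg (fun f => f.left) hij
      have h : (W i).ι (gi.left v) = (W j).ι (gj.left v) := by
        exact congrArg (fun f : V.left ⟶ U.left => f v) h'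
      refine Set.disjoint_left.mp (hd hne) ((Scheme.Opens.range_ι (W i)).le ⟨gi.left v, rfl⟩) ?_
      rw [h]
      exact (Scheme.Opens.range_ι (W j)).le ⟨gj.left v, rfl⟩⟩
    exact (hP _ (Scheme.ProEt.bot_mem_topology V)).isSeparatedFor.ext fun Y f hf => hf.elim

theorem isWC_of_decomposable (U : X.ProEt) (h : Decomposable U) : ProEtS.IsWC U := by
  intro F G φ hφ s
  haveI := hφ
  haveI : Sheaf.IsLocallySurjective φ := (Sheaf.isLocallySurjective_iff_epi φ).mpr inferInstance
  obtain ⟨n, W, -, hd, hc, hR⟩ := h _ (Presheaf.imageSieve_mem (Scheme.ProEt.topology X) φ.hom s)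
  choose t ht using hR
  have hF : Presieve.IsSheaf (Scheme.ProEt.topology X) F.obj := (isSheaf_iff_isSheaf_of_type _ _).mp F.property
  have hG : Presieve.IsSheaf (Scheme.ProEt.topology X) G.obj := (isSheaf_iff_isSheaf_of_type _ _).mp G.property
  obtain ⟨a, ha, -⟩ := existsUnique_glue hF W hd hc t
  refine ⟨a, (existsUnique_glue hG W hd hc fun k => G.obj.map (pieceHom U (W k)).op s).unique (fun k => ?_)
    fun k => rfl⟩
  rw [← NatTrans.naturality_apply φ.hom (pieceHom U (W k)).op a, ha]
  exact ht k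

theorem isWContractible_of_sections (U : X.ProEt) [IsAffine U.left]
    (h : ∀ (V : X.ProEt) (g : V ⟶ U), Sieve.generate (Presieve.singleton g) ∈ Scheme.ProEt.topology X U →
      ∃ s : U ⟶ V, s ≫ g = 𝟙 U) : EtPBC.IsWContractible ↥(Γ(U.left, ⊤)) := by
  intro B _ _ hff het
  let φ : Γ(U.left, ⊤) ⟶ CommRingCat.of B := CommRingCat.ofHom (algebraMap Γ(U.left, ⊤) B)
  haveI : WeaklyEtale (Spec.map φ) := (Groth.Agent.WeakEt.specMap_iff φ).2 (by
    change @Algebra.WeaklyEtale Γ(U.left, ⊤) B _ _ (algebraMap Γ(U.left, ⊤) B).toAlgebra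
    rw [show (algebraMap Γ(U.left, ⊤) B).toAlgebra = (inferInstance : Algebra Γ(U.left, ⊤) B) from
      Algebra.algebra_ext _ _ fun _ => rfl]
    exact het)
  haveI : Surjective (Spec.map φ) := ⟨fun x => PrimeSpectrum.comap_surjective_of_faithfullyFlat (B := B) x⟩
  let f : Spec (CommRingCat.of B) ⟶ U.left := Spec.map φ ≫ U.left.isoSpec.inv
  let V : X.ProEt := Scheme.ProEt.mk (f ≫ U.hom)
  let g : V ⟶ U := MorphismProperty.Over.homMk f rfl
  haveI : IsAffine V.left := inferInstanceAs (IsAffine (Spec (CommRingCat.of B)))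
  have hg : Sieve.generate (Presieve.singleton g) ∈ Scheme.ProEt.topology X U := by
    have hm := ofArrows_mem_topology U (ι := PUnit.{u + 1}) (fun _ => V) (fun _ => g) fun x => by
      obtain ⟨z, hz⟩ := f.surjective x
      exact ⟨⟨⟩, z, hz⟩
    rwa [Sieve.ofArrows, Presieve.ofArrows_pUnit] at hm
  obtain ⟨s, hs⟩ := h V g hg
  have hs' : s.left ≫ Spec.map φ = U.left.isoSpec.hom := by
    have h1 : s.left ≫ Spec.map φ ≫ U.left.isoSpec.inv = 𝟙 U.left := congrArg (fun m => m.left) hs
    rw [← Category.assoc, Iso.comp_inv_eq, Category.id_comp] at h1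
    exact h1
  let ψ := Spec.preimage (U.left.isoSpec.inv ≫ s.left)
  have hψ : φ ≫ ψ = 𝟙 _ := Spec.map_injective (by
    rw [Spec.map_comp, Spec.map_preimage, Category.assoc, hs', Iso.inv_hom_id, Spec.map_id])
  exact ⟨{ ψ.hom with commutes' := fun r => congr($(hψ) r) }⟩

theorem exists_section_of_isWC (U : X.ProEt) (h : ProEtS.IsWC U) (V : X.ProEt) (g : V ⟶ U)
    (hg : Sieve.generate (Presieve.singleton g) ∈ Scheme.ProEt.topology X U) : ∃ s : U ⟶ V, s ≫ g = 𝟙 U := by
  let J := Scheme.ProEt.topology X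
  let ψ : J.uliftYoneda.{u + 1}.obj V ⟶ J.uliftYoneda.{u + 1}.obj U := J.uliftYoneda.{u + 1}.map g
  haveI : Presheaf.IsLocallySurjective J ψ.hom := ⟨fun {W} x => by
    refine J.superset_covering ?_ (J.pullback_stable x.down hg)
    intro Y y hy
    obtain ⟨_, a, _, ⟨⟩, ha⟩ := hy
    exact ⟨⟨a⟩, ULift.ext _ _ ha⟩⟩
  haveI : Sheaf.IsLocallySurjective ψ := ‹_›
  obtain ⟨t, ht⟩ := h _ _ ψ inferInstance ⟨𝟙 U⟩
  exact ⟨t.down, congrArg ULift.down ht⟩

end Groth.Agent.WContr
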