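import Groth.Agent.WContr.ConstrRing
import Mathlib

/-!
The w-localization along a closed profinite subset.
-/

set_option autoImplicit false
set_option backward.isDefEq.respectTransparency false
set_option linter.style.haveILetI false
set_option synthInstance.maxHeartbeats 200000
set_option maxHeartbeats 1600000

universe u

open Topology

namespace Groth.Agent.WContr

variable {A : Type u} [CommRing A] (I : Ideal A)

/-- functions invertible along `V(I)` -/
def lSub : Submonoid (cRing A) where
  carrier := {g | ∀ x ∈ PrimeSpectrum.zeroLocus (R := A) I, g.1 x ∉ x.asIdeal}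
  one_mem' := fun x _ => x.2.one_notMem
  mul_mem' := fun {_ _} ha hb x hx h => (x.2.mem_or_mem h).elim (ha x hx) (hb x hx)

/-- functions vanishing along `V(I)` -/
def lIdeal : Ideal (cRing A) where
  carrier := {g | ∀ x ∈ PrimeSpectrum.zeroLocus (R := A) I, g.1 x ∈ x.asIdeal}
  add_mem' := fun {_ _} ha hb x hx => x.asIdeal.add_mem (ha x hx) (hb x hx)
  zero_mem' := fun x _ => x.asIdeal.zero_mem
  smul_mem' := fun c _ ha x hx => x.asIdeal.mul_mem_left (c.1 x) (ha x hx)

variable (L : Type u) [CommRing L] [Algebra A L] [Algebra (cRing A) L] [IsScalarTower A (cRing A) L]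
  [IsLocalization (lSub I) L]

/-- the closed set of the localization -/
def lSet : Set (PrimeSpectrum L) :=
  PrimeSpectrum.zeroLocus ((lIdeal I).map (algebraMap (cRing A) L) : Set L)

/-- the map from the w-localization -/
noncomputable def toL : CLoc A →+* L :=
  IsLocalization.lift (M := cSub A) (g := algebraMap (cRing A) L) fun g =>
    IsLocalization.map_units L (⟨g.1, fun x _ => g.2 x⟩ : lSub I)

theorem toL_algebraMap (g : cRing A) : toL I L (algebraMap (cRing A) (CLoc A) g) = algebraMap (cRing A) L g :=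
  IsLocalization.lift_eq _ g

/-- the image in the w-localization -/
noncomputable def toC (y : PrimeSpectrum L) : PrimeSpectrum (CLoc A) := PrimeSpectrum.comap (toL I L) y

theorem mem_toC (y : PrimeSpectrum L) (g : cRing A) :
    algebraMap (cRing A) (CLoc A) g ∈ (toC I L y).asIdeal ↔ algebraMap (cRing A) L g ∈ y.asIdeal := by
  change toL I L _ ∈ y.asIdeal ↔ _
  rw [toL_algebraMap]

theorem comap_toC (y : PrimeSpectrum L) :
    PrimeSpectrum.comap (algebraMap A (CLoc A)) (toC I L y) = PrimeSpectrum.comap (algebraMap A L) y := by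
  refine PrimeSpectrum.ext (Ideal.ext fun a => ?_)
  change algebraMap A (CLoc A) a ∈ (toC I L y).asIdeal ↔ algebraMap A L a ∈ y.asIdeal
  rw [IsScalarTower.algebraMap_apply A (cRing A) (CLoc A), IsScalarTower.algebraMap_apply A (cRing A) L]
  exact mem_toC I L y _

theorem toC_injective : Function.Injective (toC I L) := fun y y' h => by
  refine PrimeSpectrum.localization_comap_injective L (lSub I) (PrimeSpectrum.ext (Ideal.ext fun g => ?_))
  change algebraMap (cRing A) L g ∈ y.asIdeal ↔ algebraMap (cRing A) L g ∈ y'.asIdeal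
  rw [← mem_toC I L y g, ← mem_toC I L y' g, h]

theorem toC_mem_cSet {y : PrimeSpectrum L} (hy : y ∈ lSet I L) : toC I L y ∈ cSet A := by
  have hle : (cIdeal A).map (algebraMap (cRing A) (CLoc A)) ≤ (toC I L y).asIdeal :=
    Ideal.map_le_iff_le_comap.mpr fun g hg => (mem_toC I L y g).mpr (hy (Ideal.mem_map_of_mem _ fun x _ => hg x))
  exact fun z hz => hle hz

theorem comap_mem_zeroLocus {y : PrimeSpectrum L} (hy : y ∈ lSet I L) :
    PrimeSpectrum.comap (algebraMap A L) y ∈ PrimeSpectrum.zeroLocus (R := A) I := fun a ha => by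
  change algebraMap A L a ∈ y.asIdeal
  rw [IsScalarTower.algebraMap_apply A (cRing A) L]
  exact hy (Ideal.mem_map_of_mem _ fun x hx => hx ha)

theorem mem_lSet_of_isMaximal (y : PrimeSpectrum L) [hy : y.asIdeal.IsMaximal] : y ∈ lSet I L := by
  have := map_le_of_isMaximal (L := L) (lSub I) (lIdeal I) (fun g hg a s hs x hx h => hs x hx (by
    have h1 : s.1 x - a.1 x * g.1 x ∈ x.asIdeal := h
    simpa using x.asIdeal.add_mem h1 (x.asIdeal.mul_mem_left (a.1 x) (hg x hx)))) y.asIdeal
  exact fun z hz => this hz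

theorem isMaximal_of_mem_lSet {y : PrimeSpectrum L} (hy : y ∈ lSet I L) : y.asIdeal.IsMaximal := by
  obtain ⟨n, hn, hle⟩ := Ideal.exists_le_maximal y.asIdeal y.2.ne_top
  have : y = ⟨n, hn.isPrime⟩ := toC_injective I L (PrimeSpectrum.ext
    ((isMaximal_of_mem_cSet (toC_mem_cSet I L hy)).eq_of_le (toC I L ⟨n, hn.isPrime⟩).2.ne_top
      (Ideal.comap_mono hle)))
  rw [this]; exact hn

theorem closedPoints_eq_lSet : ProEtW.closedPoints (PrimeSpectrum L) = lSet I L := by
  ext y
  change IsClosed ({y} : Set _) ↔ _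
  rw [PrimeSpectrum.isClosed_singleton_iff_isMaximal]
  exact ⟨fun h => mem_lSet_of_isMaximal I L y, isMaximal_of_mem_lSet I L⟩

include I in
theorem isWLocal_l : ProEtW.IsWLocal (PrimeSpectrum L) := by
  refine ⟨inferInstance, ?_, fun x => ?_⟩
  · rw [show {y : PrimeSpectrum L | IsClosed ({y} : Set _)} = lSet I L from closedPoints_eq_lSet I L]
    exact PrimeSpectrum.isClosed_zeroLocus _
  · obtain ⟨n, hn, hxn⟩ := Ideal.exists_le_maximal x.asIdeal x.2.ne_top
    have hcl : IsClosed ({⟨n, hn.isPrime⟩} : Set (PrimeSpectrum L)) :=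
      (PrimeSpectrum.isClosed_singleton_iff_isMaximal _).mpr hn
    refine ⟨⟨n, hn.isPrime⟩, ⟨hcl, (PrimeSpectrum.le_iff_specializes _ _).mp hxn⟩, ?_⟩
    rintro y ⟨hy, hxy⟩
    have hny := (closedPoints_eq_lSet I L).le hy
    have hnn := (closedPoints_eq_lSet I L).le hcl
    refine toC_injective I L (eq_of_cChiLoc_mem_iff (toC_mem_cSet I L hny) (toC_mem_cSet I L hnn) fun H => ?_)
    exact (cChiLoc_mem_iff_of_le (y := toC I L x) (Ideal.comap_mono ((PrimeSpectrum.le_iff_specializes _ _).mpr hxy)) H).symm.trans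
      (cChiLoc_mem_iff_of_le (y := toC I L x) (y' := toC I L ⟨n, hn.isPrime⟩) (Ideal.comap_mono hxn) H)

theorem bijOn_lSet : Set.BijOn (PrimeSpectrum.comap (algebraMap A L)) (lSet I L) (PrimeSpectrum.zeroLocus (R := A) I) := by
  refine ⟨fun y hy => comap_mem_zeroLocus I L hy, fun y hy y' hy' h => toC_injective I L ?_, fun x hx => ?_⟩
  · rw [eq_cPt (toC_mem_cSet I L hy), eq_cPt (toC_mem_cSet I L hy'), comap_toC, comap_toC, h]
  · let P : Ideal (cRing A) := x.asIdeal.comap ((Pi.evalRingHom (fun _ => A) x).comp (cRing A).val.toRingHom)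
    haveI : P.IsPrime := Ideal.IsPrime.comap _
    have hd : Disjoint (lSub I : Set (cRing A)) P := Set.disjoint_left.mpr fun g hg hgP => hg x hx hgP
    obtain ⟨y, hy⟩ : (⟨P, inferInstance⟩ : PrimeSpectrum (cRing A)) ∈
        Set.range (PrimeSpectrum.comap (algebraMap (cRing A) L)) := by
      rw [PrimeSpectrum.localization_comap_range L (lSub I)]; exact hd
    have hmem : ∀ g : cRing A, algebraMap (cRing A) L g ∈ y.asIdeal ↔ g.1 x ∈ x.asIdeal := fun g => by
      change g ∈ (PrimeSpectrum.comap (algebraMap (cRing A) L) y).asIdeal ↔ _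
      rw [hy]; rfl
    refine ⟨y, ?_, PrimeSpectrum.ext (Ideal.ext fun a => ?_)⟩
    · have hle : (lIdeal I).map (algebraMap (cRing A) L) ≤ y.asIdeal :=
        Ideal.map_le_iff_le_comap.mpr fun g hg => (hmem g).mpr (hg x hx)
      exact fun z hz => hle hz
    · change algebraMap A L a ∈ y.asIdeal ↔ _
      rw [IsScalarTower.algebraMap_apply A (cRing A) L, hmem]; rfl

theorem lSet_eq_zeroLocus (hI : ProEtW.IsProfinite (PrimeSpectrum.zeroLocus (R := A) I)) :
    lSet I L = PrimeSpectrum.zeroLocus (I.map (algebraMap A L) : Set L) := by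
  haveI := hI.2.1
  ext y
  constructor
  · intro hy
    have : I.map (algebraMap A L) ≤ y.asIdeal := Ideal.map_le_iff_le_comap.mpr fun a ha => comap_mem_zeroLocus I L hy ha
    exact fun z hz => this hz
  · intro hy
    set x := PrimeSpectrum.comap (algebraMap A L) y
    have hxV : x ∈ PrimeSpectrum.zeroLocus (R := A) I := fun a ha => hy (Ideal.mem_map_of_mem _ ha)
    obtain ⟨n, hn, hle⟩ := Ideal.exists_le_maximal y.asIdeal y.2.ne_top
    let n' : PrimeSpectrum L := ⟨n, hn.isPrime⟩
    haveI : n'.asIdeal.IsMaximal := hn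
    have hn' : n' ∈ lSet I L := mem_lSet_of_isMaximal I L n'
    have hsp : x ⤳ PrimeSpectrum.comap (algebraMap A L) n' :=
      (PrimeSpectrum.le_iff_specializes _ _).mp (Ideal.comap_mono hle)
    have heq : x = PrimeSpectrum.comap (algebraMap A L) n' :=
      congrArg Subtype.val (show (⟨x, hxV⟩ : PrimeSpectrum.zeroLocus (R := A) I) = ⟨_, comap_mem_zeroLocus I L hn'⟩ from
        Specializes.eq (subtype_specializes_iff _ _ |>.mpr hsp))
    have hle' : (lIdeal I).map (algebraMap (cRing A) L) ≤ y.asIdeal := by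
      rw [Ideal.map_le_iff_le_comap]
      intro g hg
      let H : CSet A := ⟨g.1 ⁻¹' {g.1 x}, g.2.2 _⟩
      have hH : algebraMap (cRing A) L (cChi H) ∉ y.asIdeal := fun h => by
        refine (cChiLoc_mem_iff_notMem (toC_mem_cSet I L hn') H).mp ((mem_toC I L n' _).mpr (hle h)) ?_
        rw [comap_toC, ← heq]; rfl
      have h0 : cChi H * (g - algebraMap A (cRing A) (g.1 x)) = 0 := Subtype.ext (funext fun z => by
        change H.1.indicator 1 z * (g.1 z - g.1 x) = 0
        by_cases hz : z ∈ H.1
        · rw [show g.1 z = g.1 x from hz, sub_self, mul_zero]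
        · simp [hz])
      have h1 := congrArg (algebraMap (cRing A) L) h0
      rw [map_mul, map_zero] at h1
      have h2 := (y.2.mem_or_mem (h1.symm ▸ y.asIdeal.zero_mem)).resolve_left hH
      rw [map_sub, ← IsScalarTower.algebraMap_apply] at h2
      have h3 : algebraMap A L (g.1 x) ∈ y.asIdeal := hg x hxV
      simpa using y.asIdeal.add_mem h2 h3
    exact fun z hz => hle' hz

end Groth.Agent.WContr
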