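import Groth.Prelude.Def_PBC
import Mathlib

/-!
Algebras identifying local rings that are bijective over a profinite closed subset.
-/

set_option autoImplicit false
set_option backward.isDefEq.respectTransparency false
set_option linter.style.haveILetI false

universe u

namespace Groth.Agent.WContr

theorem bijective_quotientMap_of_identifiesLocalRings {A L : Type u} [CommRing A] [CommRing L] [Algebra A L]
    (I : Ideal A) (hid : EtPBC.IdentifiesLocalRings A L) [T2Space (PrimeSpectrum.zeroLocus (R := A) I)]
    (hb : Set.BijOn (PrimeSpectrum.comap (algebraMap A L)) (PrimeSpectrum.zeroLocus (I.map (algebraMap A L) : Set L))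
      (PrimeSpectrum.zeroLocus (R := A) I)) :
    Function.Bijective (Ideal.quotientMap (I.map (algebraMap A L)) (algebraMap A L) Ideal.le_comap_map) := by
  constructor
  · rw [injective_iff_map_eq_zero]
    intro z hz
    obtain ⟨a, rfl⟩ := Ideal.Quotient.mk_surjective z
    rw [Ideal.quotientMap_mk, Ideal.Quotient.eq_zero_iff_mem] at hz
    rw [Ideal.Quotient.eq_zero_iff_mem]
    let K : Ideal A :=
      { carrier := {r | r * a ∈ I}
        add_mem' := fun {x y} hx hy => by simp only [Set.mem_ofPred_eq] at *; rw [add_mul]; exact I.add_mem hx hy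
        zero_mem' := by simp
        smul_mem' := fun c x hx => by
          simp only [Set.mem_ofPred_eq, smul_eq_mul] at *; rw [mul_assoc]; exact I.mul_mem_left c hx }
    suffices K = ⊤ by simpa [K] using (Ideal.eq_top_iff_one K).mp this
    by_contra hne
    obtain ⟨m, hm, hle⟩ := Ideal.exists_le_maximal K hne
    have hmV : (⟨m, hm.isPrime⟩ : PrimeSpectrum A) ∈ PrimeSpectrum.zeroLocus (R := A) I := fun r hr =>
      hle (show r * a ∈ I from I.mul_mem_right a hr)
    obtain ⟨y, -, hyx⟩ := hb.surjOn hmV
    set p := y.asIdeal.comap (algebraMap A L)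
    have hpm : p = m := congrArg PrimeSpectrum.asIdeal hyx
    have h1 : algebraMap L (Localization.AtPrime y.asIdeal) (algebraMap A L a) ∈
        (I.map (algebraMap A (Localization.AtPrime p))).map (Localization.localRingHom p y.asIdeal (algebraMap A L) rfl) := by
      rw [Ideal.map_map, show (Localization.localRingHom p y.asIdeal (algebraMap A L) rfl).comp
          (algebraMap A (Localization.AtPrime p)) = (algebraMap L (Localization.AtPrime y.asIdeal)).comp (algebraMap A L) from
        RingHom.ext fun r => Localization.localRingHom_to_map p y.asIdeal (algebraMap A L) rfl r, ← Ideal.map_map]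
      exact Ideal.mem_map_of_mem _ hz
    rw [← Localization.localRingHom_to_map p y.asIdeal (algebraMap A L) rfl a,
      Ideal.mem_map_iff_of_surjective _ (hid y).2] at h1
    obtain ⟨w, hw, hwa⟩ := h1
    rw [(hid y).1 hwa, IsLocalization.algebraMap_mem_map_algebraMap_iff p.primeCompl] at hw
    obtain ⟨r, hr, hra⟩ := hw
    exact hr (by rw [hpm]; exact hle hra)
  · intro z
    obtain ⟨b, rfl⟩ := Ideal.Quotient.mk_surjective z
    let K : Ideal A :=
      { carrier := {r | ∃ a, algebraMap A L r * b - algebraMap A L a ∈ I.map (algebraMap A L)}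
        add_mem' := by
          rintro x y ⟨a, ha⟩ ⟨c, hc⟩
          exact ⟨a + c, by convert Ideal.add_mem _ ha hc using 1; simp only [map_add]; ring⟩
        zero_mem' := ⟨0, by simp⟩
        smul_mem' := by
          rintro d x ⟨a, ha⟩
          exact ⟨d * a, by
            convert Ideal.mul_mem_left _ (algebraMap A L d) ha using 1; simp only [smul_eq_mul, map_mul]; ring⟩ }
    suffices K = ⊤ by
      obtain ⟨a, ha⟩ := (Ideal.eq_top_iff_one K).mp this
      rw [map_one, one_mul] at ha
      exact ⟨Ideal.Quotient.mk I a, by rw [Ideal.quotientMap_mk]; exact (Ideal.Quotient.eq.mpr ha).symm⟩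
    by_contra hne
    obtain ⟨m, hm, hle⟩ := Ideal.exists_le_maximal K hne
    have hmV : (⟨m, hm.isPrime⟩ : PrimeSpectrum A) ∈ PrimeSpectrum.zeroLocus (R := A) I := fun r hr =>
      hle ⟨0, by rw [map_zero, sub_zero]; exact Ideal.mul_mem_right b _ (Ideal.mem_map_of_mem _ hr)⟩
    obtain ⟨y, hy, hyx⟩ := hb.surjOn hmV
    set p := y.asIdeal.comap (algebraMap A L)
    have hpm : p = m := congrArg PrimeSpectrum.asIdeal hyx
    obtain ⟨w, hw⟩ := (hid y).2 (algebraMap L (Localization.AtPrime y.asIdeal) b)
    obtain ⟨a, r, rfl⟩ := IsLocalization.exists_mk'_eq p.primeCompl w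
    have h1 := congrArg (Localization.localRingHom p y.asIdeal (algebraMap A L) rfl)
      (IsLocalization.mk'_spec (Localization.AtPrime p) a r)
    rw [map_mul, hw, Localization.localRingHom_to_map, Localization.localRingHom_to_map, ← map_mul] at h1
    obtain ⟨⟨s, hs⟩, hsz⟩ := (IsLocalization.eq_iff_exists y.asIdeal.primeCompl (Localization.AtPrime y.asIdeal)).mp h1
    -- `V(IL) → V(I)` is a homeomorphism
    haveI : CompactSpace (PrimeSpectrum.zeroLocus (I.map (algebraMap A L) : Set L)) :=
      isCompact_iff_compactSpace.mp (PrimeSpectrum.isClosed_zeroLocus _).isCompact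
    let q : PrimeSpectrum.zeroLocus (I.map (algebraMap A L) : Set L) → PrimeSpectrum.zeroLocus (R := A) I :=
      fun v => ⟨PrimeSpectrum.comap (algebraMap A L) v.1, hb.mapsTo v.2⟩
    have hq : IsHomeomorph q := isHomeomorph_iff_continuous_bijective.mpr
      ⟨((PrimeSpectrum.continuous_comap _).comp continuous_subtype_val).subtype_mk _,
        fun v v' h => Subtype.ext (hb.injOn v.2 v'.2 (congrArg Subtype.val h)),
        fun x => by
          obtain ⟨v, hv, hvx⟩ := hb.surjOn x.2
          exact ⟨⟨v, hv⟩, Subtype.ext hvx⟩⟩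
    obtain ⟨O, hO, hOq⟩ := isOpen_induced_iff.mp (hq.isOpenMap _
      ((PrimeSpectrum.basicOpen s).2.preimage
        (continuous_subtype_val : Continuous fun v : PrimeSpectrum.zeroLocus (I.map (algebraMap A L) : Set L) => v.1)))
    have hyO : PrimeSpectrum.comap (algebraMap A L) y ∈ O := by
      have : q ⟨y, hy⟩ ∈ Subtype.val ⁻¹' O := hOq.ge ⟨⟨y, hy⟩, hs, rfl⟩
      exact this
    obtain ⟨_, ⟨r', rfl⟩, hyr', hr'O⟩ :=
      PrimeSpectrum.isTopologicalBasis_basic_opens.exists_subset_of_mem_open hyO hO
    have hrad : algebraMap A L r' ∈ (Ideal.span {s} ⊔ I.map (algebraMap A L)).radical := by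
      rw [Ideal.radical_eq_sInf, Ideal.mem_sInf]
      rintro P ⟨hP, hPp⟩
      by_contra hr'P
      have hv : (⟨P, hPp⟩ : PrimeSpectrum L) ∈ PrimeSpectrum.zeroLocus (I.map (algebraMap A L) : Set L) :=
        fun t ht => hP (Ideal.mem_sup_right ht)
      have h2 : q ⟨_, hv⟩ ∈ Subtype.val ⁻¹' O := hr'O hr'P
      obtain ⟨v, hvs, hvq⟩ := hOq.le h2
      exact hvs ((hq.injective hvq) ▸ hP (Ideal.mem_sup_left (Ideal.mem_span_singleton_self s)))
    obtain ⟨N, hN⟩ := hrad
    obtain ⟨u, hu, t, ht, hut⟩ := Submodule.mem_sup.mp hN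
    obtain ⟨c, rfl⟩ := Ideal.mem_span_singleton'.mp hu
    have hmem : r' ^ N * r.1 ∈ K := by
      refine ⟨r' ^ N * a, ?_⟩
      have e : algebraMap A L (r' ^ N * r.1) * b - algebraMap A L (r' ^ N * a) =
          t * (b * algebraMap A L r.1 - algebraMap A L a) := by
        simp only at hsz
        rw [map_mul, map_mul, map_pow]
        linear_combination (algebraMap A L a - algebraMap A L r.1 * b) * hut + c * hsz
      rw [e]
      exact Ideal.mul_mem_right _ _ ht
    refine (hm.isPrime.mem_or_mem (hle hmem)).elim (fun h => hyr' ?_) (fun h => r.2 ((SetLike.ext_iff.mp hpm _).mpr h))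
    change r' ∈ p
    rw [hpm]
    exact hm.isPrime.mem_of_pow_mem N h

end Groth.Agent.WContr
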