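import Groth.Agent.WContr.ConstrRing
import Mathlib

/-!
Universal property of the w-localization.
-/

set_option autoImplicit false
set_option backward.isDefEq.respectTransparency false
set_option linter.style.haveILetI false
set_option synthInstance.maxHeartbeats 200000
set_option maxHeartbeats 1600000

universe u

open Topology

namespace Groth.Agent.WContr

section clopen

variable {A B : Type u} [CommRing A] [CommRing B]

theorem isCompact_preimage_comap (f : A →+* B) {U : Set (PrimeSpectrum A)} (hc : IsCompact U) (ho : IsOpen U) :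
    IsCompact (PrimeSpectrum.comap f ⁻¹' U) := by
  classical
  obtain ⟨s, rfl⟩ := PrimeSpectrum.isCompact_isOpen_iff.mp ⟨hc, ho⟩
  refine (PrimeSpectrum.isCompact_isOpen_iff.mpr ⟨s.image f, ?_⟩).1
  rw [Set.preimage_compl, PrimeSpectrum.preimage_comap_zeroLocus, Finset.coe_image]

theorem exists_idempotent_closedPoints (hB : ProEtW.IsWLocal (PrimeSpectrum B)) (f : A →+* B)
    {C : Set (PrimeSpectrum A)} (hC : IsConstructible C) :
    ∃ e : B, IsIdempotentElem e ∧ ∀ n : PrimeSpectrum B, IsClosed ({n} : Set (PrimeSpectrum B)) →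
      (e ∉ n.asIdeal ↔ PrimeSpectrum.comap f n ∈ C) := by
  haveI : CompactSpace (ProEtW.closedPoints (PrimeSpectrum B)) :=
    isCompact_iff_compactSpace.mp (hB.2.1 : IsClosed _).isCompact
  haveI := t2Space_closedPoints hB
  let p : ProEtW.closedPoints (PrimeSpectrum B) → PrimeSpectrum A := fun n => PrimeSpectrum.comap f n.1
  have key : IsClopen (p ⁻¹' C) := by
    induction hC using IsConstructible.empty_union_induction with
    | open_retrocompact U hUo hUc =>
      have hpo : IsOpen (p ⁻¹' U) :=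
        hUo.preimage ((PrimeSpectrum.continuous_comap f).comp continuous_subtype_val)
      refine ⟨IsCompact.isClosed ?_, hpo⟩
      have h2 := (isCompact_preimage_comap f hUc.isCompact hUo).inter_right (hB.2.1 : IsClosed _)
      rw [Subtype.isCompact_iff]
      convert h2 using 1
      ext x
      exact ⟨fun ⟨y, hy, e⟩ => e ▸ ⟨hy, y.2⟩, fun ⟨hx, hx'⟩ => ⟨⟨x, hx'⟩, hx, rfl⟩⟩
    | union s hs t ht h1 h2 => exact h1.union h2
    | compl s hs h1 => exact h1.compl
  let h := (isHomeomorph_mk_closedPoints hB).homeomorph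
  have hcl : IsClopen (_root_.ConnectedComponents.mk ⁻¹' (h '' (p ⁻¹' C)) : Set (PrimeSpectrum B)) :=
    IsClopen.preimage (⟨h.isClosedMap _ key.1, h.isOpenMap _ key.2⟩ : IsClopen (h '' (p ⁻¹' C)))
      ConnectedComponents.continuous_coe
  obtain ⟨e, he, heq⟩ := PrimeSpectrum.exists_idempotent_basicOpen_eq_of_isClopen hcl
  refine ⟨e, he, fun n hn => ?_⟩
  have h1 : n ∈ (PrimeSpectrum.basicOpen e : Set (PrimeSpectrum B)) ↔
      h ⟨n, hn⟩ ∈ h '' (p ⁻¹' C) := by rw [← heq]; rfl
  rw [h.injective.mem_set_image] at h1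
  exact h1

theorem eq_of_forall_closed {b c : B} (h : ∀ n : PrimeSpectrum B, IsClosed ({n} : Set (PrimeSpectrum B)) →
    algebraMap B (Localization.AtPrime n.asIdeal) b = algebraMap B (Localization.AtPrime n.asIdeal) c) : b = c := by
  rw [← sub_eq_zero]
  by_contra hne
  let K : Ideal B :=
    { carrier := {t | t * (b - c) = 0}
      add_mem' := fun {x y} hx hy => by simp only [Set.mem_ofPred_eq] at *; rw [add_mul, hx, hy, add_zero]
      zero_mem' := zero_mul _
      smul_mem' := fun r x hx => by simp only [Set.mem_ofPred_eq, smul_eq_mul] at *; rw [mul_assoc, hx, mul_zero] }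
  obtain ⟨m, hm, hle⟩ := Ideal.exists_le_maximal K fun htop => hne (by
    have : (1 : B) ∈ K := htop ▸ trivial
    simpa [K] using this)
  haveI := hm.isPrime
  obtain ⟨⟨t, ht⟩, htb⟩ := (IsLocalization.eq_iff_exists m.primeCompl (Localization.AtPrime m)).mp
    (h ⟨m, hm.isPrime⟩ ((PrimeSpectrum.isClosed_singleton_iff_isMaximal _).mpr hm))
  exact ht (hle (show t * (b - c) = 0 by rw [mul_sub, htb, sub_self]))

theorem algebraMap_idem_eq (n : PrimeSpectrum B) {e : B} (he : IsIdempotentElem e) :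
    (e ∉ n.asIdeal → algebraMap B (Localization.AtPrime n.asIdeal) e = 1) ∧
      (e ∈ n.asIdeal → algebraMap B (Localization.AtPrime n.asIdeal) e = 0) := by
  refine ⟨fun h => ?_, fun h => ?_⟩
  · exact (IsIdempotentElem.iff_eq_one_of_isUnit
      (IsLocalization.map_units (Localization.AtPrime n.asIdeal) (⟨e, h⟩ : n.asIdeal.primeCompl))).mp (he.map _)
  · refine (IsLocalization.map_eq_zero_iff n.asIdeal.primeCompl _ _).mpr ⟨⟨1 - e, fun h1 => n.2.one_notMem ?_⟩, ?_⟩
    · simpa using n.asIdeal.add_mem h1 h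
    · show (1 - e) * e = 0
      rw [sub_mul, one_mul, he.eq, sub_self]

theorem isSpectralMap_comap (f : A →+* B) : IsSpectralMap (PrimeSpectrum.comap f) :=
  { toContinuous := PrimeSpectrum.continuous_comap f
    isCompact_preimage_of_isOpen := fun _ ho hc => isCompact_preimage_comap f hc ho }

end clopen

section univ

variable (A : Type u) [CommRing A] (B : Type u) [CommRing B] [Algebra A B]

theorem exists_algHom_cRing (hB : ProEtW.IsWLocal (PrimeSpectrum B)) :
    ∃ ψ : cRing A →ₐ[A] B, ∀ (g : cRing A) (n : PrimeSpectrum B), IsClosed ({n} : Set (PrimeSpectrum B)) →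
      algebraMap B (Localization.AtPrime n.asIdeal) (ψ g) =
        algebraMap A (Localization.AtPrime n.asIdeal) (g.1 (PrimeSpectrum.comap (algebraMap A B) n)) := by
  classical
  let N : Type u := {n : PrimeSpectrum B // IsClosed ({n} : Set (PrimeSpectrum B))}
  let ι : B →ₐ[A] ∀ n : N, Localization.AtPrime n.1.asIdeal :=
    AlgHom.pi fun n => IsScalarTower.toAlgHom A B (Localization.AtPrime n.1.asIdeal)
  have hι : Function.Injective ι := fun b c h => eq_of_forall_closed fun n hn => congrFun h ⟨n, hn⟩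
  let Φ : cRing A →ₐ[A] ∀ n : N, Localization.AtPrime n.1.asIdeal :=
    AlgHom.pi fun n => (IsScalarTower.toAlgHom A A (Localization.AtPrime n.1.asIdeal)).comp
      ((Pi.evalAlgHom A (fun _ => A) (PrimeSpectrum.comap (algebraMap A B) n.1)).comp (cRing A).val)
  have hmem : ∀ g, Φ g ∈ ι.range := fun g => by
    choose e he he' using fun a => exists_idempotent_closedPoints hB (algebraMap A B) (g.2.2 a)
    refine ⟨∑ a ∈ g.2.1.toFinset, e a * algebraMap A B a, funext fun n => ?_⟩
    set x := PrimeSpectrum.comap (algebraMap A B) n.1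
    show algebraMap B (Localization.AtPrime n.1.asIdeal) (∑ a ∈ g.2.1.toFinset, e a * algebraMap A B a) =
      algebraMap A (Localization.AtPrime n.1.asIdeal) (g.1 x)
    rw [map_sum, Finset.sum_eq_single (g.1 x)]
    · rw [map_mul, (algebraMap_idem_eq n.1 (he _)).1 ((he' _ n.1 n.2).mpr rfl), one_mul,
        ← IsScalarTower.algebraMap_apply]
    · intro a _ ha
      rw [map_mul, (algebraMap_idem_eq n.1 (he a)).2 (not_not.mp fun h => ha ((he' a n.1 n.2).mp h).symm), zero_mul]
    · exact fun h => absurd (g.2.1.mem_toFinset.mpr ⟨x, rfl⟩) h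
  refine ⟨(AlgEquiv.ofInjective ι hι).symm.toAlgHom.comp (Φ.codRestrict ι.range hmem), fun g n hn => ?_⟩
  have := congrArg Subtype.val ((AlgEquiv.ofInjective ι hι).apply_symm_apply (Φ.codRestrict ι.range hmem g))
  exact congrFun this ⟨n, hn⟩

omit [Algebra A B] in
theorem mem_iff_of_algebraMap_eq (n : PrimeSpectrum B) {b c : B}
    (h : algebraMap B (Localization.AtPrime n.asIdeal) b = algebraMap B (Localization.AtPrime n.asIdeal) c) :
    b ∈ n.asIdeal ↔ c ∈ n.asIdeal := by
  obtain ⟨⟨t, ht⟩, htb⟩ := (IsLocalization.eq_iff_exists n.asIdeal.primeCompl (Localization.AtPrime n.asIdeal)).mp h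
  exact ⟨fun hb => (n.2.mem_or_mem (htb ▸ n.asIdeal.mul_mem_left t hb : t * c ∈ n.asIdeal)).resolve_left ht,
    fun hc => (n.2.mem_or_mem (htb.symm ▸ n.asIdeal.mul_mem_left t hc : t * b ∈ n.asIdeal)).resolve_left ht⟩

variable {A B}

theorem mem_iff_value {ψ : cRing A →ₐ[A] B} (hψ : ∀ (g : cRing A) (n : PrimeSpectrum B),
      IsClosed ({n} : Set (PrimeSpectrum B)) → algebraMap B (Localization.AtPrime n.asIdeal) (ψ g) =
        algebraMap A (Localization.AtPrime n.asIdeal) (g.1 (PrimeSpectrum.comap (algebraMap A B) n)))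
    (g : cRing A) (n : PrimeSpectrum B) (hn : IsClosed ({n} : Set (PrimeSpectrum B))) :
    ψ g ∈ n.asIdeal ↔
      g.1 (PrimeSpectrum.comap (algebraMap A B) n) ∈ (PrimeSpectrum.comap (algebraMap A B) n).asIdeal := by
  refine mem_iff_of_algebraMap_eq B n ?_
  rw [hψ g n hn, IsScalarTower.algebraMap_apply A B]

theorem eq_of_chi {ψ : cRing A →ₐ[A] B} (hψ : ∀ (g : cRing A) (n : PrimeSpectrum B),
      IsClosed ({n} : Set (PrimeSpectrum B)) → algebraMap B (Localization.AtPrime n.asIdeal) (ψ g) =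
        algebraMap A (Localization.AtPrime n.asIdeal) (g.1 (PrimeSpectrum.comap (algebraMap A B) n)))
    (ψ' : cRing A →ₐ[A] B) (h : ∀ (H : CSet A) (n : PrimeSpectrum B), IsClosed ({n} : Set (PrimeSpectrum B)) →
      PrimeSpectrum.comap (algebraMap A B) n ∈ H.1 → ψ' (cChi H) ∉ n.asIdeal) (g : cRing A) : ψ' g = ψ g := by
  refine eq_of_forall_closed fun n hn => ?_
  rw [hψ g n hn]
  set x := PrimeSpectrum.comap (algebraMap A B) n
  let H : CSet A := ⟨g.1 ⁻¹' {g.1 x}, g.2.2 _⟩
  have h0 : cChi H * g = cChi H * algebraMap A (cRing A) (g.1 x) := Subtype.ext (funext fun z => by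
    change H.1.indicator 1 z * g.1 z = H.1.indicator 1 z * g.1 x
    by_cases hz : z ∈ H.1
    · rw [show g.1 z = g.1 x from hz]
    · simp [hz])
  have h1 := congrArg (fun t => algebraMap B (Localization.AtPrime n.asIdeal) (ψ' t)) h0
  simp only [map_mul, AlgHom.commutes, ← IsScalarTower.algebraMap_apply A B (Localization.AtPrime n.asIdeal)] at h1
  exact (IsLocalization.map_units (Localization.AtPrime n.asIdeal)
    (⟨ψ' (cChi H), h H n hn rfl⟩ : n.asIdeal.primeCompl)).mul_left_cancel h1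

variable (A B)

theorem comap_mem_cSet (φ : CLoc A →ₐ[A] B) (n : PrimeSpectrum B)
    (h : ∀ g ∈ cIdeal A, φ (algebraMap (cRing A) (CLoc A) g) ∈ n.asIdeal) :
    PrimeSpectrum.comap φ.toRingHom n ∈ cSet A := by
  refine fun z hz => ?_
  have hle : (cIdeal A).map (algebraMap (cRing A) (CLoc A)) ≤ n.asIdeal.comap φ.toRingHom :=
    Ideal.map_le_iff_le_comap.mpr fun g hg => h g hg
  exact hle hz

theorem chi_notMem_of_comap_mem (φ : CLoc A →ₐ[A] B) (n : PrimeSpectrum B)
    (hy : PrimeSpectrum.comap φ.toRingHom n ∈ cSet A) (H : CSet A)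
    (hx : PrimeSpectrum.comap (algebraMap A B) n ∈ H.1) : φ (cChiLoc H) ∉ n.asIdeal := by
  intro hmem
  refine (cChiLoc_mem_iff_notMem hy H).mp hmem ?_
  have hyx : PrimeSpectrum.comap (algebraMap A (CLoc A)) (PrimeSpectrum.comap φ.toRingHom n) =
      PrimeSpectrum.comap (algebraMap A B) n :=
    PrimeSpectrum.ext (Ideal.ext fun a => by
      change φ (algebraMap A (CLoc A) a) ∈ n.asIdeal ↔ _
      rw [φ.commutes]; rfl)
  rw [hyx]; exact hx

theorem isWLocalMap_of_forall (φ : CLoc A →ₐ[A] B)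
    (h : ∀ (n : PrimeSpectrum B), IsClosed ({n} : Set (PrimeSpectrum B)) → ∀ g ∈ cIdeal A,
      φ (algebraMap (cRing A) (CLoc A) g) ∈ n.asIdeal) :
    ProEtW.IsWLocalMap (PrimeSpectrum.comap φ.toRingHom) := by
  refine ⟨isSpectralMap_comap (A := CLoc A) (B := B) φ.toRingHom, fun n hn => ?_⟩
  exact (PrimeSpectrum.isClosed_singleton_iff_isMaximal _).mpr
    (isMaximal_of_mem_cSet (comap_mem_cSet A B φ n (h n hn)))

theorem existsUnique_algHom_cLoc (hB : ProEtW.IsWLocal (PrimeSpectrum B)) :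
    ∃! φ : CLoc A →ₐ[A] B, ProEtW.IsWLocalMap (PrimeSpectrum.comap φ.toRingHom) := by
  obtain ⟨ψ, hψ⟩ := exists_algHom_cRing A B hB
  have hu : ∀ g : cSub A, IsUnit (ψ g) := fun g => by
    by_contra h
    obtain ⟨m, hm, hgm⟩ := exists_max_ideal_of_mem_nonunits (mem_nonunits_iff.mpr h)
    exact g.2 _ ((mem_iff_value hψ g ⟨m, hm.isPrime⟩
      ((PrimeSpectrum.isClosed_singleton_iff_isMaximal _).mpr hm)).mp hgm)
  let φ : CLoc A →ₐ[A] B := IsLocalization.liftAlgHom (M := cSub A) (f := ψ) hu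
  have hφ : ∀ g, φ (algebraMap (cRing A) (CLoc A) g) = ψ g := fun g => IsLocalization.lift_eq _ g
  have h1 : ∀ (n : PrimeSpectrum B), IsClosed ({n} : Set (PrimeSpectrum B)) → ∀ g ∈ cIdeal A,
      φ (algebraMap (cRing A) (CLoc A) g) ∈ n.asIdeal := fun n hn g hg => by
    rw [hφ]; exact (mem_iff_value hψ g n hn).mpr (hg _)
  refine ⟨φ, isWLocalMap_of_forall A B φ h1, fun φ' hφ' => ?_⟩
  refine IsLocalization.algHom_ext (cSub A) (AlgHom.ext fun g => ?_)
  refine (eq_of_chi hψ (φ'.comp (IsScalarTower.toAlgHom A (cRing A) (CLoc A))) (fun H n hn hx => ?_) g).trans (hφ g).symm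
  haveI : (PrimeSpectrum.comap φ'.toRingHom n).asIdeal.IsMaximal :=
    (PrimeSpectrum.isClosed_singleton_iff_isMaximal _).mp (hφ'.2 n hn)
  exact chi_notMem_of_comap_mem A B φ' n (mem_cSet_of_isMaximal _) H hx

end univ

end Groth.Agent.WContr
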