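import Groth.Prelude.Def_ProEtW
import Groth.Agent.WLocalPi0.Basic
import Groth.Agent.WLocalFib.Basic
import Mathlib

/-!
Closed points of a w-local space, and extremally disconnected spaces along local homeomorphisms.
-/

set_option autoImplicit false
set_option linter.style.haveILetI false

universe u

open Topology

namespace Groth.Agent.WContr

theorem extremallyDisconnected_of_openMap {X Y : Type u} [TopologicalSpace X] [TopologicalSpace Y]
    [ExtremallyDisconnected X] {f : Y → X} (hc : Continuous f) (ho : IsOpenMap f)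
    (hinj : ∀ y, ∃ V : Set Y, IsOpen V ∧ y ∈ V ∧ Set.InjOn f V) : ExtremallyDisconnected Y := by
  constructor
  intro U hU
  rw [isOpen_iff_forall_mem_open]
  intro y hy
  obtain ⟨V, hV, hyV, hVinj⟩ := hinj y
  refine ⟨V ∩ f ⁻¹' closure (f '' (V ∩ U)), fun y' hy' => ?_,
    hV.inter ((ExtremallyDisconnected.open_closure _ (ho _ (hV.inter hU))).preimage hc), hyV,
    image_closure_subset_closure_image hc ⟨y, hV.inter_closure ⟨hyV, hy⟩, rfl⟩⟩
  rw [mem_closure_iff]
  intro O hO hyO
  obtain ⟨x, ⟨a, ⟨haO, haV⟩, rfl⟩, b, ⟨hbV, hbU⟩, hab⟩ :=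
    mem_closure_iff.mp hy'.2 _ (ho _ (hO.inter hV)) ⟨y', ⟨hyO, hy'.1⟩, rfl⟩
  exact ⟨a, haO, hVinj hbV haV hab ▸ hbU⟩

section

variable {X : Type u} [TopologicalSpace X] (hX : ProEtW.IsWLocal X)
include hX

theorem bijective_mk_closedPoints :
    Function.Bijective (fun x : ProEtW.closedPoints X => (ConnectedComponents.mk x.1 : ConnectedComponents X)) := by
  refine ⟨fun a b h => Subtype.ext ?_, fun z => ?_⟩
  · exact (Groth.Agent.WLocalPi0.eq_of_isClosed_of_mem_connectedComponent hX a.2 b.2
      (ConnectedComponents.coe_eq_coe'.mp h.symm)).symm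
  · obtain ⟨x, rfl⟩ := ConnectedComponents.surjective_coe z
    obtain ⟨y, ⟨hy, hxy⟩, -⟩ := hX.2.2 x
    exact ⟨⟨y, hy⟩, ConnectedComponents.coe_eq_coe'.mpr
      (isClosed_connectedComponent.closure_subset_iff.mpr (Set.singleton_subset_iff.mpr mem_connectedComponent)
        hxy.mem_closure)⟩

theorem isHomeomorph_mk_closedPoints :
    IsHomeomorph (fun x : ProEtW.closedPoints X => (ConnectedComponents.mk x.1 : ConnectedComponents X)) := by
  obtain ⟨hs, hC, -⟩ := id hX
  haveI := Groth.Agent.WLocalFib.t2Space_connectedComponents (X := X)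
  haveI : CompactSpace (ProEtW.closedPoints X) := isCompact_iff_compactSpace.mp (hC : IsClosed _).isCompact
  exact isHomeomorph_iff_continuous_bijective.mpr
    ⟨ConnectedComponents.continuous_coe.comp continuous_subtype_val, bijective_mk_closedPoints hX⟩

theorem t2Space_closedPoints : T2Space (ProEtW.closedPoints X) :=
  haveI := hX.1
  haveI := Groth.Agent.WLocalFib.t2Space_connectedComponents (X := X)
  (isHomeomorph_mk_closedPoints hX).homeomorph.symm.t2Space

theorem extremallyDisconnected_closedPoints_iff :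
    ExtremallyDisconnected (ProEtW.closedPoints X) ↔ ExtremallyDisconnected (ConnectedComponents X) := by
  let e := (isHomeomorph_mk_closedPoints hX).homeomorph
  exact ⟨fun _ => extremallyDisconnected_of_openMap e.symm.continuous e.symm.isOpenMap fun _ =>
      ⟨Set.univ, isOpen_univ, trivial, e.symm.injective.injOn⟩,
    fun _ => extremallyDisconnected_of_openMap e.continuous e.isOpenMap fun _ =>
      ⟨Set.univ, isOpen_univ, trivial, e.injective.injOn⟩⟩

end

end Groth.Agent.WContr
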