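import Groth.Prelude.Def_ProEtW
import Groth.Agent.IndEtLib.Retract
import Mathlib

/-!
Étale retractions in filtered colimits where every stagewise cover acquires a point.
-/

set_option autoImplicit false
set_option backward.isDefEq.respectTransparency false
set_option linter.style.haveILetI false

universe u

open CategoryTheory CategoryTheory.Limits TensorProduct Polynomial

namespace Groth.Agent.WContr

section Pair

variable {R C : Type u} [CommRing R] [CommRing C] [Algebra R C]

/-- the base algebra structure on a standard étale algebra -/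
noncomputable abbrev algRingBase (P : StandardEtalePair C) : Algebra R P.Ring :=
  ((algebraMap C P.Ring).comp (algebraMap R C)).toAlgebra

attribute [local instance 50] algRingBase

/-- lift a standard étale pair with coefficients in the image -/
theorem exists_lift_pair_of_lifts (P : StandardEtalePair C) (hf : P.f ∈ Polynomial.lifts (algebraMap R C))
    (hg : P.g ∈ Polynomial.lifts (algebraMap R C)) :
    ∃ Q : StandardEtalePair R, Q.HasMap P.X ∧ P.HasMap ((1 : C) ⊗ₜ[R] Q.X : C ⊗[R] Q.Ring) := by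
  haveI : IsScalarTower R C P.Ring := IsScalarTower.of_algebraMap_eq fun _ => rfl
  rcases subsingleton_or_nontrivial C with hsub | hnt
  · haveI : Subsingleton P.Ring := Module.subsingleton C _
    let Q₁ : StandardEtalePair R := ⟨1, monic_one, 1, 1, 1, 1, by simp⟩
    haveI : Subsingleton (C ⊗[R] Q₁.Ring) := Module.subsingleton C _
    exact ⟨Q₁, ⟨Subsingleton.elim _ _, isUnit_of_subsingleton _⟩,
      ⟨Subsingleton.elim _ _, isUnit_of_subsingleton _⟩⟩
  obtain ⟨F, hF, -, hFm⟩ := Polynomial.lifts_and_degree_eq_and_monic hf P.monic_f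
  obtain ⟨G, hG⟩ := hg
  replace hG : G.map (algebraMap R C) = P.g := hG
  refine ⟨⟨F, hFm, G * derivative F, G, 0, 1, by ring⟩, ⟨?_, ?_⟩, ?_⟩
  · rw [← aeval_map_algebraMap C, hF]
    exact P.hasMap_X.1
  · rw [map_mul, ← aeval_map_algebraMap C _ G, ← aeval_map_algebraMap C _ (derivative F), ← derivative_map, hF, hG]
    exact P.hasMap_X.2.mul P.hasMap_X.isUnit_derivative_f
  · let Q : StandardEtalePair R := ⟨F, hFm, G * derivative F, G, 0, 1, by ring⟩
    have hX := Q.hasMap_X.map (Algebra.TensorProduct.includeRight : Q.Ring →ₐ[R] C ⊗[R] Q.Ring)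
    have h1 := hX.1
    have h2 := hX.2
    rw [Algebra.TensorProduct.includeRight_apply, ← aeval_map_algebraMap C] at h1 h2
    rw [hF] at h1
    rw [Polynomial.map_mul, map_mul, hG] at h2
    exact ⟨h1, isUnit_of_mul_isUnit_left h2⟩

end Pair

variable {J : Type u} [SmallCategory J] [IsFiltered J] {D : J ⥤ CommRingCat.{u}} (c : Cocone D) (hc : IsColimit c)

include hc in
theorem exists_stage (x : c.pt) : ∃ (j : J) (y : D.obj j), c.ι.app j y = x :=
  Types.jointly_surjective _ (isColimitOfPreserves (forget CommRingCat) hc) x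

include hc in
theorem exists_stage_eq {j : J} (y y' : D.obj j) (h : c.ι.app j y = c.ι.app j y') :
    ∃ (k : J) (f : j ⟶ k), D.map f y = D.map f y' :=
  (Types.FilteredColimit.isColimit_eq_iff' (isColimitOfPreserves (forget CommRingCat) hc) y y').mp h

omit [IsFiltered J] in
theorem map_app {j k : J} (f : j ⟶ k) (y : D.obj j) : c.ι.app k (D.map f y) = c.ι.app j y :=
  ConcreteCategory.congr_hom (c.w f) y

omit [IsFiltered J] in
theorem mem_lifts_mono {j k : J} (f : j ⟶ k) {p : (c.pt : CommRingCat)[X]}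
    (h : p ∈ Polynomial.lifts (c.ι.app j).hom) : p ∈ Polynomial.lifts (c.ι.app k).hom := by
  obtain ⟨q, rfl⟩ := h
  refine ⟨q.map (D.map f).hom, ?_⟩
  rw [coe_mapRingHom, Polynomial.map_map, ← CommRingCat.hom_comp, c.w f]
  rfl

include hc in
theorem exists_lifts (p : (c.pt : CommRingCat)[X]) : ∃ j : J, p ∈ Polynomial.lifts (c.ι.app j).hom := by
  induction p using Polynomial.induction_on' with
  | add p q hp hq =>
    obtain ⟨i, hi⟩ := hp
    obtain ⟨j, hj⟩ := hq
    exact ⟨IsFiltered.max i j, add_mem (mem_lifts_mono c (IsFiltered.leftToMax i j) hi)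
      (mem_lifts_mono c (IsFiltered.rightToMax i j) hj)⟩
  | monomial n a =>
    obtain ⟨j, y, rfl⟩ := exists_stage c hc a
    exact ⟨j, monomial n y, Polynomial.map_monomial _⟩

include hc in
theorem exists_map_eq_top {j : J} (K : Ideal (D.obj j)) (hK : K.map (c.ι.app j).hom = ⊤) :
    ∃ (k : J) (f : j ⟶ k), K.map (D.map f).hom = ⊤ := by
  have key : ∀ z ∈ K.map (c.ι.app j).hom, ∃ (k : J) (f : j ⟶ k), ∃ x ∈ K.map (D.map f).hom, c.ι.app k x = z := by
    intro z hz
    rw [Ideal.map] at hz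
    induction hz using Submodule.span_induction with
    | mem w hw =>
      obtain ⟨a, ha, rfl⟩ := hw
      exact ⟨j, 𝟙 j, D.map (𝟙 j) a, Ideal.mem_map_of_mem _ ha, map_app c _ a⟩
    | zero => exact ⟨j, 𝟙 j, 0, zero_mem _, map_zero _⟩
    | add v w _ _ hv hw =>
      obtain ⟨k, f, x, hx, rfl⟩ := hv
      obtain ⟨k', f', x', hx', rfl⟩ := hw
      obtain ⟨l, g, g', hgg⟩ := IsFiltered.span f f'
      refine ⟨l, f ≫ g, D.map g x + D.map g' x', add_mem ?_ ?_, by rw [map_add, map_app, map_app]⟩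
      · rw [D.map_comp, CommRingCat.hom_comp, ← Ideal.map_map]
        exact Ideal.mem_map_of_mem _ hx
      · rw [hgg, D.map_comp, CommRingCat.hom_comp, ← Ideal.map_map]
        exact Ideal.mem_map_of_mem _ hx'
    | smul r w _ hw =>
      obtain ⟨k, f, x, hx, rfl⟩ := hw
      obtain ⟨k', y, rfl⟩ := exists_stage c hc r
      refine ⟨IsFiltered.max k k', f ≫ IsFiltered.leftToMax k k',
        D.map (IsFiltered.rightToMax k k') y * D.map (IsFiltered.leftToMax k k') x, Ideal.mul_mem_left _ _ ?_,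
        by rw [map_mul, map_app, map_app, smul_eq_mul]⟩
      rw [D.map_comp, CommRingCat.hom_comp, ← Ideal.map_map]
      exact Ideal.mem_map_of_mem _ hx
  obtain ⟨k, f, x, hx, hx1⟩ := key 1 (hK ▸ Submodule.mem_top)
  obtain ⟨l, g, hg⟩ := exists_stage_eq c hc x 1 (hx1.trans (map_one _).symm)
  refine ⟨l, f ≫ g, (Ideal.eq_top_iff_one _).mpr ?_⟩
  rw [D.map_comp, CommRingCat.hom_comp, ← Ideal.map_map, ← map_one (D.map g).hom, ← hg]
  exact Ideal.mem_map_of_mem _ hx

include hc in
/-- A filtered colimit in which every faithfully flat étale algebra over a stage gets a point has étale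
retractions. -/
theorem hasEtaleRetractions_of_colimit
    (h : ∀ (j : J) (E : Type u) [CommRing E] [Algebra (D.obj j) E], Algebra.Etale (D.obj j) E →
      Module.FaithfullyFlat (D.obj j) E → ∃ φ : E →+* c.pt, φ.comp (algebraMap (D.obj j) E) = (c.ι.app j).hom) :
    ProEtW.HasEtaleRetractions c.pt := by
  intro B _ _ hff het
  classical
  choose s hs hstd using fun Q : PrimeSpectrum B => Algebra.IsEtaleAt.exists_isStandardEtale (R := c.pt) Q.asIdeal
  let P := fun Q => (hstd Q).nonempty_standardEtalePresentation.some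
  obtain ⟨t, ht⟩ := isCompact_univ.elim_finite_subcover (fun Q => (PrimeSpectrum.basicOpen (s Q) : Set (PrimeSpectrum B)))
    (fun Q => (PrimeSpectrum.basicOpen (s Q)).isOpen) (fun Q _ => Set.mem_iUnion.mpr ⟨Q, hs Q⟩)
  choose jf hjf using fun Q => exists_lifts c hc (P Q).P.f
  choose jg hjg using fun Q => exists_lifts c hc (P Q).P.g
  obtain ⟨j, hj⟩ := IsFiltered.sup_objs_exists (t.image jf ∪ t.image jg)
  letI : Algebra (D.obj j) c.pt := (c.ι.app j).hom.toAlgebra
  have hL : ∀ i : t, ∃ L : StandardEtalePair (D.obj j),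
      (letI := algRingBase (R := D.obj j) (P i.1).P; L.HasMap (P i.1).P.X) ∧
        (P i.1).P.HasMap ((1 : c.pt) ⊗ₜ[D.obj j] L.X : c.pt ⊗[D.obj j] L.Ring) := fun i => by
    obtain ⟨f₁⟩ := hj (Finset.mem_union_left _ (Finset.mem_image_of_mem jf i.2))
    obtain ⟨f₂⟩ := hj (Finset.mem_union_right _ (Finset.mem_image_of_mem jg i.2))
    exact exists_lift_pair_of_lifts (P i.1).P (mem_lifts_mono c f₁ (hjf i.1)) (mem_lifts_mono c f₂ (hjg i.1))
  choose L hL hL' using hL
  let C₁ := ∀ i : t, (L i).Ring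
  let U : Set (PrimeSpectrum (D.obj j)) := ⋃ i : t, Set.range (PrimeSpectrum.comap (algebraMap (D.obj j) (L i).Ring))
  have hU : IsOpen U := isOpen_iUnion fun i =>
    PrimeSpectrum.isOpenMap_comap_of_hasGoingDown_of_finitePresentation.isOpen_range
  have hCU : ∀ q : PrimeSpectrum c.pt, PrimeSpectrum.comap (algebraMap (D.obj j) c.pt) q ∈ U := by
    intro q
    obtain ⟨Q, rfl⟩ := PrimeSpectrum.comap_surjective_of_faithfullyFlat (B := B) q
    obtain ⟨Q₀, hQ₀, hQQ⟩ := Set.mem_iUnion₂.mp (ht (Set.mem_univ Q))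
    obtain ⟨Q', hQ'⟩ : Q ∈ Set.range (PrimeSpectrum.comap (algebraMap B (Localization.Away (s Q₀)))) := by
      rw [PrimeSpectrum.localization_away_comap_range (Localization.Away (s Q₀)) (s Q₀)]; exact hQQ
    letI := algRingBase (R := D.obj j) (P Q₀).P
    haveI : IsScalarTower (D.obj j) c.pt (P Q₀).P.Ring := IsScalarTower.of_algebraMap_eq fun _ => rfl
    let ψ : (L ⟨Q₀, hQ₀⟩).Ring →+* Localization.Away (s Q₀) :=
      (P Q₀).equivRing.symm.toAlgHom.toRingHom.comp ((L ⟨Q₀, hQ₀⟩).lift _ (hL ⟨Q₀, hQ₀⟩)).toRingHom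
    refine Set.mem_iUnion.mpr ⟨⟨Q₀, hQ₀⟩, PrimeSpectrum.comap ψ Q', ?_⟩
    rw [← hQ', ← PrimeSpectrum.comap_comp_apply, ← PrimeSpectrum.comap_comp_apply, ← PrimeSpectrum.comap_comp_apply]
    congr 1
    ext a
    show (P Q₀).equivRing.symm ((L ⟨Q₀, hQ₀⟩).lift _ (hL ⟨Q₀, hQ₀⟩) (algebraMap (D.obj j) (L ⟨Q₀, hQ₀⟩).Ring a)) = _
    rw [AlgHom.commutes, IsScalarTower.algebraMap_apply (D.obj j) c.pt (P Q₀).P.Ring, AlgEquiv.commutes]
    exact IsScalarTower.algebraMap_apply c.pt B (Localization.Away (s Q₀)) _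
  obtain ⟨K, hK⟩ := (PrimeSpectrum.isClosed_iff_zeroLocus_ideal _).mp hU.isClosed_compl
  have hKtop : K.map (c.ι.app j).hom = ⊤ := by
    by_contra hne
    obtain ⟨q, hq, hle⟩ := Ideal.exists_le_maximal _ hne
    exact (hK.ge (show PrimeSpectrum.comap (algebraMap (D.obj j) c.pt) ⟨q, hq.isPrime⟩ ∈ PrimeSpectrum.zeroLocus (K : Set _) from
      Ideal.map_le_iff_le_comap.mp hle)) (hCU ⟨q, hq.isPrime⟩)
  obtain ⟨k, f, hf⟩ := exists_map_eq_top c hc K hKtop
  letI : Algebra (D.obj j) (D.obj k) := (D.map f).hom.toAlgebra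
  let E := D.obj k ⊗[D.obj j] C₁
  haveI : Algebra.Etale (D.obj j) C₁ := inferInstance
  haveI : Algebra.Etale (D.obj k) E := inferInstance
  have hE : Module.FaithfullyFlat (D.obj k) E := Module.FaithfullyFlat.of_comap_surjective fun p => by
    have hp : PrimeSpectrum.comap (algebraMap (D.obj j) (D.obj k)) p ∈ U := by
      by_contra hp
      refine p.2.ne_top (top_le_iff.mp (hf.ge.trans (Ideal.map_le_iff_le_comap.mpr ?_)))
      exact hK.le hp
    obtain ⟨i, q', hq'⟩ := Set.mem_iUnion.mp hp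
    rw [← Set.mem_range, ← PrimeSpectrum.nontrivial_iff_mem_rangeComap]
    let q : PrimeSpectrum C₁ := PrimeSpectrum.comap (Pi.evalRingHom (fun i : t => (L i).Ring) i) q'
    let p₀ := PrimeSpectrum.comap (algebraMap (D.obj j) (D.obj k)) p
    have hq : PrimeSpectrum.comap (algebraMap (D.obj j) C₁) q = p₀ := by
      rw [show p₀ = PrimeSpectrum.comap (algebraMap (D.obj j) (L i).Ring) q' from hq'.symm]
      rfl
    haveI h0 : Nontrivial (p₀.asIdeal.ResidueField ⊗[D.obj j] C₁) :=
      (PrimeSpectrum.nontrivial_iff_mem_rangeComap p₀).mpr ⟨q, hq⟩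
    letI : Algebra p₀.asIdeal.ResidueField p.asIdeal.ResidueField :=
      (Ideal.ResidueField.map p₀.asIdeal p.asIdeal (algebraMap (D.obj j) (D.obj k)) rfl).toAlgebra
    haveI : IsScalarTower (D.obj j) p₀.asIdeal.ResidueField p.asIdeal.ResidueField :=
      IsScalarTower.of_algebraMap_eq fun a => by
        rw [IsScalarTower.algebraMap_apply (D.obj j) (D.obj k) p.asIdeal.ResidueField]
        exact (Ideal.ResidueField.map_algebraMap _ _ _ _ a).symm
    haveI : Module.Free p₀.asIdeal.ResidueField p.asIdeal.ResidueField := Module.Free.of_divisionRing _ _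
    haveI : Module.FaithfullyFlat p₀.asIdeal.ResidueField p.asIdeal.ResidueField :=
      Module.FaithfullyFlat.instOfNontrivialOfFree _ _
    haveI : Nontrivial (p.asIdeal.ResidueField ⊗[p₀.asIdeal.ResidueField] (p₀.asIdeal.ResidueField ⊗[D.obj j] C₁)) :=
      Module.FaithfullyFlat.lTensor_nontrivial _ _ _
    exact ((Algebra.TensorProduct.cancelBaseChange (D.obj j) p₀.asIdeal.ResidueField p.asIdeal.ResidueField
        p.asIdeal.ResidueField C₁).toEquiv.trans
      (Algebra.TensorProduct.cancelBaseChange (D.obj j) (D.obj k) p.asIdeal.ResidueField p.asIdeal.ResidueField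
        C₁).symm.toEquiv).symm.nontrivial
  obtain ⟨φ, hφ⟩ := h k E inferInstance hE
  let φ' : C₁ →ₐ[D.obj j] c.pt :=
    { φ.comp (Algebra.TensorProduct.includeRight : C₁ →ₐ[D.obj j] E).toRingHom with
      commutes' := fun r => by
        show φ ((1 : D.obj k) ⊗ₜ[D.obj j] algebraMap (D.obj j) C₁ r) = (c.ι.app j).hom r
        rw [show ((1 : D.obj k) ⊗ₜ[D.obj j] algebraMap (D.obj j) C₁ r : E) =
          algebraMap (D.obj k) E (algebraMap (D.obj j) (D.obj k) r) by
            rw [Algebra.algebraMap_eq_smul_one, ← TensorProduct.smul_tmul, Algebra.TensorProduct.algebraMap_apply,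
              Algebra.algebraMap_self_apply, Algebra.smul_def, mul_one]]
        exact (RingHom.congr_fun hφ _).trans (map_app c f r) }
  let g : ∀ i : t, B →ₐ[c.pt] c.pt ⊗[D.obj j] (L i).Ring := fun i =>
    ((P i.1).P.lift _ (hL' i)).comp ((P i.1).equivRing.toAlgHom.comp (IsScalarTower.toAlgHom c.pt B _))
  let ev : c.pt ⊗[D.obj j] C₁ →ₐ[c.pt] c.pt := Algebra.TensorProduct.lift (AlgHom.id _ _) φ' fun _ _ => .all _ _
  exact ⟨(ev.comp (Algebra.TensorProduct.piRight (D.obj j) c.pt c.pt fun i : t => (L i).Ring).symm.toAlgHom).comp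
    (AlgHom.pi g)⟩

end Groth.Agent.WContr
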