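import Groth.Agent.WContr.Cover
import Groth.Agent.WContr.RetrColimit

/-!
A faithfully flat ind-étale extension with étale retractions.
-/

set_option autoImplicit false
set_option backward.isDefEq.respectTransparency false
set_option linter.style.haveILetI false

universe u

open CategoryTheory CategoryTheory.Limits TensorProduct

namespace Groth.Agent.WContr

variable (A : Type u) [CommRing A]

/-- the iteration -/
noncomputable def iter : ℕ → Under (CommRingCat.of A)
  | 0 => Under.mk (CommRingCat.ofHom (algebraMap A A))
  | n + 1 => Under.mk ((iter n).hom ≫ CommRingCat.ofHom (algebraMap (iter n).right (Cover (iter n).right)))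

/-- one step -/
noncomputable def iterStep (n : ℕ) : iter A n ⟶ iter A (n + 1) :=
  Under.homMk (CommRingCat.ofHom (algebraMap (iter A n).right (Cover (iter A n).right))) rfl

/-- the tower -/
noncomputable def tower : ULift.{u} ℕ ⥤ Under (CommRingCat.of A) :=
  (Monotone.functor (f := (ULift.down : ULift.{u} ℕ → ℕ)) fun _ _ h => h) ⋙ Functor.ofSequence (iterStep A)

theorem step_props (R : Type u) [CommRing R] [Algebra A R] (h1 : EtPBC.IsIndEtale A R) (h2 : Module.FaithfullyFlat A R) :
    EtPBC.IsIndEtale A (Cover R) ∧ Module.FaithfullyFlat A (Cover R) :=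
  ⟨Groth.Agent.IndEtLib.isIndEtale_trans A R (Cover R) h1 (isIndEtale_cover R),
    by haveI := h2; haveI := faithfullyFlat_cover R; exact Module.FaithfullyFlat.trans A R (Cover R)⟩

theorem iter_props (n : ℕ) :
    letI := (iter A n).hom.hom.toAlgebra
    EtPBC.IsIndEtale A (iter A n).right ∧ Module.FaithfullyFlat A (iter A n).right := by
  induction n with
  | zero =>
    letI := (iter A 0).hom.hom.toAlgebra
    have e : (iter A 0).hom.hom.toAlgebra = (Algebra.id A) := Algebra.algebra_ext _ _ fun _ => rfl
    refine ⟨?_, ?_⟩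
    · show @EtPBC.IsIndEtale A A _ _ (iter A 0).hom.hom.toAlgebra
      rw [e]
      exact isIndEtale_self A
    · show @Module.FaithfullyFlat A A _ _ (iter A 0).hom.hom.toAlgebra.toModule
      rw [e]
      exact inferInstanceAs (Module.FaithfullyFlat A A)
  | succ n ih =>
    letI : Algebra A (iter A n).right := (iter A n).hom.hom.toAlgebra
    obtain ⟨h1, h2⟩ := ih
    have e : (iter A (n + 1)).hom.hom.toAlgebra =
        (inferInstance : Algebra A (Cover (iter A n).right)) := Algebra.algebra_ext _ _ fun r =>
      (IsScalarTower.algebraMap_apply A (iter A n).right (Cover (iter A n).right) r).symm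
    obtain ⟨h3, h4⟩ := step_props A (iter A n).right h1 h2
    refine ⟨?_, ?_⟩
    · show @EtPBC.IsIndEtale A (Cover (iter A n).right) _ _ (iter A (n + 1)).hom.hom.toAlgebra
      rw [e]; exact h3
    · show @Module.FaithfullyFlat A (Cover (iter A n).right) _ _ (iter A (n + 1)).hom.hom.toAlgebra.toModule
      rw [e]; exact h4

/-- Every ring has a faithfully flat ind-étale extension with étale retractions. -/
theorem exists_hasEtaleRetractions : ∃ (C : Type u) (_ : CommRing C) (_ : Algebra A C),
    Module.FaithfullyFlat A C ∧ EtPBC.IsIndEtale A C ∧ ProEtW.HasEtaleRetractions C := by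
  let c := colimit.cocone (tower A)
  let hc : IsColimit c := colimit.isColimit (tower A)
  letI : Algebra A c.pt.right := c.pt.hom.hom.toAlgebra
  haveI : IsFiltered (ULift.{u} ℕ) := inferInstance
  haveI := IsFiltered.isConnected (ULift.{u} ℕ)
  have hind : EtPBC.IsIndEtale A c.pt.right :=
    Groth.Agent.IndEtLib.isIndEtale_of_colimit A c.pt.right (tower A) (fun j => (iter_props A j.down).1) c hc
      (Under.isoMk (Iso.refl _) rfl)
  let D := tower A ⋙ Under.forget _
  let c' : Cocone D := (Under.forget _).mapCocone c
  have hc' : IsColimit c' := isColimitOfPreserves (Under.forget (CommRingCat.of A)) hc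
  have hff : Module.FaithfullyFlat A c.pt.right := by
    haveI := Groth.Agent.IndEtLib.flat hind
    refine ⟨fun m hm htop => ?_⟩
    have h1 : m.map c.pt.hom.hom = ⊤ := by
      rw [Ideal.smul_top_eq_map, Submodule.restrictScalars_eq_top_iff] at htop
      exact htop
    let j₀ : ULift.{u} ℕ := ⟨0⟩
    have hw : ((tower A).obj j₀).hom.hom = RingHom.id A := rfl
    have h2 : (m.map ((tower A).obj j₀).hom.hom).map (c'.ι.app j₀).hom = ⊤ := by
      rw [Ideal.map_map]
      have e : (c'.ι.app j₀).hom.comp ((tower A).obj j₀).hom.hom = c.pt.hom.hom :=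
        congrArg CommRingCat.Hom.hom (Under.w (c.ι.app j₀))
      rw [e]; exact h1
    obtain ⟨k, f, hk⟩ := exists_map_eq_top c' hc' _ h2
    rw [Ideal.map_map] at hk
    have e : (D.map f).hom.comp ((tower A).obj j₀).hom.hom = ((tower A).obj k).hom.hom :=
      congrArg CommRingCat.Hom.hom (Under.w ((tower A).map f))
    have hk' : m.map ((tower A).obj k).hom.hom = ⊤ := by rw [← e]; exact hk
    letI := ((tower A).obj k).hom.hom.toAlgebra
    haveI : Module.FaithfullyFlat A ((tower A).obj k).right := (iter_props A k.down).2
    refine hm.ne_top ?_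
    rw [← Ideal.comap_map_eq_self_of_faithfullyFlat (B := ((tower A).obj k).right) m]
    exact (congrArg (Ideal.comap _) hk').trans (Ideal.comap_top)
  refine ⟨c.pt.right, inferInstance, inferInstance, hff, hind, ?_⟩
  refine hasEtaleRetractions_of_colimit c' hc' fun j E _ _ het hE => ?_
  haveI := het
  obtain ⟨ψ⟩ := exists_algHom_cover (D.obj j) E hE
  let j' : ULift.{u} ℕ := ⟨j.down + 1⟩
  let f : j ⟶ j' := homOfLE (Nat.le_succ j.down : j.down ≤ j.down + 1)
  refine ⟨(c'.ι.app j').hom.comp ψ.toRingHom, ?_⟩
  refine RingHom.ext fun a => ?_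
  refine (congrArg (c'.ι.app j').hom (ψ.commutes a)).trans (Eq.trans (congrArg (c'.ι.app j').hom ?_) (map_app c' f a))
  show algebraMap (iter A j.down).right (Cover (iter A j.down).right) a =
    ((Functor.ofSequence (iterStep A)).map (homOfLE (Nat.le_succ j.down : j.down ≤ j.down + 1))).right a
  rw [Functor.ofSequence_map_homOfLE_succ]
  rfl

end Groth.Agent.WContr
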