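import Groth.Prelude.Def_PBC
import Groth.Prelude.Def_ProEtW
import Groth.Prelude.Def_EtBase
import Groth.Agent.Olivier.Main
import Groth.Agent.WLocalPi0.Basic
import Groth.Agent.ProfinSpec.Basic
import Groth.Agent.WLocalFib.Basic

/-!
A w-local ring with extremally disconnected components and strictly henselian local rings is w-contractible.
-/

set_option autoImplicit false
set_option backward.isDefEq.respectTransparency false
set_option linter.style.haveILetI false

universe u

open Topology IsLocalRing

namespace Groth.Agent.WContr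

variable {A B : Type u} [CommRing A] [CommRing B] [Algebra A B]

/-- weakly étale algebras are locally isomorphic to the base over a strictly henselian point -/
theorem bijective_localRingHom [Algebra.WeaklyEtale A B] (m : Ideal A) [m.IsMaximal]
    (hA : EtCoh.IsStrictlyHenselianLocalRing (Localization.AtPrime m)) (q : Ideal B) [q.IsPrime]
    (hq : m = q.comap (algebraMap A B)) :
    Function.Bijective (Localization.localRingHom m q (algebraMap A B) hq) := by
  obtain ⟨_, _⟩ := hA
  let φ := Localization.localRingHom m q (algebraMap A B) hq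
  letI : Algebra (Localization.AtPrime m) (Localization.AtPrime q) := φ.toAlgebra
  haveI : IsScalarTower A (Localization.AtPrime m) (Localization.AtPrime q) := IsScalarTower.of_algebraMap_eq fun a => by
    rw [RingHom.algebraMap_toAlgebra, IsScalarTower.algebraMap_apply A B (Localization.AtPrime q)]
    exact (Localization.localRingHom_to_map m q (algebraMap A B) hq a).symm
  haveI : IsLocalHom (algebraMap (Localization.AtPrime m) (Localization.AtPrime q)) :=
    Localization.isLocalHom_localRingHom m q (algebraMap A B) hq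
  haveI : Algebra.WeaklyEtale A (Localization.AtPrime m) := Groth.Agent.Olivier.weaklyEtale_localization _
  haveI : Algebra.WeaklyEtale B (Localization.AtPrime q) := Groth.Agent.Olivier.weaklyEtale_localization _
  haveI : Algebra.WeaklyEtale A (Localization.AtPrime q) := .trans A B _
  haveI : Algebra.WeaklyEtale (Localization.AtPrime m) (Localization.AtPrime q) :=
    Groth.Agent.WeakEt.weaklyEtale_of_comp A _ _
  exact Groth.Agent.Olivier.bijective_algebraMap

/-- primes over maximal ideals are maximal -/
theorem isMaximal_of_comap (hbij : ∀ (m : Ideal A) [m.IsMaximal] (q : Ideal B) [q.IsPrime]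
      (hq : m = q.comap (algebraMap A B)), Function.Bijective (Localization.localRingHom m q (algebraMap A B) hq))
    (q : Ideal B) [q.IsPrime] (hq : (q.comap (algebraMap A B)).IsMaximal) : q.IsMaximal := by
  obtain ⟨q', hq', hle⟩ := Ideal.exists_le_maximal q ‹q.IsPrime›.ne_top
  have hcomap : q.comap (algebraMap A B) = q'.comap (algebraMap A B) :=
    hq.eq_of_le (Ideal.comap_ne_top _ hq'.ne_top) (Ideal.comap_mono hle)
  let m := q.comap (algebraMap A B)
  suffices q' ≤ q by rwa [le_antisymm hle this]
  intro b hb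
  obtain ⟨z, hz⟩ := (hbij m q' hcomap).2 (algebraMap B _ b)
  obtain ⟨a, ⟨t, ht⟩, rfl⟩ := IsLocalization.exists_mk'_eq m.primeCompl z
  rw [Localization.localRingHom_mk', IsLocalization.mk'_eq_iff_eq_mul, ← map_mul,
    IsLocalization.eq_iff_exists q'.primeCompl] at hz
  obtain ⟨⟨c, hc⟩, heq⟩ := hz
  have ha : a ∈ m := by
    rw [show m = q'.comap (algebraMap A B) from hcomap, Ideal.mem_comap]
    exact (hq'.isPrime.mem_or_mem (show c * algebraMap A B a ∈ q' from heq ▸ q'.mul_mem_left c (q'.mul_mem_right _ hb))).resolve_left hc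
  have : c * (b * algebraMap A B t) ∈ q := heq ▸ q.mul_mem_left c ha
  rcases ‹q.IsPrime›.mem_or_mem this with h | h
  · exact absurd (hle h) hc
  · exact (‹q.IsPrime›.mem_or_mem h).resolve_right ht

theorem eq_of_localization_eq {a a' : A}
    (h : ∀ (m : Ideal A) [m.IsMaximal], ∃ c : A, c ∉ m ∧ c * a = c * a') : a = a' := by
  rw [← sub_eq_zero]
  by_contra hne
  obtain ⟨m, hm, hle⟩ := Ideal.exists_le_maximal (Submodule.colon ⊥ ({a - a'} : Set A)) (fun htop => hne (by
    have h1 := Submodule.mem_colon_singleton.mp (htop ▸ Submodule.mem_top : (1 : A) ∈ _)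
    rw [one_smul, Submodule.mem_bot] at h1
    exact h1))
  obtain ⟨c, hc, heq⟩ := h m
  exact hc (hle (Submodule.mem_colon_singleton.mpr (by simp [mul_sub, heq])))

theorem nonempty_retraction_of_bijective [Module.FaithfullyFlat A B] (hw : ProEtW.IsWLocal (PrimeSpectrum A))
    [ExtremallyDisconnected (_root_.ConnectedComponents (PrimeSpectrum A))]
    (hbij : ∀ (m : Ideal A) [m.IsMaximal] (q : Ideal B) [q.IsPrime]
      (hq : m = q.comap (algebraMap A B)), Function.Bijective (Localization.localRingHom m q (algebraMap A B) hq)) :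
    Nonempty (B →ₐ[A] A) := by
  classical
  have hwl := hw
  obtain ⟨_, hC, hu⟩ := hw
  let C : Set (PrimeSpectrum A) := {x | IsClosed ({x} : Set (PrimeSpectrum A))}
  let I : Ideal B := (PrimeSpectrum.vanishingIdeal C).map (algebraMap A B)
  let g₀ : PrimeSpectrum (B ⧸ I) → PrimeSpectrum A :=
    fun y => PrimeSpectrum.comap (algebraMap A B) (PrimeSpectrum.comap (Ideal.Quotient.mk I) y)
  have hg₀ : ∀ y, g₀ y ∈ C := fun y => by
    rw [← (show IsClosed C from hC).closure_eq, ← PrimeSpectrum.zeroLocus_vanishingIdeal_eq_closure,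
      PrimeSpectrum.mem_zeroLocus]
    intro a ha
    change Ideal.Quotient.mk I (algebraMap A B a) ∈ y.asIdeal
    rw [Ideal.Quotient.eq_zero_iff_mem.mpr (Ideal.mem_map_of_mem _ ha)]
    exact y.asIdeal.zero_mem
  have hYmax : ∀ y : PrimeSpectrum (B ⧸ I), y.asIdeal.IsMaximal := fun y => by
    haveI := isMaximal_of_comap hbij (PrimeSpectrum.comap (Ideal.Quotient.mk I) y).asIdeal
      ((PrimeSpectrum.isClosed_singleton_iff_isMaximal _).mp (hg₀ y))
    rw [← Ideal.map_comap_of_surjective _ Ideal.Quotient.mk_surjective y.asIdeal]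
    refine (Ideal.map_eq_top_or_isMaximal_of_surjective _ Ideal.Quotient.mk_surjective this).resolve_left ?_
    rw [show (PrimeSpectrum.comap (Ideal.Quotient.mk I) y).asIdeal = y.asIdeal.comap (Ideal.Quotient.mk I) from rfl,
      Ideal.map_comap_of_surjective _ Ideal.Quotient.mk_surjective y.asIdeal]
    exact y.2.ne_top
  obtain ⟨-, _, -⟩ := Groth.Agent.ProfinSpec.isProfinite_of_forall_isMaximal hYmax
  haveI := Groth.Agent.WLocalFib.t2Space_connectedComponents (X := PrimeSpectrum A)
  let g : PrimeSpectrum (B ⧸ I) → _root_.ConnectedComponents (PrimeSpectrum A) :=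
    ConnectedComponents.mk ∘ g₀
  have hgc : Continuous g := ConnectedComponents.continuous_coe.comp
    ((PrimeSpectrum.continuous_comap _).comp (PrimeSpectrum.continuous_comap _))
  have hinj : ∀ x ∈ C, ∀ x' ∈ C, ConnectedComponents.mk x' = ConnectedComponents.mk x → x' = x :=
    fun x hx x' hx' h => Groth.Agent.WLocalPi0.eq_of_isClosed_of_mem_connectedComponent hwl hx hx'
      (ConnectedComponents.coe_eq_coe'.mp h)
  have hgs : Function.Surjective g := fun z => by
    obtain ⟨x₀, rfl⟩ := ConnectedComponents.surjective_coe z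
    obtain ⟨x, ⟨hx, hx₀⟩, -⟩ := hu x₀
    obtain ⟨q, hq⟩ := PrimeSpectrum.comap_surjective_of_faithfullyFlat (B := B) x
    have hI : I ≤ q.asIdeal := Ideal.map_le_iff_le_comap.mpr fun a ha => by
      have := (PrimeSpectrum.mem_vanishingIdeal _ _).mp ha x hx
      rwa [← hq] at this
    obtain ⟨y, hy⟩ : q ∈ Set.range (PrimeSpectrum.comap (Ideal.Quotient.mk I)) := by
      rw [range_comap_of_surjective _ _ Ideal.Quotient.mk_surjective, Ideal.mk_ker]; exact hI
    refine ⟨y, ?_⟩
    change ConnectedComponents.mk (PrimeSpectrum.comap (algebraMap A B) (PrimeSpectrum.comap _ y)) = _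
    rw [hy, hq]
    exact ConnectedComponents.coe_eq_coe'.mpr
      (isClosed_connectedComponent.closure_subset_iff.mpr (Set.singleton_subset_iff.mpr mem_connectedComponent)
        hx₀.mem_closure)
  obtain ⟨s₀, hs₀c, hs₀⟩ :=
    CompactT2.ExtremallyDisconnected.projective (A := _root_.ConnectedComponents (PrimeSpectrum A))
      continuous_id hgc hgs
  let σ : _root_.ConnectedComponents (PrimeSpectrum A) → PrimeSpectrum B :=
    fun z => PrimeSpectrum.comap (Ideal.Quotient.mk I) (s₀ z)
  let μ : _root_.ConnectedComponents (PrimeSpectrum A) → PrimeSpectrum A :=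
    fun z => PrimeSpectrum.comap (algebraMap A B) (σ z)
  have hσc : Continuous σ := (PrimeSpectrum.continuous_comap _).comp hs₀c
  have hμc : Continuous μ := (PrimeSpectrum.continuous_comap _).comp hσc
  have hμmk : ∀ z, ConnectedComponents.mk (μ z) = z := fun z => congrFun hs₀ z
  have hμmax : ∀ z, (μ z).asIdeal.IsMaximal := fun z =>
    (PrimeSpectrum.isClosed_singleton_iff_isMaximal _).mp (hg₀ (s₀ z))
  have hall : ∀ (m : Ideal A) [m.IsMaximal], ∃ z, (μ z).asIdeal = m := fun m hm => by
    let x : PrimeSpectrum A := ⟨m, hm.isPrime⟩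
    refine ⟨ConnectedComponents.mk x, ?_⟩
    have := hinj x ((PrimeSpectrum.isClosed_singleton_iff_isMaximal x).mpr hm) (μ (ConnectedComponents.mk x))
      (hg₀ _) (hμmk _)
    rw [this]
  -- `a` represents `b` along the section
  let Rep : B → A → Prop := fun b a => ∀ z, ∃ c, c ∉ (σ z).asIdeal ∧ c * b = c * algebraMap A B a
  have huniq : ∀ b a a', Rep b a → Rep b a' → a = a' := fun b a a' h h' => by
    refine eq_of_localization_eq fun m hm => ?_
    obtain ⟨z, hz⟩ := hall m
    obtain ⟨c, hc, hca⟩ := h z
    obtain ⟨c', hc', hca'⟩ := h' z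
    have hm' : m = (σ z).asIdeal.comap (algebraMap A B) := hz.symm
    have h1 : algebraMap A (Localization.AtPrime m) a = algebraMap A _ a' := by
      apply (hbij m (σ z).asIdeal hm').1
      rw [Localization.localRingHom_to_map, Localization.localRingHom_to_map,
        IsLocalization.eq_iff_exists (σ z).asIdeal.primeCompl]
      refine ⟨⟨c * c', (σ z).asIdeal.primeCompl.mul_mem hc hc'⟩, ?_⟩
      linear_combination c * hca' - c' * hca
    obtain ⟨⟨t, ht⟩, h2⟩ := (IsLocalization.eq_iff_exists m.primeCompl _).mp h1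
    exact ⟨t, ht, h2⟩
  have hex : ∀ b, ∃ a, Rep b a := fun b => by
    let K : Ideal A :=
      { carrier := {e | ∃ a, Rep (algebraMap A B e * b) a}
        add_mem' := by
          rintro e e' ⟨a, ha⟩ ⟨a', ha'⟩
          refine ⟨a + a', fun z => ?_⟩
          obtain ⟨c, hc, h1⟩ := ha z
          obtain ⟨c', hc', h2⟩ := ha' z
          exact ⟨c * c', (σ z).asIdeal.primeCompl.mul_mem hc hc', by
            rw [map_add, map_add]; linear_combination c' * h1 + c * h2⟩
        zero_mem' := ⟨0, fun z => ⟨1, (σ z).2.one_notMem, by simp⟩⟩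
        smul_mem' := by
          rintro r e ⟨a, ha⟩
          refine ⟨r * a, fun z => ?_⟩
          obtain ⟨c, hc, h1⟩ := ha z
          exact ⟨c, hc, by rw [smul_eq_mul, map_mul, map_mul]; linear_combination algebraMap A B r * h1⟩ }
    suffices hK : K = ⊤ by
      obtain ⟨a, ha⟩ : (1 : A) ∈ K := hK ▸ Submodule.mem_top
      exact ⟨a, by simpa [Rep] using ha⟩
    by_contra hne
    obtain ⟨m, hm, hle⟩ := Ideal.exists_le_maximal K hne
    obtain ⟨z, hz⟩ := hall m
    have hm' : m = (σ z).asIdeal.comap (algebraMap A B) := hz.symm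
    obtain ⟨w, hw⟩ := (hbij m (σ z).asIdeal hm').2 (algebraMap B _ b)
    obtain ⟨a, ⟨t, ht⟩, rfl⟩ := IsLocalization.exists_mk'_eq m.primeCompl w
    rw [Localization.localRingHom_mk', IsLocalization.mk'_eq_iff_eq_mul, ← map_mul,
      IsLocalization.eq_iff_exists (σ z).asIdeal.primeCompl] at hw
    obtain ⟨⟨u, hu'⟩, heq⟩ := hw
    let O : Set (_root_.ConnectedComponents (PrimeSpectrum A)) :=
      σ ⁻¹' (PrimeSpectrum.basicOpen u : Set (PrimeSpectrum B))
    obtain ⟨W, hW, hzW, hWO⟩ := compact_exists_isClopen_in_isOpen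
      ((PrimeSpectrum.basicOpen u).isOpen.preimage hσc : IsOpen O) (show z ∈ O from hu')
    obtain ⟨e, he, heW⟩ :=
      PrimeSpectrum.exists_idempotent_basicOpen_eq_of_isClopen (hW.preimage ConnectedComponents.continuous_coe)
    have hin : ∀ y, y ∈ W ↔ e ∉ (μ y).asIdeal := fun y => by
      conv_lhs => rw [← hμmk y]
      exact Set.ext_iff.mp heW (μ y)
    have hmem : e * t ∈ K := by
      refine ⟨e * a, fun y => ?_⟩
      by_cases hy : y ∈ W
      · exact ⟨u, hWO hy, by rw [map_mul, map_mul]; linear_combination -(algebraMap A B e) * heq⟩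
      · refine ⟨algebraMap A B (1 - e), fun h => ?_, ?_⟩
        · have hy' : e ∈ (μ y).asIdeal := by
            by_contra h'
            exact hy ((hin y).mpr h')
          exact (hμmax y).ne_top ((Ideal.eq_top_iff_one _).mpr
            (by simpa using (μ y).asIdeal.add_mem (show 1 - e ∈ (μ y).asIdeal from h) hy'))
        · have h0 : algebraMap A B (1 - e) * algebraMap A B e = 0 := by
            rw [← map_mul, sub_mul, one_mul, he, sub_self, map_zero]
          rw [map_mul, map_mul, ← mul_assoc, ← mul_assoc, ← mul_assoc, h0, zero_mul, zero_mul, zero_mul]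
    have hem : e ∉ m := hz ▸ (hin z).mp hzW
    exact (hm.isPrime.mem_or_mem (hle hmem)).elim hem ht
  choose φ hφ using hex
  have hunit : ∀ (a : A), φ (algebraMap A B a) = a := fun a =>
    huniq _ _ _ (hφ _) fun z => ⟨1, (σ z).2.one_notMem, rfl⟩
  exact ⟨{
    toFun := φ
    map_one' := by simpa using hunit 1
    map_zero' := by simpa using hunit 0
    map_mul' := fun b b' => huniq _ _ _ (hφ _) fun z => by
      obtain ⟨c, hc, h1⟩ := hφ b z
      obtain ⟨c', hc', h2⟩ := hφ b' z
      exact ⟨c * c', (σ z).asIdeal.primeCompl.mul_mem hc hc', by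
        rw [map_mul]; linear_combination (b' * c') * h1 + (c * algebraMap A B (φ b)) * h2⟩
    map_add' := fun b b' => huniq _ _ _ (hφ _) fun z => by
      obtain ⟨c, hc, h1⟩ := hφ b z
      obtain ⟨c', hc', h2⟩ := hφ b' z
      exact ⟨c * c', (σ z).asIdeal.primeCompl.mul_mem hc hc', by
        rw [map_add]; linear_combination c' * h1 + c * h2⟩
    commutes' := hunit }⟩

theorem nonempty_retraction [Algebra.WeaklyEtale A B] [Module.FaithfullyFlat A B] (hw : ProEtW.IsWLocal (PrimeSpectrum A))
    [ExtremallyDisconnected (_root_.ConnectedComponents (PrimeSpectrum A))]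
    (hA : ∀ (m : Ideal A) [m.IsMaximal], EtCoh.IsStrictlyHenselianLocalRing (Localization.AtPrime m)) :
    Nonempty (B →ₐ[A] A) :=
  nonempty_retraction_of_bijective hw fun m _ q _ hq => bijective_localRingHom m (hA m) q hq

end Groth.Agent.WContr
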