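import Groth.Agent.WContr.PartRing
import Groth.Agent.WContr.Iterate
import Groth.Agent.WContr.ClosedPoints
import Groth.Agent.WContr.Sufficiency
import Groth.Agent.EtRetr.Localization
import Groth.Agent.EtRetr.Basic

/-!
Every ring has a faithfully flat ind-étale w-contractible extension.
-/

set_option autoImplicit false
set_option backward.isDefEq.respectTransparency false
set_option linter.style.haveILetI false
set_option synthInstance.maxHeartbeats 200000
set_option maxHeartbeats 1600000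

universe u

open Topology

namespace Groth.Agent.WContr

open TensorProduct in
/-- fibres over maximal ideals of weakly étale algebras consist of maximal ideals -/
theorem isMaximal_of_comap_isMaximal {R C : Type u} [CommRing R] [CommRing C] [Algebra R C]
    [Algebra.WeaklyEtale R C] (q : Ideal C) [q.IsPrime] (m : Ideal R) [m.IsMaximal]
    (hq : q.comap (algebraMap R C) = m) : q.IsMaximal := by
  letI : Field (R ⧸ m) := Ideal.Quotient.field m
  have hreg : ∀ z : (R ⧸ m) ⊗[R] C, ∃ b, z * z * b = z := Groth.Agent.WeakEt.exists_sq_mul_of_weaklyEtale (R := R ⧸ m)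
    (fun a => by
      rcases eq_or_ne a 0 with rfl | ha
      · exact ⟨0, by simp⟩
      · exact ⟨a⁻¹, by rw [mul_assoc, mul_inv_cancel₀ ha, mul_one]⟩)
  let ψ : (R ⧸ m) ⊗[R] C →ₐ[R] C ⧸ q := Algebra.TensorProduct.lift
    (Ideal.Quotient.liftₐ m (Algebra.ofId R (C ⧸ q)) fun a ha => by
      change Ideal.Quotient.mk q (algebraMap R C a) = 0
      rw [Ideal.Quotient.eq_zero_iff_mem, ← Ideal.mem_comap, hq]; exact ha)
    (Ideal.Quotient.mkₐ R q) fun _ _ => Commute.all _ _
  refine Ideal.Quotient.maximal_of_isField q ⟨⟨0, 1, zero_ne_one⟩, mul_comm, fun {a} ha => ?_⟩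
  obtain ⟨c, rfl⟩ := Ideal.Quotient.mk_surjective a
  obtain ⟨w, hw⟩ := hreg ((1 : R ⧸ m) ⊗ₜ[R] c)
  have h := congrArg ψ hw
  rw [map_mul, map_mul] at h
  have hc : ψ ((1 : R ⧸ m) ⊗ₜ[R] c) = Ideal.Quotient.mk q c := by simp [ψ]
  rw [hc, mul_assoc] at h
  exact ⟨ψ w, mul_left_cancel₀ ha (h.trans (mul_one _).symm)⟩

theorem exists_wContractible_over {R : Type u} [CommRing R] (Y : Set (PrimeSpectrum R)) (hY : IsClosed Y) [T2Space Y]
    [ExtremallyDisconnected Y] (hmax : ∀ y ∈ Y, y.asIdeal.IsMaximal)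
    (hsep : ∀ x : PrimeSpectrum R, ∀ y ∈ Y, ∀ y' ∈ Y, x.asIdeal ≤ y.asIdeal → x.asIdeal ≤ y'.asIdeal → y = y') :
    ∃ (D : Type u) (_ : CommRing D) (_ : Algebra R D),
      EtPBC.IsIndEtale R D ∧ EtPBC.IsWContractible D ∧ Y ⊆ Set.range (PrimeSpectrum.comap (algebraMap R D)) := by
  obtain ⟨C, _, algC, hCff, hCind, hret⟩ := exists_hasEtaleRetractions R
  haveI := Groth.Agent.IndEtLib.weaklyEtale hCind
  -- the closed set of `C` over the distinguished set
  let I : Ideal C := (PrimeSpectrum.vanishingIdeal Y).map (algebraMap R C)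
  let g₀ : PrimeSpectrum (C ⧸ I) → PrimeSpectrum R :=
    fun y => PrimeSpectrum.comap (algebraMap R C) (PrimeSpectrum.comap (Ideal.Quotient.mk I) y)
  have hg₀ : ∀ y, g₀ y ∈ Y := fun y => by
    rw [← hY.closure_eq, ← PrimeSpectrum.zeroLocus_vanishingIdeal_eq_closure, PrimeSpectrum.mem_zeroLocus]
    intro a ha
    change Ideal.Quotient.mk I (algebraMap R C a) ∈ y.asIdeal
    rw [Ideal.Quotient.eq_zero_iff_mem.mpr (Ideal.mem_map_of_mem _ ha)]
    exact y.asIdeal.zero_mem
  have hmaxC : ∀ w : PrimeSpectrum C, PrimeSpectrum.comap (algebraMap (R) C) w ∈ Y →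
      w.asIdeal.IsMaximal := fun w hw => by
    haveI : (w.asIdeal.comap (algebraMap R C)).IsMaximal := hmax _ hw
    exact isMaximal_of_comap_isMaximal (R := R) w.asIdeal _ rfl
  have hYmax : ∀ y : PrimeSpectrum (C ⧸ I), y.asIdeal.IsMaximal := fun y => by
    haveI := hmaxC (PrimeSpectrum.comap (Ideal.Quotient.mk I) y) (hg₀ y)
    rw [← Ideal.map_comap_of_surjective _ Ideal.Quotient.mk_surjective y.asIdeal]
    refine (Ideal.map_eq_top_or_isMaximal_of_surjective _ Ideal.Quotient.mk_surjective this).resolve_left ?_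
    rw [show (PrimeSpectrum.comap (Ideal.Quotient.mk I) y).asIdeal = y.asIdeal.comap (Ideal.Quotient.mk I) from rfl,
      Ideal.map_comap_of_surjective _ Ideal.Quotient.mk_surjective y.asIdeal]
    exact y.2.ne_top
  obtain ⟨-, _, -⟩ := Groth.Agent.ProfinSpec.isProfinite_of_forall_isMaximal hYmax
  haveI : CompactSpace (Y) := isCompact_iff_compactSpace.mp hY.isCompact
  let g : PrimeSpectrum (C ⧸ I) → Y := fun y => ⟨g₀ y, hg₀ y⟩
  have hgc : Continuous g :=
    ((PrimeSpectrum.continuous_comap _).comp (PrimeSpectrum.continuous_comap _)).subtype_mk _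
  have hgs : Function.Surjective g := fun z => by
    obtain ⟨q, hq⟩ := PrimeSpectrum.comap_surjective_of_faithfullyFlat (B := C) z.1
    have hI : I ≤ q.asIdeal := Ideal.map_le_iff_le_comap.mpr fun a ha => by
      have := (PrimeSpectrum.mem_vanishingIdeal _ _).mp ha z.1 z.2
      rwa [← hq] at this
    obtain ⟨y, hy⟩ : q ∈ Set.range (PrimeSpectrum.comap (Ideal.Quotient.mk I)) := by
      rw [range_comap_of_surjective _ _ Ideal.Quotient.mk_surjective, Ideal.mk_ker]; exact hI
    refine ⟨y, Subtype.ext ?_⟩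
    change PrimeSpectrum.comap (algebraMap (R) C) (PrimeSpectrum.comap _ y) = _
    rw [hy, hq]
  obtain ⟨s₀, hs₀c, hs₀⟩ := CompactT2.ExtremallyDisconnected.projective (A := Y) continuous_id hgc hgs
  let σ : Y → PrimeSpectrum C := fun z => PrimeSpectrum.comap (Ideal.Quotient.mk I) (s₀ z)
  have hσc : Continuous σ := (PrimeSpectrum.continuous_comap _).comp hs₀c
  have hσ : ∀ z, PrimeSpectrum.comap (algebraMap (R) C) (σ z) = z.1 := fun z =>
    congrArg Subtype.val (congrFun hs₀ z)
  have hZc : IsClosed (Set.range σ) := by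
    rw [show Set.range σ = PrimeSpectrum.comap (Ideal.Quotient.mk I) '' Set.range s₀ from
      Set.ext fun p => ⟨fun ⟨z, h⟩ => ⟨s₀ z, ⟨z, rfl⟩, h⟩, fun ⟨_, ⟨z, hz⟩, h⟩ => ⟨z, (congrArg _ hz).trans h⟩⟩]
    exact (PrimeSpectrum.isClosedEmbedding_comap_of_surjective _ _ Ideal.Quotient.mk_surjective).isClosedMap _
      (isCompact_range hs₀c).isClosed
  let 𝔞 : Ideal C := PrimeSpectrum.vanishingIdeal (Set.range σ)
  have h𝔞 : PrimeSpectrum.zeroLocus (𝔞 : Set C) = Set.range σ := by
    rw [PrimeSpectrum.zeroLocus_vanishingIdeal_eq_closure, hZc.closure_eq]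
  let M : Submonoid C :=
    { carrier := {t | t - 1 ∈ 𝔞}
      one_mem' := by simp
      mul_mem' := fun {a b} ha hb => by
        simp only [Set.mem_ofPred_eq] at ha hb ⊢
        rw [show a * b - 1 = a * (b - 1) + (a - 1) by ring]
        exact 𝔞.add_mem (𝔞.mul_mem_left a hb) ha }
  let D := Localization M
  have hrange : Set.range (PrimeSpectrum.comap (algebraMap C D)) =
      {x | ∃ z : PrimeSpectrum C, z ∈ PrimeSpectrum.zeroLocus (R := C) 𝔞 ∧ x ⤳ z} := by
    rw [PrimeSpectrum.localization_comap_range D M]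
    ext x
    constructor
    · intro hx
      obtain ⟨n, hn, hle⟩ := Ideal.exists_le_maximal (x.asIdeal ⊔ 𝔞) (fun htop => by
        obtain ⟨a, ha, b, hb, hab⟩ := Submodule.mem_sup.mp ((Ideal.eq_top_iff_one _).mp htop)
        refine Set.disjoint_left.mp hx (show a ∈ M from ?_) ha
        show a - 1 ∈ 𝔞
        rw [show a - 1 = -b by linear_combination hab]
        exact 𝔞.neg_mem hb)
      exact ⟨⟨n, hn.isPrime⟩, le_sup_right.trans hle,
        (PrimeSpectrum.le_iff_specializes _ _).mp (le_sup_left.trans hle)⟩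
    · rintro ⟨z, hz, hxz⟩
      refine Set.disjoint_left.mpr fun t ht htx => z.2.one_notMem ?_
      have h1 : t ∈ z.asIdeal := (PrimeSpectrum.le_iff_specializes _ _).mpr hxz htx
      simpa using z.asIdeal.sub_mem h1 (hz (ht : t - 1 ∈ 𝔞))
  have hDret : ProEtW.HasEtaleRetractions D :=
    Groth.Agent.EtRetr.hasEtaleRetractions_localization M 𝔞 hrange hret
  have hinjD : Function.Injective (PrimeSpectrum.comap (algebraMap C D)) :=
    PrimeSpectrum.localization_comap_injective D M
  have hσD : ∀ z : Y, ∃ n : PrimeSpectrum D, PrimeSpectrum.comap (algebraMap C D) n = σ z := fun z =>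
    hrange.ge ⟨σ z, h𝔞.ge ⟨z, rfl⟩, specializes_rfl⟩
  have hσmax : ∀ z, (σ z).asIdeal.IsMaximal := fun z => hmaxC _ (by rw [hσ]; exact z.2)
  -- closed points of `D`
  have hclosed : ∀ n : PrimeSpectrum D, IsClosed ({n} : Set _) ↔
      PrimeSpectrum.comap (algebraMap C D) n ∈ Set.range σ := fun n => by
    rw [PrimeSpectrum.isClosed_singleton_iff_isMaximal]
    constructor
    · intro hn
      obtain ⟨z, hz, hnz⟩ := hrange.le ⟨n, rfl⟩
      obtain ⟨w, rfl⟩ := h𝔞.le hz
      obtain ⟨n', hn'⟩ := hσD w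
      have hle : n.asIdeal ≤ n'.asIdeal := (IsLocalization.orderEmbedding M D).le_iff_le.mp (by
        change (PrimeSpectrum.comap (algebraMap C D) n).asIdeal ≤ (PrimeSpectrum.comap (algebraMap C D) n').asIdeal
        rw [hn']
        exact (PrimeSpectrum.le_iff_specializes _ _).mpr hnz)
      exact ⟨w, by rw [← hn', PrimeSpectrum.ext (hn.eq_of_le n'.2.ne_top hle)]⟩
    · rintro ⟨w, hw⟩
      obtain ⟨n', hn', hle⟩ := Ideal.exists_le_maximal n.asIdeal n.2.ne_top
      have h1 : (σ w).asIdeal ≤ (PrimeSpectrum.comap (algebraMap C D) ⟨n', hn'.isPrime⟩).asIdeal :=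
        hw ▸ Ideal.comap_mono hle
      have h2 : PrimeSpectrum.comap (algebraMap C D) n = PrimeSpectrum.comap (algebraMap C D) ⟨n', hn'.isPrime⟩ :=
        hw.symm.trans (PrimeSpectrum.ext ((hσmax w).eq_of_le (PrimeSpectrum.comap (algebraMap C D) ⟨n', hn'.isPrime⟩).2.ne_top h1))
      rw [hinjD h2]; exact hn'
  let π : PrimeSpectrum D → PrimeSpectrum (R) := fun n =>
    PrimeSpectrum.comap (algebraMap (R) C) (PrimeSpectrum.comap (algebraMap C D) n)
  have hπc : Continuous π := (PrimeSpectrum.continuous_comap _).comp (PrimeSpectrum.continuous_comap _)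
  have hwl : ProEtW.IsWLocal (PrimeSpectrum D) := by
    refine ⟨inferInstance, ?_, fun x => ?_⟩
    · rw [show {n : PrimeSpectrum D | IsClosed ({n} : Set _)} = PrimeSpectrum.comap (algebraMap C D) ⁻¹' Set.range σ
        from Set.ext hclosed]
      exact hZc.preimage (PrimeSpectrum.continuous_comap _)
    · obtain ⟨n, hn, hxn⟩ := Ideal.exists_le_maximal x.asIdeal x.2.ne_top
      refine ⟨⟨n, hn.isPrime⟩, ⟨(PrimeSpectrum.isClosed_singleton_iff_isMaximal _).mpr hn,
        (PrimeSpectrum.le_iff_specializes _ _).mp hxn⟩, ?_⟩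
      rintro y ⟨hy, hxy⟩
      have hcl : IsClosed ({⟨n, hn.isPrime⟩} : Set (PrimeSpectrum D)) :=
        (PrimeSpectrum.isClosed_singleton_iff_isMaximal _).mpr hn
      obtain ⟨w, hw⟩ := (hclosed y).mp hy
      obtain ⟨w', hw'⟩ := (hclosed ⟨n, hn.isPrime⟩).mp hcl
      have hπy : π y = w.1 := (congrArg _ hw.symm).trans (hσ w)
      have hπn : π ⟨n, hn.isPrime⟩ = w'.1 := (congrArg _ hw'.symm).trans (hσ w')
      have hle1 : (π x).asIdeal ≤ w.1.asIdeal :=
        hπy ▸ Ideal.comap_mono (Ideal.comap_mono ((PrimeSpectrum.le_iff_specializes _ _).mpr hxy))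
      have hle2 : (π x).asIdeal ≤ w'.1.asIdeal := hπn ▸ Ideal.comap_mono (Ideal.comap_mono hxn)
      have hww : w = w' := Subtype.ext (hsep (π x) w.1 w.2 w'.1 w'.2 hle1 hle2)
      exact hinjD (hw.symm.trans ((congrArg σ hww).trans hw'))
  haveI : ExtremallyDisconnected (_root_.ConnectedComponents (PrimeSpectrum D)) := by
    rw [← extremallyDisconnected_closedPoints_iff hwl]
    have hmem : ∀ n : ProEtW.closedPoints (PrimeSpectrum D), π n.1 ∈ Y := fun n => by
      obtain ⟨w, hw⟩ := (hclosed n.1).mp n.2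
      rw [show π n.1 = w.1 from (congrArg _ hw.symm).trans (hσ w)]
      exact w.2
    let f : ProEtW.closedPoints (PrimeSpectrum D) → Y := fun n => ⟨π n.1, hmem n⟩
    have hfc : Continuous f := (hπc.comp continuous_subtype_val).subtype_mk _
    haveI : CompactSpace (ProEtW.closedPoints (PrimeSpectrum D)) :=
      isCompact_iff_compactSpace.mp (hwl.2.1 : IsClosed _).isCompact
    have hfb : Function.Bijective f := by
      refine ⟨fun n n' h => ?_, fun w => ?_⟩
      · obtain ⟨w, hw⟩ := (hclosed n.1).mp n.2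
        obtain ⟨w', hw'⟩ := (hclosed n'.1).mp n'.2
        have h1 : π n.1 = w.1 := (congrArg _ hw.symm).trans (hσ w)
        have h2 : π n'.1 = w'.1 := (congrArg _ hw'.symm).trans (hσ w')
        have hww : w = w' := Subtype.ext (h1.symm.trans ((congrArg Subtype.val h).trans h2))
        exact Subtype.ext (hinjD (hw.symm.trans ((congrArg σ hww).trans hw')))
      · obtain ⟨n, hn⟩ := hσD w
        refine ⟨⟨n, (hclosed n).mpr ⟨w, hn.symm⟩⟩, Subtype.ext ?_⟩
        exact (congrArg _ hn).trans (hσ w)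
    let e := (isHomeomorph_iff_continuous_bijective.mpr ⟨hfc, hfb⟩).homeomorph
    exact extremallyDisconnected_of_openMap e.continuous e.isOpenMap fun _ =>
      ⟨Set.univ, isOpen_univ, trivial, e.injective.injOn⟩
  have hindCD : EtPBC.IsIndEtale C D := isIndEtale_localization_of_etale C M D
  have hindRD : EtPBC.IsIndEtale R D := Groth.Agent.IndEtLib.isIndEtale_trans R C D hCind hindCD
  refine ⟨D, inferInstance, inferInstance, hindRD, ?_, fun z hz => ?_⟩
  · intro B _ _ hff het
    exact nonempty_retraction hwl fun m _ =>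
      ⟨Groth.Agent.EtRetr.henselianLocalRing hDret m, Groth.Agent.EtRetr.isSepClosed_residueField hDret m⟩
  · obtain ⟨n, hn⟩ := hσD ⟨z, hz⟩
    refine ⟨n, ?_⟩
    rw [IsScalarTower.algebraMap_eq R C D, PrimeSpectrum.comap_comp_apply, hn, hσ]

theorem exists_wContractible (A : Type u) [CommRing A] :
    ∃ (D : Type u) (_ : CommRing D) (_ : Algebra A D),
      Module.FaithfullyFlat A D ∧ EtPBC.IsIndEtale A D ∧ EtPBC.IsWContractible D := by
  haveI : T2Space (partSet A) := t2Space_partSet
  haveI : ExtremallyDisconnected (partSet A) := extremallyDisconnected_partSet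
  obtain ⟨D, _, algD, hind, hwc, hsub⟩ := exists_wContractible_over (R := PartLoc A) (partSet A)
    (PrimeSpectrum.isClosed_zeroLocus _) (fun y hy => isMaximal_of_mem_partSet hy)
    fun x y hy y' hy' h h' => eq_of_chiLoc_mem_iff hy hy' fun H =>
      (chiLoc_mem_iff_of_le h H).symm.trans (chiLoc_mem_iff_of_le h' H)
  letI : Algebra A D := ((algebraMap (PartLoc A) D).comp (algebraMap A (PartLoc A))).toAlgebra
  haveI : IsScalarTower A (PartLoc A) D :=
    IsScalarTower.of_algebraMap_eq (R := A) (S := PartLoc A) (A := D) fun _ => rfl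
  have hindAD : EtPBC.IsIndEtale A D :=
    Groth.Agent.IndEtLib.isIndEtale_trans A (PartLoc A) D (isIndEtale_partLoc A) hind
  refine ⟨D, inferInstance, inferInstance, ?_, hindAD, hwc⟩
  haveI := Groth.Agent.IndEtLib.flat hindAD
  refine Module.FaithfullyFlat.of_comap_surjective fun x => ?_
  obtain ⟨n, hn⟩ := hsub (partPt_mem x)
  exact ⟨n, (congrArg (PrimeSpectrum.comap (algebraMap A (PartLoc A))) hn).trans (comap_partPt x)⟩

end Groth.Agent.WContr
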