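import Groth.Prelude.Def_PBC
import Groth.Prelude.Def_ProEtW
import Groth.Prelude.Def_EtBase
import Groth.Agent.EtRetr.Basic
import Groth.Agent.Olivier.Valuation
import Groth.Agent.IndEtLib.WContract
import Groth.Agent.IndEtLib.Zariski
import Groth.Agent.WLocalFib.Basic

/-!
Consequences of w-contractibility.
-/

set_option autoImplicit false
set_option backward.isDefEq.respectTransparency false
set_option linter.style.haveILetI false

universe u

open Topology

namespace Groth.Agent.WContr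

variable {A : Type u} [CommRing A]

theorem hasEtaleRetractions (h : EtPBC.IsWContractible A) : ProEtW.HasEtaleRetractions A := by
  intro B _ _ hff het
  exact h B hff inferInstance

theorem exists_split (h : EtPBC.IsWContractible A) (f : A) :
    ∃ e g : A, e * (1 - e) = 0 ∧ f * g = e ∧ ∀ a, ∃ c, (1 + f * a) * c = 1 - e := by
  let S : Submonoid A :=
    { carrier := {x | ∃ a, x = 1 + f * a}
      one_mem' := ⟨0, by simp⟩
      mul_mem' := by rintro _ _ ⟨a, rfl⟩ ⟨b, rfl⟩; exact ⟨a + b + f * a * b, by ring⟩ }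
  let B₁ := Localization.Away f
  let B₂ := Localization S
  haveI : Algebra.WeaklyEtale A B₁ := Groth.Agent.Olivier.weaklyEtale_localization _
  haveI : Algebra.WeaklyEtale A B₂ := Groth.Agent.Olivier.weaklyEtale_localization _
  haveI : Algebra.WeaklyEtale A (B₁ × B₂) := Groth.Agent.IndEtLib.weaklyEtale_prod A B₁ B₂
  have hff : Module.FaithfullyFlat A (B₁ × B₂) := Module.FaithfullyFlat.of_comap_surjective fun x => by
    by_cases hx : f ∈ x.asIdeal
    · obtain ⟨y, rfl⟩ : x ∈ Set.range (PrimeSpectrum.comap (algebraMap A B₂)) := by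
        rw [PrimeSpectrum.localization_comap_range B₂ S]
        refine Set.disjoint_left.mpr ?_
        rintro _ ⟨a, rfl⟩ ha
        exact x.2.ne_top ((Ideal.eq_top_iff_one _).mpr (by simpa using x.asIdeal.sub_mem ha (x.asIdeal.mul_mem_right a hx)))
      exact ⟨PrimeSpectrum.comap (RingHom.snd B₁ B₂) y, rfl⟩
    · obtain ⟨y, rfl⟩ : x ∈ Set.range (PrimeSpectrum.comap (algebraMap A B₁)) := by
        rw [PrimeSpectrum.localization_away_comap_range B₁ f]; exact hx
      exact ⟨PrimeSpectrum.comap (RingHom.fst B₁ B₂) y, rfl⟩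
  obtain ⟨r⟩ := h (B₁ × B₂) hff inferInstance
  obtain ⟨i, hi⟩ := isUnit_iff_exists_inv.mp (IsLocalization.Away.algebraMap_isUnit (S := B₁) f)
  refine ⟨r (1, 0), r (i, 0), ?_, ?_, fun a => ?_⟩
  · calc r (1, 0) * (1 - r (1, 0)) = r ((1, 0) * (1 - (1, 0))) := by simp only [map_mul, map_sub, map_one]
      _ = 0 := by rw [show ((1, 0) : B₁ × B₂) * (1 - (1, 0)) = 0 by ext <;> simp, map_zero]
  · calc f * r (i, 0) = r (algebraMap A (B₁ × B₂) f * (i, 0)) := by
          rw [map_mul, r.commutes, Algebra.algebraMap_self_apply]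
      _ = r (1, 0) := congrArg r (Prod.ext (by simpa [Prod.algebraMap_apply] using hi) (by simp))
  · obtain ⟨c, hc⟩ := isUnit_iff_exists_inv.mp (IsLocalization.map_units B₂ (⟨1 + f * a, a, rfl⟩ : S))
    refine ⟨r (0, c), ?_⟩
    calc (1 + f * a) * r (0, c) = r (algebraMap A (B₁ × B₂) (1 + f * a) * (0, c)) := by
          rw [map_mul, r.commutes, Algebra.algebraMap_self_apply]
      _ = r (1 - (1, 0)) := congrArg r (Prod.ext (by simp) (by simpa [Prod.algebraMap_apply] using hc))
      _ = 1 - r (1, 0) := by rw [map_sub, map_one]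

theorem isWLocal_of_split
    (hsplit : ∀ f : A, ∃ e g : A, e * (1 - e) = 0 ∧ f * g = e ∧ ∀ a, ∃ c, (1 + f * a) * c = 1 - e) :
    ProEtW.IsWLocal (PrimeSpectrum A) := by
  have split : ∀ f : A, ∃ e : A, e * (1 - e) = 0 ∧
      (∀ M : Ideal A, M.IsMaximal → (e ∈ M ↔ f ∈ M)) ∧ ∀ M : Ideal A, M.IsPrime → f ∈ M → e ∈ M := by
    intro f
    obtain ⟨e, g, he, hfg, hc⟩ := hsplit f
    have hfe : ∀ M : Ideal A, M.IsPrime → f ∈ M → e ∈ M := fun M _ hfM => hfg ▸ M.mul_mem_right g hfM
    refine ⟨e, he, fun M hM => ⟨fun heM => ?_, hfe M hM.isPrime⟩, hfe⟩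
    by_contra hfM
    obtain ⟨y, i, hi, hyi⟩ := hM.exists_inv hfM
    obtain ⟨c, hc⟩ := hc (-y)
    have h1 : (1 - e) ∈ M := by
      rw [← hc]
      exact M.mul_mem_right c (by rwa [show 1 + f * -y = i by linear_combination -hyi])
    exact hM.ne_top ((Ideal.eq_top_iff_one _).mpr (by simpa using M.add_mem h1 heM))
  refine ⟨inferInstance, ?_, fun x => ?_⟩
  · rw [← isOpen_compl_iff, isOpen_iff_forall_mem_open]
    intro p hp
    have hp' : ¬ p.asIdeal.IsMaximal := fun hm => hp ((PrimeSpectrum.isClosed_singleton_iff_isMaximal p).mpr hm)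
    obtain ⟨n, hn, hpn⟩ := Ideal.exists_le_maximal p.asIdeal p.2.ne_top
    obtain ⟨f, hfn, hfp⟩ := SetLike.exists_of_lt (lt_of_le_of_ne hpn fun hh => hp' (hh ▸ hn))
    obtain ⟨e, he, hiff, hfe⟩ := split f
    refine ⟨PrimeSpectrum.basicOpen ((1 - e) * f), fun q hq hqc => hq ?_, (PrimeSpectrum.basicOpen _).2, ?_⟩
    · have hqm := (PrimeSpectrum.isClosed_singleton_iff_isMaximal q).mp hqc
      rcases q.2.mem_or_mem (he.symm ▸ q.asIdeal.zero_mem) with hh | hh
      · exact q.asIdeal.mul_mem_left _ ((hiff _ hqm).mp hh)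
      · exact q.asIdeal.mul_mem_right _ hh
    · intro hmem
      rcases p.2.mem_or_mem hmem with hh | hh
      · exact hn.ne_top ((Ideal.eq_top_iff_one _).mpr (by simpa using n.add_mem (hpn hh) (hfe n hn.isPrime hfn)))
      · exact hfp hh
  · obtain ⟨n, hn, hpn⟩ := Ideal.exists_le_maximal x.asIdeal x.2.ne_top
    refine ⟨⟨n, hn.isPrime⟩, ⟨(PrimeSpectrum.isClosed_singleton_iff_isMaximal _).mpr hn,
      (PrimeSpectrum.le_iff_specializes _ _).mp hpn⟩, ?_⟩
    rintro y ⟨hy, hxy⟩
    have hym := (PrimeSpectrum.isClosed_singleton_iff_isMaximal y).mp hy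
    have hxy' : x.asIdeal ≤ y.asIdeal := (PrimeSpectrum.le_iff_specializes _ _).mpr hxy
    by_contra hne
    obtain ⟨f, hfn, hfy⟩ := SetLike.not_le_iff_exists.mp fun hle =>
      hne (PrimeSpectrum.ext (hn.eq_of_le hym.ne_top hle).symm)
    obtain ⟨e, he, hiff, hfe⟩ := split f
    rcases x.2.mem_or_mem (he.symm ▸ x.asIdeal.zero_mem) with hh | hh
    · exact hfy ((hiff _ hym).mp (hxy' hh))
    · exact hn.ne_top ((Ideal.eq_top_iff_one _).mpr (by simpa using n.add_mem (hpn hh) (hfe n hn.isPrime hfn)))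

theorem isWLocal (h : EtPBC.IsWContractible A) : ProEtW.IsWLocal (PrimeSpectrum A) :=
  isWLocal_of_split (exists_split h)

theorem weaklyEtale_quotient {I : Ideal A} [I.Pure] : Algebra.WeaklyEtale A (A ⧸ I) where
  flat := inferInstance
  flat_lmul' := .of_bijective ⟨(Algebra.isEpi_of_surjective_algebraMap A (A ⧸ I) Ideal.Quotient.mk_surjective).injective_lift_mul,
    fun x => ⟨x ⊗ₜ 1, by simp⟩⟩

/-- weakly étale closed subschemes cutting out closed sets of components -/
theorem exists_weaklyEtale_preimage (T : Set (_root_.ConnectedComponents (PrimeSpectrum A))) (hT : IsClosed T) :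
    ∃ (B : Type u) (_ : CommRing B) (_ : Algebra A B), Algebra.WeaklyEtale A B ∧
      Set.range (PrimeSpectrum.comap (algebraMap A B)) = _root_.ConnectedComponents.mk ⁻¹' T := by
  let E : Set A := {e | IsIdempotentElem e ∧ _root_.ConnectedComponents.mk ⁻¹' T ⊆ PrimeSpectrum.zeroLocus {e}}
  haveI : (Ideal.span E).Pure :=
    Groth.Agent.WeakEt.pure_of_generators rfl fun e he => ⟨e, Ideal.subset_span he, he.1⟩
  refine ⟨A ⧸ Ideal.span E, inferInstance, inferInstance, weaklyEtale_quotient, ?_⟩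
  rw [Ideal.Quotient.algebraMap_eq, range_comap_of_surjective _ _ Ideal.Quotient.mk_surjective,
    Ideal.mk_ker, PrimeSpectrum.zeroLocus_span]
  refine Set.Subset.antisymm (fun x hx => ?_) fun x hx e he => Set.singleton_subset_iff.mp (he.2 hx)
  haveI := Groth.Agent.WLocalFib.t2Space_connectedComponents (X := PrimeSpectrum A)
  by_contra hxT
  obtain ⟨W, hW, hxW, hWT⟩ := compact_exists_isClopen_in_isOpen hT.isOpen_compl hxT
  obtain ⟨e, he, heq⟩ :=
    PrimeSpectrum.exists_idempotent_basicOpen_eq_of_isClopen (hW.preimage ConnectedComponents.continuous_coe)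
  have heE : e ∈ E := ⟨he, fun y hy => by
    rw [PrimeSpectrum.mem_zeroLocus, Set.singleton_subset_iff]
    by_contra hey
    exact hWT (show y ∈ _root_.ConnectedComponents.mk ⁻¹' W from heq ▸ hey) hy⟩
  exact (heq ▸ hxW : x ∈ (PrimeSpectrum.basicOpen e : Set (PrimeSpectrum A))) (hx heE)

theorem extremallyDisconnected (h : EtPBC.IsWContractible A) :
    ExtremallyDisconnected (_root_.ConnectedComponents (PrimeSpectrum A)) := by
  constructor
  intro U hU
  obtain ⟨B₁, _, _, _, hr₁⟩ := exists_weaklyEtale_preimage (closure U) isClosed_closure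
  obtain ⟨B₂, _, _, _, hr₂⟩ := exists_weaklyEtale_preimage Uᶜ hU.isClosed_compl
  haveI : Algebra.WeaklyEtale A (B₁ × B₂) := Groth.Agent.IndEtLib.weaklyEtale_prod A B₁ B₂
  have hff : Module.FaithfullyFlat A (B₁ × B₂) := Module.FaithfullyFlat.of_comap_surjective fun x => by
    by_cases hx : ConnectedComponents.mk x ∈ U
    · obtain ⟨y, rfl⟩ := hr₁.ge (subset_closure hx)
      exact ⟨PrimeSpectrum.comap (RingHom.fst B₁ B₂) y, rfl⟩
    · obtain ⟨y, rfl⟩ := hr₂.ge hx
      exact ⟨PrimeSpectrum.comap (RingHom.snd B₁ B₂) y, rfl⟩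
  obtain ⟨r⟩ := h (B₁ × B₂) hff inferInstance
  let e := r (1, 0)
  have key : ∀ p : PrimeSpectrum A, (e ∉ p.asIdeal → ConnectedComponents.mk p ∈ closure U) ∧
      (e ∈ p.asIdeal → ConnectedComponents.mk p ∉ U) := by
    intro p
    obtain ⟨q, hq⟩ : ∃ q : PrimeSpectrum (B₁ × B₂), PrimeSpectrum.comap r.toRingHom p = q := ⟨_, rfl⟩
    have hqA : ∀ a, algebraMap A (B₁ × B₂) a ∈ q.asIdeal ↔ a ∈ p.asIdeal := fun a => by
      rw [← hq]
      change r (algebraMap A (B₁ × B₂) a) ∈ p.asIdeal ↔ _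
      rw [r.commutes, Algebra.algebraMap_self_apply]
    have h10 : ((1, 0) : B₁ × B₂) ∈ q.asIdeal ↔ e ∈ p.asIdeal := by rw [← hq]; rfl
    rcases (Ideal.ideal_prod_prime q.asIdeal).mp q.2 with ⟨P, hP, hqP⟩ | ⟨P, hP, hqP⟩
    · have hp : PrimeSpectrum.comap (algebraMap A B₁) ⟨P, hP⟩ = p := PrimeSpectrum.ext <| Ideal.ext fun a => by
        rw [← hqA, hqP]; simp [Prod.algebraMap_apply]
      have he : e ∉ p.asIdeal := fun he => hP.one_notMem (by
        have := h10.mpr he
        rw [hqP] at this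
        exact this.1)
      exact ⟨fun _ => hr₁.le ⟨_, hp⟩, fun h' => absurd h' he⟩
    · have hp : PrimeSpectrum.comap (algebraMap A B₂) ⟨P, hP⟩ = p := PrimeSpectrum.ext <| Ideal.ext fun a => by
        rw [← hqA, hqP]; simp [Prod.algebraMap_apply]
      have he : e ∈ p.asIdeal := h10.mp (by rw [hqP]; exact ⟨trivial, P.zero_mem⟩)
      exact ⟨fun h' => absurd he h', fun _ => hr₂.le ⟨_, hp⟩⟩
  have hee : IsIdempotentElem e := by
    unfold IsIdempotentElem
    simp only [e, ← map_mul, Prod.mk_mul_mk, mul_one, mul_zero]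
  let W : Set (PrimeSpectrum A) := PrimeSpectrum.basicOpen e
  have hWclopen : IsClopen W := PrimeSpectrum.isClopen_iff.mpr ⟨e, hee, rfl⟩
  have hsat : ConnectedComponents.mk ⁻¹' (ConnectedComponents.mk '' W) = W := by
    rw [connectedComponents_preimage_image]
    exact hWclopen.biUnion_connectedComponent_eq
  have hcl : IsClopen (ConnectedComponents.mk '' W) := by
    rw [← ConnectedComponents.isQuotientMap_coe.isClopen_preimage, hsat]; exact hWclopen
  have : closure U = ConnectedComponents.mk '' W := by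
    refine Set.Subset.antisymm (closure_minimal (fun z hz => ?_) hcl.isClosed) ?_
    · obtain ⟨p, rfl⟩ := ConnectedComponents.surjective_coe z
      exact ⟨p, fun he => (key p).2 he hz, rfl⟩
    · rintro _ ⟨p, hp, rfl⟩
      exact (key p).1 hp
  rw [this]
  exact hcl.isOpen

theorem isStrictlyHenselian (h : EtPBC.IsWContractible A) (m : Ideal A) [m.IsMaximal] :
    EtCoh.IsStrictlyHenselianLocalRing (Localization.AtPrime m) :=
  ⟨Groth.Agent.EtRetr.henselianLocalRing (hasEtaleRetractions h) m,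
    Groth.Agent.EtRetr.isSepClosed_residueField (hasEtaleRetractions h) m⟩

end Groth.Agent.WContr
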