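import Groth.Prelude.Def_ProEtW
import Groth.Agent.WContr.Exists
import Groth.Agent.WContr.Necessity
import Groth.Agent.WContr.ConstrUniv
import Groth.Agent.ProfinSpec.Basic
import Groth.Agent.S0705
import Groth.Agent.S0733
import Groth.Agent.S0734
import Mathlib

/-!
w-local squares of ind-étale covers over ring maps with algebraic residue extensions.
-/

set_option autoImplicit false
set_option linter.style.haveILetI false
set_option backward.isDefEq.respectTransparency false
set_option backward.isDefEq.respectTransparency.types false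
set_option maxHeartbeats 800000
set_option synthInstance.maxHeartbeats 400000

universe u

open TensorProduct CategoryTheory Limits

namespace Groth.Agent.WContr.WSquare

theorem etale_of_isLocalIso {R S : Type u} [CommRing R] [CommRing S] [Algebra R S] [Algebra.IsLocalIso R S] :
    Algebra.Etale R S := by
  rw [← RingHom.etale_algebraMap]
  refine RingHom.Etale.ofLocalizationSpanTarget (algebraMap R S) _
    (Algebra.IsLocalIso.span_isStandardOpenImmersion_eq_top R S) fun ⟨g, hg⟩ => ?_
  obtain ⟨r, hr⟩ := Algebra.IsStandardOpenImmersion.exists_away R (Localization.Away g) (self := hg)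
  rw [← IsScalarTower.algebraMap_eq R S (Localization.Away g), RingHom.etale_algebraMap]
  exact Algebra.Etale.of_isLocalizationAway r

theorem isIndEtale_of_isIndZariski {A B : Type u} [CommRing A] [CommRing B] [Algebra A B]
    (h : EtPBC.IsIndZariski A B) : EtPBC.IsIndEtale A B := by
  obtain ⟨J, i1, i2, D, c, hc, hD, e⟩ := h
  refine ⟨J, i1, i2, D, c, hc, fun j => ?_, e⟩
  letI := (D.obj j).hom.hom.toAlgebra
  haveI := hD j
  exact etale_of_isLocalIso

/-- a w-contractible cover whose closed points surject -/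
theorem exists_wContractible_closed (A : Type u) [CommRing A] :
    ∃ (D : Type u) (_ : CommRing D) (_ : Algebra A D),
      Module.FaithfullyFlat A D ∧ EtPBC.IsIndEtale A D ∧ EtPBC.IsWContractible D ∧
        PrimeSpectrum.comap (algebraMap A D) '' ProEtW.closedPoints (PrimeSpectrum D) = Set.univ := by
  haveI : T2Space (partSet A) := t2Space_partSet
  haveI : ExtremallyDisconnected (partSet A) := extremallyDisconnected_partSet
  obtain ⟨D, _, algD, hind, hwc, hsub⟩ := exists_wContractible_over (R := PartLoc A) (partSet A)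
    (PrimeSpectrum.isClosed_zeroLocus _) (fun y hy => isMaximal_of_mem_partSet hy)
    fun x y hy y' hy' h h' => eq_of_chiLoc_mem_iff hy hy' fun H =>
      (chiLoc_mem_iff_of_le h H).symm.trans (chiLoc_mem_iff_of_le h' H)
  letI : Algebra A D := ((algebraMap (PartLoc A) D).comp (algebraMap A (PartLoc A))).toAlgebra
  haveI : IsScalarTower A (PartLoc A) D :=
    IsScalarTower.of_algebraMap_eq (R := A) (S := PartLoc A) (A := D) fun _ => rfl
  have hindAD : EtPBC.IsIndEtale A D :=
    Groth.Agent.IndEtLib.isIndEtale_trans A (PartLoc A) D (isIndEtale_partLoc A) hind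
  refine ⟨D, inferInstance, inferInstance, ?_, hindAD, hwc, Set.eq_univ_of_forall fun x => ?_⟩
  · haveI := Groth.Agent.IndEtLib.flat hindAD
    refine Module.FaithfullyFlat.of_comap_surjective fun x => ?_
    obtain ⟨n, hn⟩ := hsub (partPt_mem x)
    exact ⟨n, (congrArg (PrimeSpectrum.comap (algebraMap A (PartLoc A))) hn).trans (comap_partPt x)⟩
  · obtain ⟨n, hn⟩ := hsub (partPt_mem x)
    obtain ⟨M, hM, hle⟩ := n.asIdeal.exists_le_maximal n.2.ne_top
    refine ⟨⟨M, hM.isPrime⟩, (PrimeSpectrum.isClosed_singleton_iff_isMaximal _).mpr hM, ?_⟩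
    have hm : (n.asIdeal.comap (algebraMap (PartLoc A) D)).IsMaximal := by
      change (PrimeSpectrum.comap (algebraMap (PartLoc A) D) n).asIdeal.IsMaximal
      rw [hn]
      exact isMaximal_of_mem_partSet (partPt_mem x)
    have h : PrimeSpectrum.comap (algebraMap (PartLoc A) D) ⟨M, hM.isPrime⟩ = PrimeSpectrum.comap (algebraMap (PartLoc A) D) n :=
      PrimeSpectrum.ext (hm.eq_of_le (Ideal.IsPrime.ne_top inferInstance) (Ideal.comap_mono hle)).symm
    exact ((congrArg (PrimeSpectrum.comap (algebraMap A (PartLoc A))) (h.trans hn)).trans (comap_partPt x))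

variable {A B : Type u} [CommRing A] [CommRing B] [Algebra A B]

theorem isMaximal_of_algebraic (h : ProEtW.AlgebraicResidueExtensions A B) (q : Ideal B) [q.IsPrime]
    (hp : (q.comap (algebraMap A B)).IsMaximal) : q.IsMaximal := by
  haveI := h q
  have hA : IsField (A ⧸ q.comap (algebraMap A B)) :=
    (Ideal.Quotient.maximal_ideal_iff_isField_quotient _).mp hp
  letI := hA.toField
  haveI : Algebra.IsIntegral (A ⧸ q.comap (algebraMap A B)) (B ⧸ q) :=
    Algebra.isAlgebraic_iff_isIntegral.mp inferInstance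
  exact Ideal.Quotient.maximal_of_isField _
    (isField_of_isIntegral_of_isField' (R := A ⧸ q.comap (algebraMap A B)) hA)

theorem mem_zeroLocus_map_iff (I : Ideal A) (q : PrimeSpectrum B) :
    q ∈ PrimeSpectrum.zeroLocus (R := B) (I.map (algebraMap A B)) ↔
      PrimeSpectrum.comap (algebraMap A B) q ∈ PrimeSpectrum.zeroLocus (R := A) I := by
  rw [PrimeSpectrum.mem_zeroLocus, PrimeSpectrum.mem_zeroLocus]
  exact Ideal.map_le_iff_le_comap

theorem zeroLocus_map_subset (I : Ideal A)
    (hI0 : PrimeSpectrum.zeroLocus (R := A) I = ProEtW.closedPoints (PrimeSpectrum A))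
    (h : ProEtW.AlgebraicResidueExtensions A B) :
    PrimeSpectrum.zeroLocus (R := B) (I.map (algebraMap A B)) ⊆ ProEtW.closedPoints (PrimeSpectrum B) := by
  intro q hq
  rw [mem_zeroLocus_map_iff, hI0] at hq
  exact (PrimeSpectrum.isClosed_singleton_iff_isMaximal q).mpr
    (isMaximal_of_algebraic h q.asIdeal ((PrimeSpectrum.isClosed_singleton_iff_isMaximal _).mp hq))

theorem isProfinite_zeroLocus (J : Ideal B)
    (hJ : PrimeSpectrum.zeroLocus (R := B) J ⊆ ProEtW.closedPoints (PrimeSpectrum B)) :
    ProEtW.IsProfinite (PrimeSpectrum.zeroLocus (R := B) J) := by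
  have hmax : ∀ p : PrimeSpectrum (B ⧸ J), p.asIdeal.IsMaximal := fun p => by
    have hp : PrimeSpectrum.comap (Ideal.Quotient.mk J) p ∈ PrimeSpectrum.zeroLocus (R := B) J := fun x hx => by
      show Ideal.Quotient.mk J x ∈ p.asIdeal
      rw [Ideal.Quotient.eq_zero_iff_mem.mpr hx]
      exact p.asIdeal.zero_mem
    have hm : (p.asIdeal.comap (Ideal.Quotient.mk J)).IsMaximal :=
      (PrimeSpectrum.isClosed_singleton_iff_isMaximal _).mp (hJ hp)
    rw [← Ideal.map_comap_of_surjective _ Ideal.Quotient.mk_surjective p.asIdeal]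
    refine (Ideal.map_eq_top_or_isMaximal_of_surjective _ Ideal.Quotient.mk_surjective hm).resolve_left ?_
    rw [Ideal.map_comap_of_surjective _ Ideal.Quotient.mk_surjective p.asIdeal]
    exact p.2.ne_top
  obtain ⟨_, _, _⟩ := Groth.Agent.ProfinSpec.isProfinite_of_forall_isMaximal hmax
  let e : PrimeSpectrum (B ⧸ J) ≃ₜ PrimeSpectrum.zeroLocus (R := B) J :=
    ((PrimeSpectrum.isClosedEmbedding_comap_of_surjective _ _
      (Ideal.Quotient.mk_surjective (I := J))).isEmbedding.toHomeomorph).trans (Homeomorph.setCongr (by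
        rw [range_comap_of_surjective _ _ Ideal.Quotient.mk_surjective, Ideal.mk_ker]))
  exact ⟨e.compactSpace, e.t2Space, e.totallyDisconnectedSpace⟩

/-- (2): an ind-Zariski algebra over `B` w-local over `A`. -/
theorem exists_indZariski (I : Ideal A)
    (hI0 : PrimeSpectrum.zeroLocus (R := A) I = ProEtW.closedPoints (PrimeSpectrum A))
    (h : ProEtW.AlgebraicResidueExtensions A B) :
    ∃ (C : Type u) (_ : CommRing C) (_ : Algebra B C) (_ : Algebra A C) (_ : IsScalarTower A B C),
      EtPBC.IsIndZariski B C ∧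
        Function.Bijective (Ideal.quotientMap ((I.map (algebraMap A B)).map (algebraMap B C)) (algebraMap B C)
          Ideal.le_comap_map) ∧
        ProEtW.IsWLocal (PrimeSpectrum C) ∧ ProEtW.IsWLocalMap (PrimeSpectrum.comap (algebraMap A C)) ∧
        ProEtW.closedPoints (PrimeSpectrum C) =
          PrimeSpectrum.comap (algebraMap A C) ⁻¹' ProEtW.closedPoints (PrimeSpectrum A) := by
  obtain ⟨C, _, _, hzar, hwl, hcl, hbij⟩ := Groth.Agent.S0705.result B (I.map (algebraMap A B))
    (isProfinite_zeroLocus _ (zeroLocus_map_subset I hI0 h))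
  letI : Algebra A C := ((algebraMap B C).comp (algebraMap A B)).toAlgebra
  haveI : IsScalarTower A B C := IsScalarTower.of_algebraMap_eq (R := A) (S := B) (A := C) fun _ => rfl
  have hpre : ProEtW.closedPoints (PrimeSpectrum C) =
      PrimeSpectrum.comap (algebraMap A C) ⁻¹' ProEtW.closedPoints (PrimeSpectrum A) := by
    rw [hcl, Ideal.map_map, ← IsScalarTower.algebraMap_eq, ← hI0]
    ext q
    exact mem_zeroLocus_map_iff I q
  refine ⟨C, inferInstance, inferInstance, inferInstance, inferInstance, hzar, hbij, hwl, ⟨?_, ?_⟩, hpre⟩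
  · exact isSpectralMap_comap (A := A) (B := C) (algebraMap A C)
  · intro x hx
    exact hpre.le hx

theorem exists_ideal_closedPoints (hA : ProEtW.IsWLocal (PrimeSpectrum A)) :
    ∃ I : Ideal A, PrimeSpectrum.zeroLocus (R := A) I = ProEtW.closedPoints (PrimeSpectrum A) :=
  ⟨PrimeSpectrum.vanishingIdeal (ProEtW.closedPoints (PrimeSpectrum A)), by
    rw [PrimeSpectrum.zeroLocus_vanishingIdeal_eq_closure]
    exact hA.2.1.closure_eq⟩

end Groth.Agent.WContr.WSquare

namespace Groth.Agent.WContr.WSquare

open TensorProduct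

variable {A B C : Type u} [CommRing A] [CommRing B] [CommRing C] [Algebra A B] [Algebra A C]

attribute [local instance] Algebra.TensorProduct.rightAlgebra

theorem algebraicResidueExtensions_baseChange (h : ProEtW.AlgebraicResidueExtensions A B) :
    ProEtW.AlgebraicResidueExtensions C (B ⊗[A] C) := by
  intro q _
  let c := q.comap (algebraMap C (B ⊗[A] C))
  let b := q.comap (algebraMap B (B ⊗[A] C))
  haveI := h b
  have hdom : IsDomain (C ⧸ c) := Ideal.Quotient.isDomain c
  refine ⟨fun z => ?_⟩
  obtain ⟨z, rfl⟩ := Ideal.Quotient.mk_surjective z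
  induction z using TensorProduct.induction_on with
  | zero => rw [map_zero]; exact isAlgebraic_zero
  | add x y hx hy => rw [map_add]; exact hx.add hy
  | tmul x y =>
    rw [show x ⊗ₜ[A] y = (x ⊗ₜ[A] (1 : C)) * algebraMap C (B ⊗[A] C) y by
      rw [Algebra.TensorProduct.right_algebraMap_apply, Algebra.TensorProduct.tmul_mul_tmul, mul_one, one_mul], map_mul]
    refine IsAlgebraic.mul ?_ (isAlgebraic_algebraMap (Ideal.Quotient.mk c y))
    -- the element of `B`
    obtain ⟨p, hp0, hp⟩ := h b |>.isAlgebraic (Ideal.Quotient.mk b x)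
    have hcomm : ∀ r : A, algebraMap B (B ⊗[A] C) (algebraMap A B r) = algebraMap C (B ⊗[A] C) (algebraMap A C r) :=
      fun r => by
        rw [Algebra.TensorProduct.right_algebraMap_apply, Algebra.TensorProduct.algebraMap_apply]
        show algebraMap A B r ⊗ₜ[A] (1 : C) = (1 : B) ⊗ₜ[A] algebraMap A C r
        rw [Algebra.algebraMap_eq_smul_one, Algebra.algebraMap_eq_smul_one, TensorProduct.smul_tmul]
    have hle : b.comap (algebraMap A B) = c.comap (algebraMap A C) := by
      ext r
      show algebraMap B (B ⊗[A] C) (algebraMap A B r) ∈ q ↔ algebraMap C (B ⊗[A] C) (algebraMap A C r) ∈ q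
      rw [hcomm]
    let σ : A ⧸ b.comap (algebraMap A B) →+* C ⧸ c := Ideal.quotientMap c (algebraMap A C) hle.le
    have hσ : Function.Injective σ := Ideal.quotientMap_injective' hle.ge
    let τ : B ⧸ b →+* (B ⊗[A] C) ⧸ q := Ideal.quotientMap q (algebraMap B (B ⊗[A] C)) le_rfl
    refine ⟨p.map σ, (Polynomial.map_ne_zero_iff hσ).mpr hp0, ?_⟩
    have heq : ((algebraMap (C ⧸ c) ((B ⊗[A] C) ⧸ q)).comp σ) = τ.comp (algebraMap (A ⧸ b.comap (algebraMap A B)) (B ⧸ b)) := by
      refine Ideal.Quotient.ringHom_ext (RingHom.ext fun r => ?_)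
      exact congrArg (Ideal.Quotient.mk q) (hcomm r).symm
    have hx : Ideal.Quotient.mk q (x ⊗ₜ[A] (1 : C)) = τ (Ideal.Quotient.mk b x) := rfl
    rw [Polynomial.aeval_def, Polynomial.eval₂_map, heq, hx, ← Polynomial.hom_eval₂]
    exact (congrArg τ hp).trans (map_zero τ)

theorem nonempty_spec_tensor (K L M : Type u) [Field K] [Field L] [Field M] [Algebra K L] [Algebra K M] :
    Nonempty (PrimeSpectrum (L ⊗[K] M)) := by
  haveI : Nontrivial (L ⊗[K] M) := inferInstance
  infer_instance

theorem exists_prime_over (b : PrimeSpectrum B) (c : PrimeSpectrum C)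
    (h : PrimeSpectrum.comap (algebraMap A B) b = PrimeSpectrum.comap (algebraMap A C) c) :
    ∃ q : PrimeSpectrum (B ⊗[A] C),
      PrimeSpectrum.comap (algebraMap B (B ⊗[A] C)) q = b ∧ PrimeSpectrum.comap (algebraMap C (B ⊗[A] C)) q = c := by
  let a := PrimeSpectrum.comap (algebraMap A B) b
  let kb := b.asIdeal.ResidueField
  let kc := c.asIdeal.ResidueField
  let K := a.asIdeal.ResidueField
  letI : Algebra K kb := (Ideal.ResidueField.map a.asIdeal b.asIdeal (algebraMap A B) rfl).toAlgebra
  letI : Algebra K kc :=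
    (Ideal.ResidueField.map a.asIdeal c.asIdeal (algebraMap A C) (congrArg PrimeSpectrum.asIdeal h)).toAlgebra
  haveI : IsScalarTower A K kb := IsScalarTower.of_algebraMap_eq (R := A) (S := K) (A := kb) fun r => by
    rw [RingHom.algebraMap_toAlgebra, Ideal.ResidueField.map_algebraMap, ← IsScalarTower.algebraMap_apply]
  haveI : IsScalarTower A K kc := IsScalarTower.of_algebraMap_eq (R := A) (S := K) (A := kc) fun r => by
    rw [RingHom.algebraMap_toAlgebra, Ideal.ResidueField.map_algebraMap, ← IsScalarTower.algebraMap_apply]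
  let l : kb →ₐ[A] kb ⊗[K] kc :=
    (Algebra.TensorProduct.includeLeft : kb →ₐ[K] kb ⊗[K] kc).restrictScalars A
  let r : kc →ₐ[A] kb ⊗[K] kc :=
    (Algebra.TensorProduct.includeRight : kc →ₐ[K] kb ⊗[K] kc).restrictScalars A
  let φ : B ⊗[A] C →ₐ[A] kb ⊗[K] kc := Algebra.TensorProduct.lift
    (l.comp (IsScalarTower.toAlgHom A B kb)) (r.comp (IsScalarTower.toAlgHom A C kc)) (fun _ _ => Commute.all _ _)
  obtain ⟨p⟩ := nonempty_spec_tensor K kb kc
  refine ⟨PrimeSpectrum.comap φ.toRingHom p, ?_, ?_⟩
  · have : φ.toRingHom.comp (algebraMap B (B ⊗[A] C)) = l.toRingHom.comp (algebraMap B kb) := RingHom.ext fun x => by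
      show φ (x ⊗ₜ[A] 1) = l (algebraMap B kb x)
      simp [φ]
    apply PrimeSpectrum.ext
    show (p.asIdeal.comap φ.toRingHom).comap (algebraMap B (B ⊗[A] C)) = b.asIdeal
    rw [Ideal.comap_comap, this, ← Ideal.comap_comap,
      (Ideal.eq_bot_or_top (p.asIdeal.comap l.toRingHom)).resolve_right (Ideal.IsPrime.ne_top inferInstance)]
    exact Ideal.ker_algebraMap_residueField b.asIdeal
  · have : φ.toRingHom.comp (algebraMap C (B ⊗[A] C)) = r.toRingHom.comp (algebraMap C kc) := RingHom.ext fun x => by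
      show φ (1 ⊗ₜ[A] x) = r (algebraMap C kc x)
      simp [φ]
    apply PrimeSpectrum.ext
    show (p.asIdeal.comap φ.toRingHom).comap (algebraMap C (B ⊗[A] C)) = c.asIdeal
    rw [Ideal.comap_comap, this, ← Ideal.comap_comap,
      (Ideal.eq_bot_or_top (p.asIdeal.comap r.toRingHom)).resolve_right (Ideal.IsPrime.ne_top inferInstance)]
    exact Ideal.ker_algebraMap_residueField c.asIdeal

end Groth.Agent.WContr.WSquare
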