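import Groth.Agent.WContr.Pi0IndZar

/-!
An algebra with w-local spectrum that identifies local rings is ind-Zariski, over any base ring.
-/

set_option autoImplicit false
set_option backward.isDefEq.respectTransparency false
set_option linter.style.haveILetI false
set_option synthInstance.maxHeartbeats 200000
set_option maxHeartbeats 1600000

universe u

open Topology

namespace Groth.Agent.WContr

theorem isIndZariski_of_identifiesLocalRings_of_isWLocal {A B : Type u} [CommRing A] [CommRing B] [Algebra A B]
    (h1 : EtPBC.IdentifiesLocalRings A B) (h3 : ProEtW.IsWLocal (PrimeSpectrum B)) :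
    EtPBC.IsIndZariski A B := by
  classical
  let T := _root_.ConnectedComponents (PrimeSpectrum B)
  haveI : T2Space T := Groth.Agent.WLocalFib.t2Space_connectedComponents
  let mk : PrimeSpectrum B → T := fun q => _root_.ConnectedComponents.mk q
  have closed_exists : ∀ c : T, ∃ n : PrimeSpectrum B, IsClosed ({n} : Set (PrimeSpectrum B)) ∧ mk n = c := by
    intro c
    obtain ⟨q, rfl⟩ := ConnectedComponents.surjective_coe c
    obtain ⟨n, ⟨hn, hqn⟩, -⟩ := h3.2.2 q
    exact ⟨n, hn, ConnectedComponents.coe_eq_coe'.mpr (isClosed_connectedComponent.closure_subset_iff.mpr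
      (Set.singleton_subset_iff.mpr mem_connectedComponent) hqn.mem_closure)⟩
  have closed_unique : ∀ n n' : PrimeSpectrum B, IsClosed ({n} : Set (PrimeSpectrum B)) →
      IsClosed ({n'} : Set (PrimeSpectrum B)) → mk n = mk n' → n = n' := fun n n' hn hn' he =>
    Groth.Agent.WLocalPi0.eq_of_isClosed_of_mem_connectedComponent h3 hn' hn
      (ConnectedComponents.coe_eq_coe'.mp he)
  -- a clopen neighbourhood on which given elements stay invertible
  have nbhd : ∀ (f : B) (n : PrimeSpectrum B), IsClosed ({n} : Set (PrimeSpectrum B)) → f ∉ n.asIdeal →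
      ∃ V : TopologicalSpace.Clopens T, mk n ∈ (V : Set T) ∧
        ∀ q : PrimeSpectrum B, IsClosed ({q} : Set (PrimeSpectrum B)) → mk q ∈ (V : Set T) → f ∉ q.asIdeal := by
    intro f n hn hf
    let K : Set (PrimeSpectrum B) :=
      PrimeSpectrum.zeroLocus {f} ∩ {q : PrimeSpectrum B | IsClosed ({q} : Set (PrimeSpectrum B))}
    have hK : IsClosed (mk '' K) :=
      (((PrimeSpectrum.isClosed_zeroLocus _).inter h3.2.1).isCompact.image ConnectedComponents.continuous_coe).isClosed
    have hnK : mk n ∈ (mk '' K)ᶜ := by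
      rintro ⟨q, ⟨hq, hqc⟩, he⟩
      rw [closed_unique q n hqc hn he] at hq
      exact hf (hq rfl)
    obtain ⟨U, hU, hnU, hUK⟩ := compact_exists_isClopen_in_isOpen hK.isOpen_compl hnK
    exact ⟨⟨U, hU⟩, hnU, fun q hq hqU hfq => hUK hqU ⟨q, ⟨Set.singleton_subset_iff.mpr hfq, hq⟩, rfl⟩⟩
  have unit_of : ∀ x : B, (∀ q : PrimeSpectrum B, IsClosed ({q} : Set (PrimeSpectrum B)) → x ∉ q.asIdeal) →
      IsUnit x := fun x hx => by
    by_contra hh
    obtain ⟨m, hm, hxm⟩ := exists_max_ideal_of_mem_nonunits (mem_nonunits_iff.mpr hh)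
    exact hx ⟨m, hm.isPrime⟩ ((PrimeSpectrum.isClosed_singleton_iff_isMaximal _).mpr hm) hxm
  obtain ⟨ψ, hψ⟩ := exists_algHom_lcRing A B
  let M : Submonoid (lcRing A T) := (IsUnit.submonoid B).comap ψ.toRingHom.toMonoidHom
  let L := Localization M
  let φ : L →ₐ[A] B := IsLocalization.liftAlgHom (M := M) (f := ψ) (fun m => m.2)
  have hφ : ∀ h, φ (algebraMap (lcRing A T) L h) = ψ h := fun h => IsLocalization.lift_eq _ h
  have hz : EtPBC.IsIndZariski A L := isIndZariski_localization_lcRing M L
  -- `χ_V s` avoids a maximal ideal through a component in `V`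
  have avoid : ∀ (J : Ideal L), (∀ c : T, ∃ (V : TopologicalSpace.Clopens T) (s : A), c ∈ (V : Set T) ∧
      (∀ q : PrimeSpectrum B, IsClosed ({q} : Set (PrimeSpectrum B)) → mk q ∈ (V : Set T) →
        algebraMap A B s ∉ q.asIdeal) ∧
      algebraMap (lcRing A T) L (lcChi V * algebraMap A (lcRing A T) s) ∈ J) → J = ⊤ := by
    intro J hJ
    by_contra hne
    obtain ⟨P, hP, hJP⟩ := Ideal.exists_le_maximal J hne
    let y : PrimeSpectrum (lcRing A T) := PrimeSpectrum.comap (algebraMap (lcRing A T) L) ⟨P, hP.isPrime⟩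
    obtain ⟨V, s, hV, hs, hmem⟩ := hJ (lcPt y)
    let h' : lcRing A T := lcChi V * algebraMap A (lcRing A T) s + lcChi Vᶜ
    have hu : IsUnit (ψ h') := unit_of _ fun q hq hq' => by
      have h6 := (hψ h' q).mp hq'
      by_cases hqV : _root_.ConnectedComponents.mk q ∈ (V : Set T)
      · rw [show h'.1 (_root_.ConnectedComponents.mk q) = s by simp [h', lcChi, hqV]] at h6
        exact hs q hq hqV h6
      · rw [show h'.1 (_root_.ConnectedComponents.mk q) = 1 by simp [h', lcChi, hqV]] at h6
        exact (PrimeSpectrum.comap (algebraMap A B) q).2.one_notMem h6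
    have hunit : IsUnit (algebraMap (lcRing A T) L h') := IsLocalization.map_units L (⟨h', hu⟩ : M)
    have hχ : algebraMap (lcRing A T) L (lcChi V) ∉ P := (lcChi_notMem_iff y V).mpr hV
    have he : lcChi V * h' = lcChi V * (lcChi V * algebraMap A (lcRing A T) s) := by
      rw [mul_add, lcChi_mul_compl, add_zero]
    have h7 : algebraMap (lcRing A T) L (lcChi V) * algebraMap (lcRing A T) L h' ∈ P := by
      rw [← map_mul, he, map_mul]
      exact P.mul_mem_left _ (hJP hmem)
    rcases hP.isPrime.mem_or_mem h7 with h | h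
    · exact hχ h
    · exact hP.ne_top (P.eq_top_of_isUnit_mem h hunit)
  have hinj : Function.Injective φ := by
    rw [injective_iff_map_eq_zero]
    intro x hx
    obtain ⟨h, m, rfl⟩ := IsLocalization.exists_mk'_eq M x
    have h0 : ψ h = 0 := by
      have := congrArg φ (IsLocalization.mk'_spec L h m)
      rw [map_mul, hx, zero_mul, hφ] at this
      exact this.symm
    have key := avoid (LinearMap.ker (LinearMap.toSpanSingleton L L (algebraMap (lcRing A T) L h))) (fun c => by
        obtain ⟨n, hn, rfl⟩ := closed_exists c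
        let a := h.1 (mk n)
        have ha0 : algebraMap A (Localization.AtPrime (n.asIdeal.comap (algebraMap A B))) a = 0 := by
          refine (h1 n).injective ?_
          rw [Localization.localRingHom_to_map, map_zero]
          let Va : TopologicalSpace.Clopens T := ⟨h.1 ⁻¹' {a}, h.2.isClopen_fiber a⟩
          have hχn : ψ (lcChi Va) ∉ n.asIdeal := fun hh => by
            have h6 := (hψ _ n).mp hh
            simp [lcChi, Va, a, mk] at h6
            exact n.2.one_notMem h6
          have e1 : lcChi Va * h = lcChi Va * algebraMap A (lcRing A T) a := Subtype.ext (funext fun z => by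
            by_cases hz : z ∈ (Va : Set T)
            · have hz' : h.1 z = a := hz
              simp [lcChi, hz, hz']
            · simp [lcChi, hz])
          have e2 : ψ (lcChi Va) * algebraMap A B a = 0 := by
            have e3 := congrArg ψ e1
            rw [map_mul, map_mul, h0, mul_zero, AlgHom.commutes] at e3
            exact e3.symm
          exact (IsLocalization.map_eq_zero_iff n.asIdeal.primeCompl _ _).mpr ⟨⟨_, hχn⟩, e2⟩
        obtain ⟨⟨r, hr⟩, hra⟩ := (IsLocalization.map_eq_zero_iff
          (n.asIdeal.comap (algebraMap A B)).primeCompl _ _).mp ha0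
        obtain ⟨W, hnW, hW⟩ := nbhd (algebraMap A B r) n hn hr
        let V : TopologicalSpace.Clopens T := W ⊓ ⟨h.1 ⁻¹' {a}, h.2.isClopen_fiber a⟩
        refine ⟨V, r, ⟨hnW, rfl⟩, fun q hq hqV => hW q hq hqV.1, ?_⟩
        change algebraMap (lcRing A T) L (lcChi V * algebraMap A (lcRing A T) r) *
          algebraMap (lcRing A T) L h = 0
        rw [← map_mul, show lcChi V * algebraMap A (lcRing A T) r * h = 0 from Subtype.ext (funext fun z => by
          by_cases hz : z ∈ (V : Set T)
          · have hz' : h.1 z = a := hz.2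
            have hra' : r * a = 0 := hra
            simp [lcChi, hz, hz', hra']
          · simp [lcChi, hz]), map_zero])
    have h8 : algebraMap (lcRing A T) L h = 0 := by
      have h9 : (1 : L) ∈ LinearMap.ker (LinearMap.toSpanSingleton L L (algebraMap (lcRing A T) L h)) := key ▸ Submodule.mem_top
      simpa using h9
    rw [IsLocalization.mk'_eq_zero_iff]
    exact (IsLocalization.map_eq_zero_iff M L h).mp h8
  have hsurj : Function.Surjective φ := by
    intro b
    let J : Ideal L :=
      { carrier := {l | φ l * b ∈ Set.range φ}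
        zero_mem' := ⟨0, by simp⟩
        add_mem' := fun {x y} hx hy => by
          obtain ⟨z, hz⟩ := hx
          obtain ⟨w, hw⟩ := hy
          exact ⟨z + w, by rw [map_add, map_add, add_mul, hz, hw]⟩
        smul_mem' := fun l x hx => by
          obtain ⟨z, hz⟩ := hx
          exact ⟨l * z, by rw [smul_eq_mul, map_mul, map_mul, mul_assoc, hz]⟩ }
    have key : J = ⊤ := avoid J fun c => by
      obtain ⟨n, hn, rfl⟩ := closed_exists c
      obtain ⟨x, hx⟩ := (h1 n).surjective (algebraMap B _ b)
      obtain ⟨a, ⟨s, hs⟩, rfl⟩ := IsLocalization.exists_mk'_eq (n.asIdeal.comap (algebraMap A B)).primeCompl x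
      have e1 : algebraMap B (Localization.AtPrime n.asIdeal) (b * algebraMap A B s) =
          algebraMap B (Localization.AtPrime n.asIdeal) (algebraMap A B a) := by
        rw [map_mul, ← hx, ← Localization.localRingHom_to_map (n.asIdeal.comap (algebraMap A B)) n.asIdeal
          (algebraMap A B) rfl s, ← map_mul, IsLocalization.mk'_spec, Localization.localRingHom_to_map]
      obtain ⟨⟨k, hk⟩, hkb⟩ := IsLocalization.exists_of_eq (M := n.asIdeal.primeCompl) e1
      obtain ⟨W, hnW, hW⟩ := nbhd (k * algebraMap A B s) n hn (fun h => (n.2.mem_or_mem h).elim hk hs)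
      refine ⟨W, s, hnW, fun q hq hqW hsq => hW q hq hqW (q.asIdeal.mul_mem_left _ hsq), ?_⟩
      refine ⟨algebraMap (lcRing A T) L (lcChi W * algebraMap A (lcRing A T) a), ?_⟩
      change φ _ = φ _ * b
      rw [hφ, hφ, map_mul, map_mul, AlgHom.commutes, AlgHom.commutes]
      refine eq_of_forall_closed fun q hq => ?_
      by_cases hqW : mk q ∈ (W : Set T)
      · have hkq : IsUnit (algebraMap B (Localization.AtPrime q.asIdeal) k) :=
          IsLocalization.map_units (M := q.asIdeal.primeCompl) _
            (⟨k, fun h => hW q hq hqW (q.asIdeal.mul_mem_right _ h)⟩ : q.asIdeal.primeCompl)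
        have h10 := congrArg (algebraMap B (Localization.AtPrime q.asIdeal)) hkb
        simp only [map_mul] at h10 ⊢
        rw [← hkq.mul_left_cancel h10]
        ring
      · have hc : ψ (lcChi Wᶜ) ∉ q.asIdeal := fun hh => by
          have h6 := (hψ _ q).mp hh
          rw [show (lcChi Wᶜ : lcRing A T).1 (_root_.ConnectedComponents.mk q) = 1 from
            Set.indicator_of_mem (show _root_.ConnectedComponents.mk q ∈ (W : Set T)ᶜ from hqW) _] at h6
          exact (PrimeSpectrum.comap (algebraMap A B) q).2.one_notMem h6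
        have h10 : algebraMap B (Localization.AtPrime q.asIdeal) (ψ (lcChi W)) = 0 :=
          (IsLocalization.map_eq_zero_iff q.asIdeal.primeCompl _ _).mpr
            ⟨⟨_, hc⟩, by rw [← map_mul, mul_comm, lcChi_mul_compl, map_zero]⟩
        simp [h10]
    obtain ⟨z, hz⟩ := key.ge (Submodule.mem_top : (1 : L) ∈ (⊤ : Ideal L))
    exact ⟨z, by simpa using hz⟩
  exact isIndZariski_of_algEquiv (AlgEquiv.ofBijective φ ⟨hinj, hsurj⟩) hz

end Groth.Agent.WContr

namespace Groth.Agent.WContr

/-- Identifying local rings may be checked at the closed points of the source. -/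
theorem identifiesLocalRings_of_closed {C D : Type u} [CommRing C] [CommRing D] [Algebra C D]
    (h : ∀ n : PrimeSpectrum D, IsClosed ({n} : Set (PrimeSpectrum D)) → Function.Bijective
      (Localization.localRingHom (n.asIdeal.comap (algebraMap C D)) n.asIdeal (algebraMap C D) rfl)) :
    EtPBC.IdentifiesLocalRings C D := by
  intro q
  obtain ⟨N, hN, hqN⟩ := Ideal.exists_le_maximal q.asIdeal q.2.ne_top
  have hb := h ⟨N, hN.isPrime⟩ ((PrimeSpectrum.isClosed_singleton_iff_isMaximal _).mpr hN)
  haveI := hN.isPrime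
  let m := N.comap (algebraMap C D)
  -- write an element of `D` as a fraction from `C`, up to elements outside `N`
  have frac : ∀ d : D, ∃ (a u : C) (w : D), u ∉ m ∧ w ∉ N ∧ w * (d * algebraMap C D u) = w * algebraMap C D a := by
    intro d
    obtain ⟨x, hx⟩ := hb.surjective (algebraMap D _ d)
    obtain ⟨a, ⟨u, hu⟩, rfl⟩ := IsLocalization.exists_mk'_eq m.primeCompl x
    have e1 : algebraMap D (Localization.AtPrime N) (d * algebraMap C D u) =
        algebraMap D (Localization.AtPrime N) (algebraMap C D a) := by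
      rw [map_mul, ← hx, ← Localization.localRingHom_to_map m N (algebraMap C D) rfl u, ← map_mul,
        IsLocalization.mk'_spec, Localization.localRingHom_to_map]
    obtain ⟨⟨w, hw⟩, hwe⟩ := IsLocalization.exists_of_eq (M := N.primeCompl) e1
    exact ⟨a, u, w, hu, hw, hwe⟩
  have notmem : ∀ (t : D) (a u : C) (w : D), t ∉ q.asIdeal → u ∉ m → w ∉ N →
      w * (t * algebraMap C D u) = w * algebraMap C D a → algebraMap C D a ∉ q.asIdeal := by
    intro t a u w ht hu hw he ha
    have h1 : w * (t * algebraMap C D u) ∈ q.asIdeal := he ▸ q.asIdeal.mul_mem_left w ha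
    rcases q.2.mem_or_mem h1 with h2 | h2
    · exact hw (hqN h2)
    · exact (q.2.mem_or_mem h2).elim ht fun h3 => hu (hqN h3)
  let p := q.asIdeal.comap (algebraMap C D)
  refine ⟨(injective_iff_map_eq_zero _).mpr fun x hx => ?_, fun y => ?_⟩
  · obtain ⟨a, s, rfl⟩ := IsLocalization.exists_mk'_eq p.primeCompl x
    rw [Localization.localRingHom_mk', IsLocalization.mk'_eq_zero_iff] at hx
    obtain ⟨⟨t, ht⟩, hta⟩ := hx
    obtain ⟨c, u, w, hu, hw, he⟩ := frac t
    have hca : w * algebraMap C D (c * a) = 0 :=
      calc w * algebraMap C D (c * a) = w * algebraMap C D c * algebraMap C D a := by rw [map_mul]; ring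
        _ = w * (t * algebraMap C D u) * algebraMap C D a := by rw [he]
        _ = w * algebraMap C D u * (t * algebraMap C D a) := by ring
        _ = 0 := by rw [show t * algebraMap C D a = 0 from hta, mul_zero]
    have h4 : algebraMap C (Localization.AtPrime m) (c * a) = 0 := hb.injective (by
      rw [map_zero, Localization.localRingHom_to_map]
      exact (IsLocalization.map_eq_zero_iff N.primeCompl _ _).mpr ⟨⟨w, hw⟩, hca⟩)
    obtain ⟨⟨v, hv⟩, hv0⟩ := (IsLocalization.map_eq_zero_iff m.primeCompl _ _).mp h4
    rw [IsLocalization.mk'_eq_zero_iff]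
    refine ⟨⟨v * c, p.primeCompl.mul_mem (fun hh => hv (hqN hh)) (notmem t c u w ht hu hw he)⟩, ?_⟩
    change v * c * a = 0
    rw [mul_assoc]
    exact hv0
  · obtain ⟨d, ⟨t, ht⟩, rfl⟩ := IsLocalization.exists_mk'_eq q.asIdeal.primeCompl y
    obtain ⟨a, u, w, hu, hw, he⟩ := frac d
    obtain ⟨c, u', w', hu', hw', he'⟩ := frac t
    refine ⟨IsLocalization.mk' (Localization.AtPrime p) (a * u')
      (⟨u * c, p.primeCompl.mul_mem (fun hh => hu (hqN hh)) (notmem t c u' w' ht hu' hw' he')⟩ : p.primeCompl), ?_⟩
    rw [Localization.localRingHom_mk', IsLocalization.mk'_eq_iff_eq, IsLocalization.eq_iff_exists q.asIdeal.primeCompl]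
    refine ⟨⟨w * w', q.asIdeal.primeCompl.mul_mem (fun hh => hw (hqN hh)) (fun hh => hw' (hqN hh))⟩, ?_⟩
    change w * w' * (t * algebraMap C D (a * u')) = w * w' * (algebraMap C D (u * c) * d)
    calc w * w' * (t * algebraMap C D (a * u'))
        = w * algebraMap C D a * (w' * (t * algebraMap C D u')) := by rw [map_mul]; ring
      _ = w * (d * algebraMap C D u) * (w' * algebraMap C D c) := by rw [← he, he']
      _ = w * w' * (algebraMap C D (u * c) * d) := by rw [map_mul]; ring

end Groth.Agent.WContr
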