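import Groth.Agent.WContr.ProEtSite
import Groth.Agent.WContr.Exists
import Groth.Agent.IndEtLib.Basic

/-!
Existence of weakly contractible covers in the small pro-étale site.
-/

set_option autoImplicit false
set_option backward.isDefEq.respectTransparency false
set_option backward.isDefEq.respectTransparency.types false
set_option linter.style.haveILetI false

universe u w

open CategoryTheory CategoryTheory.Limits AlgebraicGeometry Opposite

namespace Groth.Agent.WContr

variable {X : Scheme.{u}}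

/-- w-contractibility transports along ring isomorphisms -/
theorem wc_of_ringEquiv {A A' : Type u} [CommRing A] [CommRing A'] (e : A ≃+* A') (h : EtPBC.IsWContractible A) :
    EtPBC.IsWContractible A' := by
  intro B _ _ hff het
  letI : Algebra A A' := e.toRingHom.toAlgebra
  letI : Algebra A B := ((algebraMap A' B).comp (algebraMap A A')).toAlgebra
  haveI : IsScalarTower A A' B := IsScalarTower.of_algebraMap_eq fun _ => rfl
  let ee : A ≃ₐ[A] A' := AlgEquiv.ofRingEquiv (f := e) fun _ => rfl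
  haveI : Algebra.WeaklyEtale A A' := weaklyEtale_of_algEquiv ee
  haveI : Module.FaithfullyFlat A A' := Module.FaithfullyFlat.of_linearEquiv _ _ ee.toLinearEquiv.symm
  haveI := Module.FaithfullyFlat.trans A A' B
  obtain ⟨r⟩ := h B inferInstance (Algebra.WeaklyEtale.trans A A' B)
  refine ⟨{ e.toRingHom.comp r.toRingHom with commutes' := fun a' => ?_ }⟩
  obtain ⟨a, rfl⟩ := e.surjective a'
  exact congrArg e (r.commutes a)

/-- open immersions that are jointly surjective cover -/
theorem zariski_mem_topology {U : X.ProEt} {ι : Type u} (Z : ι → X.ProEt) (g : ∀ i, Z i ⟶ U)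
    [∀ i, IsOpenImmersion (g i).left] (hs : ∀ x : U.left, ∃ i, x ∈ Set.range (g i).left) :
    Sieve.ofArrows Z g ∈ Scheme.ProEt.topology X U := by
  refine Precoverage.generate_mem_toGrothendieck ?_
  rw [Scheme.ProEt.precoverage, Precoverage.mem_comap_iff, Presieve.map_ofArrows]
  refine Scheme.zariskiPrecoverage_le_propQCPrecoverage _ ?_
  rw [Scheme.ofArrows_mem_precoverage_iff]
  exact ⟨hs, fun i => inferInstanceAs (IsOpenImmersion (g i).left)⟩

/-- weak contractibility is inherited by disjoint unions -/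
theorem isWC_of_disjoint {U : X.ProEt} {ι : Type u} (Z : ι → X.ProEt) (g : ∀ i, Z i ⟶ U)
    [∀ i, IsOpenImmersion (g i).left] (hs : ∀ x : U.left, ∃ i, x ∈ Set.range (g i).left)
    (hd : Pairwise fun i j => Disjoint (Set.range (g i).left) (Set.range (g j).left))
    (hZ : ∀ i, ProEtS.IsWC (Z i)) : ProEtS.IsWC U := by
  intro F G φ hφ s
  choose t ht using fun i => hZ i F G φ hφ (G.obj.map (g i).op s)
  have hF : Presieve.IsSheaf (Scheme.ProEt.topology X) F.obj := (isSheaf_iff_isSheaf_of_type _ _).mp F.property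
  have hG : Presieve.IsSheaf (Scheme.ProEt.topology X) G.obj := (isSheaf_iff_isSheaf_of_type _ _).mp G.property
  have hR := zariski_mem_topology Z g hs
  have hc : Presieve.Arrows.Compatible F.obj g t := by
    intro i j V gi gj hij
    by_cases hne : i = j
    · subst hne
      have : gi = gj := by
        apply MorphismProperty.Over.Hom.ext
        have h : gi.left ≫ (g i).left = gj.left ≫ (g i).left := congrArg (fun f => f.left) hij
        exact (cancel_mono (g i).left).mp h
      rw [this]
    · haveI : IsEmpty V.left := ⟨fun v => by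
        have h' : gi.left ≫ (g i).left = gj.left ≫ (g j).left := congrArg (fun f => f.left) hij
        have h : (g i).left (gi.left v) = (g j).left (gj.left v) :=
          congrArg (fun f : V.left ⟶ U.left => f v) h'
        exact Set.disjoint_left.mp (hd hne) ⟨gi.left v, rfl⟩ ⟨gj.left v, h.symm⟩⟩
      exact (hF _ (Scheme.ProEt.bot_mem_topology V)).isSeparatedFor.ext fun Y f hf => hf.elim
  obtain ⟨a, ha, -⟩ := (Presieve.isSheafFor_arrows_iff _ _).mp
    ((Presieve.isSheafFor_iff_generate _).mpr (hF _ hR)) t hc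
  refine ⟨a, (hG _ hR).isSeparatedFor.ext fun Y f hf => ?_⟩
  obtain ⟨_, m, _, ⟨i⟩, rfl⟩ := hf
  simp only [op_comp, G.obj.map_comp_apply]
  congr 1
  rw [← NatTrans.naturality_apply φ.hom (g i).op a, ha]
  exact ht i

/-- affine objects have affine w-contractible covers -/
theorem exists_affine_cover (U : X.ProEt) [IsAffine U.left] :
    ∃ (V : X.ProEt) (g : V ⟶ U), Sieve.generate (Presieve.singleton g) ∈ Scheme.ProEt.topology X U ∧
      IsAffine V.left ∧ EtPBC.IsWContractible ↥(Γ(V.left, ⊤)) := by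
  obtain ⟨D, _, algD, hff, hind, hwc⟩ := exists_wContractible Γ(U.left, ⊤)
  let φ : Γ(U.left, ⊤) ⟶ CommRingCat.of D := CommRingCat.ofHom (algebraMap Γ(U.left, ⊤) D)
  haveI : WeaklyEtale (Spec.map φ) := (Groth.Agent.WeakEt.specMap_iff φ).2 (by
    change @Algebra.WeaklyEtale Γ(U.left, ⊤) D _ _ (algebraMap Γ(U.left, ⊤) D).toAlgebra
    rw [show (algebraMap Γ(U.left, ⊤) D).toAlgebra = algD from Algebra.algebra_ext _ _ fun _ => rfl]
    exact Groth.Agent.IndEtLib.weaklyEtale hind)
  haveI : Surjective (Spec.map φ) := ⟨fun x => PrimeSpectrum.comap_surjective_of_faithfullyFlat (B := D) x⟩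
  let f : Spec (CommRingCat.of D) ⟶ U.left := Spec.map φ ≫ U.left.isoSpec.inv
  let V : X.ProEt := Scheme.ProEt.mk (f ≫ U.hom)
  let g : V ⟶ U := MorphismProperty.Over.homMk f rfl
  haveI : IsAffine V.left := inferInstanceAs (IsAffine (Spec (CommRingCat.of D)))
  refine ⟨V, g, ?_, inferInstance, ?_⟩
  · have hm := ofArrows_mem_topology U (ι := PUnit.{u + 1}) (fun _ => V) (fun _ => g) fun x => by
      obtain ⟨z, hz⟩ := f.surjective x
      exact ⟨⟨⟩, z, hz⟩
    rwa [Sieve.ofArrows, Presieve.ofArrows_pUnit] at hm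
  · exact wc_of_ringEquiv (Scheme.ΓSpecIso (CommRingCat.of D)).commRingCatIsoToRingEquiv.symm hwc

/-- every open cover by affines refines to a cover by affine w-contractibles -/
theorem exists_cover_of_affineCover (U : X.ProEt) (𝒰 : Scheme.OpenCover.{u} U.left) [∀ i, IsAffine (𝒰.X i)] :
    ∃ (V : 𝒰.I₀ → X.ProEt) (g : ∀ i, V i ⟶ U),
      Sieve.ofArrows V g ∈ Scheme.ProEt.topology X U ∧
        ∀ i, IsAffine (V i).left ∧ EtPBC.IsWContractible ↥(Γ((V i).left, ⊤)) := by
  let Z : 𝒰.I₀ → X.ProEt := fun i => Scheme.ProEt.mk (𝒰.f i ≫ U.hom)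
  haveI hZ : ∀ i, IsAffine (Z i).left := fun i => inferInstanceAs (IsAffine (𝒰.X i))
  let z : ∀ i, Z i ⟶ U := fun i => MorphismProperty.Over.homMk (𝒰.f i) rfl
  haveI : ∀ i, IsOpenImmersion (z i).left := fun i => inferInstanceAs (IsOpenImmersion (𝒰.f i))
  choose V v hv ha hw using fun i => exists_affine_cover (Z i)
  refine ⟨V, fun i => v i ≫ z i, ?_, fun i => ⟨ha i, hw i⟩⟩
  have hz : ∀ x : U.left, ∃ i, x ∈ Set.range (z i).left := fun x => ⟨𝒰.idx x, 𝒰.covers x⟩
  refine (Scheme.ProEt.topology X).transitive (zariski_mem_topology Z z hz) _ ?_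
  rintro Y f ⟨_, m, _, ⟨i⟩, rfl⟩
  rw [Sieve.pullback_comp]
  refine (Scheme.ProEt.topology X).pullback_stable _ ((Scheme.ProEt.topology X).superset_covering ?_ (hv i))
  rintro W a ⟨_, b, _, ⟨⟩, rfl⟩
  exact ⟨_, b, _, ⟨i⟩, (Category.assoc _ _ _).symm⟩

/-- coproduct of a covering family of weakly contractible objects -/
theorem exists_single_cover (U : X.ProEt) {ι : Type u} (V : ι → X.ProEt) (g : ∀ i, V i ⟶ U)
    (hg : Sieve.ofArrows V g ∈ Scheme.ProEt.topology X U) (hV : ∀ i, ProEtS.IsWC (V i)) :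
    ∃ (W : X.ProEt) (h : W ⟶ U), Sieve.generate (Presieve.singleton h) ∈ Scheme.ProEt.topology X U ∧
      ProEtS.IsWC W ∧ Nonempty (W.left ≅ ∐ fun i => (V i).left) := by
  haveI : WeaklyEtale (Sigma.desc fun i => (V i).hom) :=
    IsZariskiLocalAtSource.sigmaDesc (P := @WeaklyEtale) fun i => inferInstance
  let W : X.ProEt := Scheme.ProEt.mk (Sigma.desc fun i => (V i).hom)
  let inj : ∀ i, V i ⟶ W := fun i => MorphismProperty.Over.homMk (Sigma.ι (fun i => (V i).left) i)
    (Sigma.ι_desc _ _)
  let h : W ⟶ U := MorphismProperty.Over.homMk (Sigma.desc fun i => (g i).left)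
    (Sigma.hom_ext _ _ fun i => by
      change Sigma.ι (fun i => (V i).left) i ≫ Sigma.desc (fun i => (g i).left) ≫ U.hom =
        Sigma.ι (fun i => (V i).left) i ≫ Sigma.desc (fun i => (V i).hom)
      rw [Sigma.ι_desc_assoc, Sigma.ι_desc]
      exact Over.w (g i).hom)
  haveI : ∀ i, IsOpenImmersion (inj i).left := fun i =>
    inferInstanceAs (IsOpenImmersion (Sigma.ι (fun i => (V i).left) i))
  refine ⟨W, h, (Scheme.ProEt.topology X).superset_covering ?_ hg, isWC_of_disjoint V inj ?_ ?_ hV,
    ⟨Iso.refl _⟩⟩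
  · rintro Y f ⟨_, m, _, ⟨i⟩, rfl⟩
    refine ⟨_, m ≫ inj i, h, ⟨⟩, ?_⟩
    rw [Category.assoc]
    congr 1
    apply MorphismProperty.Over.Hom.ext
    exact Sigma.ι_desc (fun i => (g i).left) i
  · intro x
    exact ⟨(sigmaOpenCover fun i => (V i).left).idx x, (sigmaOpenCover fun i => (V i).left).covers x⟩
  · intro i j hij
    have := TopologicalSpace.Opens.coe_disjoint.mpr (disjoint_opensRange_sigmaι (fun i => (V i).left) i j hij)
    rwa [Scheme.Hom.coe_opensRange, Scheme.Hom.coe_opensRange] at this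

end Groth.Agent.WContr
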