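import Groth.Agent.WContr.ProEtSite
import Groth.Agent.ProEtCont.Basic
import Mathlib

/-!
Sheafification on weakly contractible affines of the small pro-étale site.
-/

set_option autoImplicit false
set_option backward.isDefEq.respectTransparency false
set_option backward.isDefEq.respectTransparency.types false
set_option linter.style.haveILetI false

universe u w

open CategoryTheory CategoryTheory.Limits AlgebraicGeometry Opposite

namespace Groth.Agent.WContr

variable {X : Scheme.{u}}

/-- gluing along a disjoint family of open immersions -/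
theorem existsUnique_glue_family {U : X.ProEt} {P : (X.ProEt)ᵒᵖ ⥤ Type w}
    (hP : Presieve.IsSheaf (Scheme.ProEt.topology X) P) {ι : Type*} (Z : ι → X.ProEt) (g : ∀ i, Z i ⟶ U)
    [∀ i, IsOpenImmersion (g i).left] (hs : ∀ x : U.left, ∃ i, x ∈ Set.range (g i).left)
    (hd : Pairwise fun i j => Disjoint (Set.range (g i).left) (Set.range (g j).left))
    (t : ∀ i, P.obj (op (Z i))) :
    ∃! s : P.obj (op U), ∀ i, P.map (g i).op s = t i := by
  have hR : Sieve.ofArrows Z g ∈ Scheme.ProEt.topology X U := by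
    refine Precoverage.generate_mem_toGrothendieck ?_
    rw [Scheme.ProEt.precoverage, Precoverage.mem_comap_iff, Presieve.map_ofArrows]
    refine Scheme.zariskiPrecoverage_le_propQCPrecoverage _ ?_
    rw [Scheme.ofArrows_mem_precoverage_iff]
    exact ⟨hs, fun i => inferInstanceAs (IsOpenImmersion (g i).left)⟩
  refine (Presieve.isSheafFor_arrows_iff _ _).mp ((Presieve.isSheafFor_iff_generate _).mpr (hP _ hR)) t ?_
  intro i j V gi gj hij
  by_cases hne : i = j
  · subst hne
    have : gi = gj := by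
      apply MorphismProperty.Over.Hom.ext
      have h : gi.left ≫ (g i).left = gj.left ≫ (g i).left := congrArg (fun f => f.left) hij
      exact (cancel_mono (g i).left).mp h
    rw [this]
  · haveI : IsEmpty V.left := ⟨fun v => by
      have h' : gi.left ≫ (g i).left = gj.left ≫ (g j).left := congrArg (fun f => f.left) hij
      have h : (g i).left (gi.left v) = (g j).left (gj.left v) :=
        congrArg (fun f : V.left ⟶ U.left => f v) h'
      exact Set.disjoint_left.mp (hd hne) ⟨gi.left v, rfl⟩ ⟨gj.left v, h.symm⟩⟩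
    exact (hP _ (Scheme.ProEt.bot_mem_topology V)).isSeparatedFor.ext fun Y f hf => hf.elim

/-- a presheaf turns clopen decompositions of `W` into products -/
def SplitsAt (P : (X.ProEt)ᵒᵖ ⥤ Type w) (W : X.ProEt) : Prop :=
  ∀ (n : ℕ) (O : Fin n → W.left.Opens), Pairwise (fun k l => Disjoint (O k : Set ↥W.left) (O l)) →
    (⋃ k, (O k : Set ↥W.left)) = Set.univ → ∀ t : ∀ k, P.obj (op (piece W (O k))),
      ∃! s : P.obj (op W), ∀ k, P.map (pieceHom W (O k)).op s = t k

theorem bijective_toSheafify (P : (X.ProEt)ᵒᵖ ⥤ Type (u + 1)) (W : X.ProEt) (h : Decomposable W)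
    (hP : SplitsAt P W) : Function.Bijective ((toSheafify (Scheme.ProEt.topology X) P).app (op W)) := by
  let J := Scheme.ProEt.topology X
  let η := toSheafify J P
  constructor
  · intro a b hab
    haveI : Presheaf.IsLocallyInjective J η := inferInstance
    obtain ⟨n, O, -, hd, hc, hR⟩ := h _ (Presheaf.equalizerSieve_mem J η a b hab)
    exact (hP n O hd hc fun k => P.map (pieceHom W (O k)).op a).unique (fun k => rfl)
      fun k => (hR k).symm
  · intro s
    haveI : Presheaf.IsLocallySurjective J η := inferInstance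
    obtain ⟨n, O, -, hd, hc, hR⟩ := h _ (Presheaf.imageSieve_mem J η s)
    choose t ht using hR
    obtain ⟨a, ha, -⟩ := hP n O hd hc t
    refine ⟨a, (existsUnique_glue ((isSheaf_iff_isSheaf_of_type _ _).mp ((presheafToSheaf J (Type (u + 1))).obj P).property) O hd hc
      fun k => (sheafify J P).map (pieceHom W (O k)).op s).unique (fun k => ?_) fun k => rfl⟩
    rw [← NatTrans.naturality_apply η (pieceHom W (O k)).op a, ha]
    exact ht k

theorem splitsAt_of_preservesFiniteProducts (P : (X.ProEt)ᵒᵖ ⥤ Type w) [PreservesFiniteProducts P] (W : X.ProEt) :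
    SplitsAt P W := by
  intro n O hd hc t
  have hY : ∀ Z : X.ProEt, Presieve.IsSheaf (Scheme.ProEt.topology X) (yoneda.obj Z) := fun Z =>
    GrothendieckTopology.Subcanonical.isSheaf_of_isRepresentable _
  have hcol : IsColimit (Cofan.mk W fun k => pieceHom W (O k)) :=
    Cofan.IsColimit.mk _ (fun s => (existsUnique_glue (hY s.pt) O hd hc fun k => s.inj k).choose)
      (fun s j => (existsUnique_glue (hY s.pt) O hd hc fun k => s.inj k).choose_spec.1 j)
      (fun s m hm => (existsUnique_glue (hY s.pt) O hd hc fun k => s.inj k).choose_spec.2 m hm)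
  have hlim := isLimitFanMkObjOfIsLimit P _ _ (Cofan.IsColimit.op hcol)
  obtain ⟨s, hs, hu⟩ := (Types.isLimit_iff _).mp ⟨hlim⟩ (fun j => t j.as) (by
    rintro ⟨i⟩ ⟨j⟩ ⟨⟨h⟩⟩
    cases h
    exact ConcreteCategory.congr_hom (Discrete.functor_map_id _ _) _)
  exact ⟨s, fun k => hs ⟨k⟩, fun s' hs' => hu s' fun j => hs' j.as⟩

section lan

variable {Y : Scheme.{u}} (f : X ⟶ Y) (F : Sheaf (Scheme.ProEt.topology Y) (Type (u + 1)))

theorem splitsAt_lan (W : X.ProEt) : SplitsAt ((ProEtS.bcP f).op.lan.obj F.obj) W := by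
  intro n O hd hc t
  haveI : PreservesFiniteLimits (ProEtS.bcP f) := Groth.Agent.ProEtCont.preservesFiniteLimits_bcP f
  haveI : RepresentablyFlat (ProEtS.bcP f) := flat_of_preservesFiniteLimits _
  let L := (ProEtS.bcP f).op
  let P := L.leftKanExtension F.obj
  let η := L.leftKanExtensionUnit F.obj
  let col := fun T : X.ProEt => Functor.isPointwiseLeftKanExtensionLeftKanExtensionUnit L F.obj (op T)
  let sec : ∀ {T : X.ProEt} {V : Y.ProEt}, (T ⟶ (ProEtS.bcP f).obj V) → F.obj.obj (op V) → P.obj (op T) :=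
    fun m x => P.map m.op (η.app _ x)
  have sec_comp : ∀ {T T' : X.ProEt} {V : Y.ProEt} (g : T' ⟶ T) (m : T ⟶ (ProEtS.bcP f).obj V) x,
      P.map g.op (sec m x) = sec (g ≫ m) x := fun g m x => by
    simp only [sec, op_comp, P.map_comp_apply]
  have sec_map : ∀ {T : X.ProEt} {V V' : Y.ProEt} (q : V' ⟶ V) (m : T ⟶ (ProEtS.bcP f).obj V') x,
      sec (m ≫ (ProEtS.bcP f).map q) x = sec m (F.obj.map q.op x) := fun q m x => by
    simp only [sec, op_comp, P.map_comp_apply]
    exact congrArg _ (NatTrans.naturality_apply η q.op x).symm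
  have hYX : ∀ Z : X.ProEt, Presieve.IsSheaf (Scheme.ProEt.topology X) (yoneda.obj Z) := fun Z =>
    GrothendieckTopology.Subcanonical.isSheaf_of_isRepresentable _
  have hF : Presieve.IsSheaf (Scheme.ProEt.topology Y) F.obj := (isSheaf_iff_isSheaf_of_type _ _).mp F.property
  -- finite disjoint unions in `Y.ProEt`
  have hsum : ∀ V : Fin n → Y.ProEt, ∃ (S : Y.ProEt) (j : ∀ k, V k ⟶ S), ∀ (Q : (Y.ProEt)ᵒᵖ ⥤ Type (u + 1)),
      Presieve.IsSheaf (Scheme.ProEt.topology Y) Q → ∀ x : ∀ k, Q.obj (op (V k)),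
        ∃! a : Q.obj (op S), ∀ k, Q.map (j k).op a = x k := by
    intro V
    haveI : WeaklyEtale (Sigma.desc fun k => (V k).hom) :=
      IsZariskiLocalAtSource.sigmaDesc (P := @WeaklyEtale) fun k => inferInstance
    let S : Y.ProEt := Scheme.ProEt.mk (Sigma.desc fun k => (V k).hom)
    let j : ∀ k, V k ⟶ S := fun k => MorphismProperty.Over.homMk (Sigma.ι (fun k => (V k).left) k)
      (Sigma.ι_desc _ _)
    haveI hj : ∀ k, IsOpenImmersion (j k).left := fun k =>
      inferInstanceAs (IsOpenImmersion (Sigma.ι (fun k => (V k).left) k))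
    refine ⟨S, j, fun Q hQ x => existsUnique_glue_family hQ V j ?_ ?_ x⟩
    · intro p
      exact ⟨(sigmaOpenCover fun k => (V k).left).idx p, (sigmaOpenCover fun k => (V k).left).covers p⟩
    · intro a b hab
      have := TopologicalSpace.Opens.coe_disjoint.mpr (disjoint_opensRange_sigmaι (fun k => (V k).left) a b hab)
      rwa [Scheme.Hom.coe_opensRange, Scheme.Hom.coe_opensRange] at this
  -- existence
  have hex : ∀ t : ∀ k, P.obj (op (piece W (O k))), ∃ s : P.obj (op W), ∀ k, P.map (pieceHom W (O k)).op s = t k := by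
    intro t
    choose g x hx using fun k => Types.jointly_surjective_of_isColimit (col (piece W (O k))) (t k)
    obtain ⟨S, j, hS⟩ := hsum fun k => (g k).left.unop
    obtain ⟨a, ha, -⟩ := hS F.obj hF x
    obtain ⟨m, hm, -⟩ := existsUnique_glue (hYX ((ProEtS.bcP f).obj S)) O hd hc
      fun k => (g k).hom.unop ≫ (ProEtS.bcP f).map (j k)
    refine ⟨sec m a, fun k => ?_⟩
    rw [sec_comp, show pieceHom W (O k) ≫ m = (g k).hom.unop ≫ (ProEtS.bcP f).map (j k) from hm k, sec_map, ha]
    exact hx k
  obtain ⟨s, hs⟩ := hex t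
  refine ⟨s, hs, fun s' hs' => ?_⟩
  obtain ⟨g, x, x', hx, hx'⟩ := Types.FilteredColimit.jointly_surjective_of_isColimit₂ (col W) s' s
  have hk : ∀ k, ∃ (V' : Y.ProEt) (q : V' ⟶ g.left.unop) (m : piece W (O k) ⟶ (ProEtS.bcP f).obj V'),
      m ≫ (ProEtS.bcP f).map q = pieceHom W (O k) ≫ g.hom.unop ∧ F.obj.map q.op x = F.obj.map q.op x' := by
    intro k
    let gk : CostructuredArrow L (op (piece W (O k))) := CostructuredArrow.mk (g.hom ≫ (pieceHom W (O k)).op)
    have e : ∀ (y : F.obj.obj g.left) (a : P.obj (op W)), P.map g.hom (η.app g.left y) = a →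
        P.map gk.hom (η.app g.left y) = P.map (pieceHom W (O k)).op a := fun y a hy => by
      subst hy
      exact P.map_comp_apply _ _ _
    obtain ⟨j, φ, hφ⟩ := (Types.FilteredColimit.isColimit_eq_iff' (col (piece W (O k))) (i := gk) x x').mp
      ((e x s' hx).trans (((hs' k).trans (hs k).symm).trans (e x' s hx').symm))
    exact ⟨j.left.unop, φ.left.unop, j.hom.unop,
      (congrArg Quiver.Hom.unop (CostructuredArrow.w φ)).trans rfl, hφ⟩
  choose V' q m hm hq using hk
  obtain ⟨S, j, hS⟩ := hsum V'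
  let Q := (Scheme.ProEt.topology Y).uliftYoneda.{u + 1}.obj g.left.unop
  obtain ⟨⟨qq⟩, hqq, -⟩ := hS Q.obj ((isSheaf_iff_isSheaf_of_type _ _).mp Q.property) fun k => ⟨q k⟩
  obtain ⟨mm, hmm, -⟩ := existsUnique_glue (hYX ((ProEtS.bcP f).obj S)) O hd hc
    fun k => m k ≫ (ProEtS.bcP f).map (j k)
  have hj : ∀ k, j k ≫ qq = q k := fun k => congrArg ULift.down (hqq k)
  have hw : mm ≫ (ProEtS.bcP f).map qq = g.hom.unop :=
    (existsUnique_glue (hYX ((ProEtS.bcP f).obj g.left.unop)) O hd hc
      fun k => pieceHom W (O k) ≫ g.hom.unop).unique (fun k => by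
        change pieceHom W (O k) ≫ mm ≫ (ProEtS.bcP f).map qq = pieceHom W (O k) ≫ g.hom.unop
        rw [← Category.assoc, show pieceHom W (O k) ≫ mm = m k ≫ (ProEtS.bcP f).map (j k) from hmm k,
          Category.assoc, ← Functor.map_comp, hj, hm]) fun k => rfl
  have hxx : F.obj.map qq.op x = F.obj.map qq.op x' :=
    (hS F.obj hF fun k => F.obj.map (q k).op x').unique
      (fun k => by rw [← F.obj.map_comp_apply, ← op_comp, hj, hq])
      fun k => by rw [← F.obj.map_comp_apply, ← op_comp, hj]
  have h1 : sec g.hom.unop x = sec g.hom.unop x' := by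
    rw [← hw, sec_map, sec_map, hxx]
  exact (hx.symm.trans h1).trans hx'

end lan

end Groth.Agent.WContr
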