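import Groth.Prelude.Def_PBC
import Groth.Agent.Hensel.IndEtale
import Mathlib

/-!
Localizations of étale algebras are ind-étale.
-/

set_option autoImplicit false
set_option backward.isDefEq.respectTransparency false
set_option linter.style.haveILetI false

universe u

open CategoryTheory CategoryTheory.Limits

namespace Groth.Agent.WContr

variable {A : Type u} [CommRing A]

/-- A localization of an étale algebra is ind-étale. -/
theorem isIndEtale_localization_of_etale (P : Type u) [CommRing P] [Algebra A P] [Algebra.Etale A P] (M : Submonoid P)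
    (B : Type u) [CommRing B] [Algebra P B] [Algebra A B] [IsScalarTower A P B] [IsLocalization M B] :
    EtPBC.IsIndEtale A B := by
  let J : Type u := M
  let E : J → Type u := fun t => Localization.Away t.1
  letI : Preorder J :=
    { le := fun i j => IsUnit (algebraMap P (E j) i.1)
      le_refl := fun i => IsLocalization.Away.algebraMap_isUnit (S := E i) i.1
      le_trans := fun i j k h h' => by
        have h2 := h.map (IsLocalization.Away.lift j.1 (g := algebraMap P (E k)) h' : E j →+* E k)
        rwa [IsLocalization.Away.lift_eq] at h2 }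
  haveI : Nonempty J := ⟨⟨1, M.one_mem⟩⟩
  haveI : IsDirectedOrder J := ⟨fun i j => by
    have h := IsLocalization.Away.algebraMap_isUnit (S := Localization.Away (i.1 * j.1)) (i.1 * j.1)
    rw [map_mul] at h
    exact ⟨⟨i.1 * j.1, M.mul_mem i.2 j.2⟩, isUnit_of_mul_isUnit_left h, isUnit_of_mul_isUnit_right h⟩⟩
  let tr : ∀ i j : J, i ≤ j → E i →ₐ[A] E j := fun i j h =>
    IsLocalization.Away.liftAlgHom i.1 (f := IsScalarTower.toAlgHom A P (E j)) h
  have htr : ∀ i j h x, tr i j h (algebraMap P (E i) x) = algebraMap P (E j) x := fun i j h x =>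
    IsLocalization.Away.lift_eq i.1 (g := (IsScalarTower.toAlgHom A P (E j)).toRingHom) h x
  let φ : ∀ j : J, E j →ₐ[A] B := fun j =>
    IsLocalization.Away.liftAlgHom j.1 (f := IsScalarTower.toAlgHom A P B) (IsLocalization.map_units B ⟨_, j.2⟩)
  have hφe : ∀ j x, φ j (algebraMap P (E j) x) = algebraMap P B x := fun j x =>
    IsLocalization.Away.lift_eq j.1 (g := (IsScalarTower.toAlgHom A P B).toRingHom)
      (IsLocalization.map_units B (⟨_, j.2⟩ : M)) x
  have hext : ∀ (j : J) (T : Type u) [CommRing T] (f g : E j →+* T),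
      (∀ x, f (algebraMap P (E j) x) = g (algebraMap P (E j) x)) → f = g := fun j T _ f g h =>
    IsLocalization.ringHom_ext (Submonoid.powers j.1) (RingHom.ext h)
  refine Groth.Agent.Hensel.isIndEtale_of_directed E (fun j => .comp A P (E j)) tr (fun i x => ?_) (fun i j k h h' x => ?_) φ
    (fun i j h x => ?_) (fun b => ?_) fun j x hx => ?_
  · exact RingHom.congr_fun (hext i _ (tr i i le_rfl).toRingHom (RingHom.id _) fun y => htr i i _ y) x
  · refine RingHom.congr_fun (hext i _ (tr i k (h.trans h')).toRingHom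
      ((tr j k h').toRingHom.comp (tr i j h).toRingHom) fun y => ?_) x
    change tr i k _ (algebraMap P (E i) y) = tr j k h' (tr i j h (algebraMap P (E i) y))
    rw [htr, htr, htr]
  · refine RingHom.congr_fun (hext i _ ((φ j).toRingHom.comp (tr i j h).toRingHom) (φ i).toRingHom fun y => ?_) x
    change φ j (tr i j h (algebraMap P (E i) y)) = φ i (algebraMap P (E i) y)
    rw [htr, hφe, hφe]
  · obtain ⟨p, t, rfl⟩ := IsLocalization.exists_mk'_eq M b
    refine ⟨t, IsLocalization.mk' (E t) p (⟨t.1, Submonoid.mem_powers _⟩ : Submonoid.powers t.1), ?_⟩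
    rw [IsLocalization.eq_mk'_iff_mul_eq, ← hφe t t.1, ← map_mul, IsLocalization.mk'_spec, hφe]
  · obtain ⟨p, s, rfl⟩ := IsLocalization.exists_mk'_eq (Submonoid.powers j.1) x
    have h0 : algebraMap P B p = 0 := by
      rw [← hφe j p, ← IsLocalization.mk'_spec (E j) p s, map_mul, hx, zero_mul]
    obtain ⟨u, hu⟩ := (IsLocalization.map_eq_zero_iff M B p).mp h0
    have h := IsLocalization.Away.algebraMap_isUnit (S := Localization.Away (j.1 * u.1)) (j.1 * u.1)
    rw [map_mul] at h
    refine ⟨⟨j.1 * u.1, M.mul_mem j.2 u.2⟩, isUnit_of_mul_isUnit_left h, ?_⟩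
    have hp : algebraMap P (E ⟨j.1 * u.1, M.mul_mem j.2 u.2⟩) p = 0 :=
      (isUnit_of_mul_isUnit_right h).mul_right_eq_zero.mp (by rw [← map_mul, hu, map_zero])
    have hs : IsUnit (algebraMap P (E j) s.1) := IsLocalization.map_units (E j) s
    refine (hs.map (tr j ⟨j.1 * u.1, M.mul_mem j.2 u.2⟩ (isUnit_of_mul_isUnit_left h))).mul_left_eq_zero.mp ?_
    rw [← map_mul, IsLocalization.mk'_spec, htr]
    exact hp

end Groth.Agent.WContr
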