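import Groth.Agent.WContr.ClosedPoints
import Groth.Prelude.Def_EtBase
import Groth.Agent.Hensel.Branches
import Groth.Agent.Hensel.LocalPiece

/-!
Finite algebras of finite presentation over w-contractible rings.
-/

set_option autoImplicit false
set_option backward.isDefEq.respectTransparency false
set_option linter.style.haveILetI false

universe u

open Topology IsLocalRing

namespace Groth.Agent.WContr

variable {A B : Type u} [CommRing A] [CommRing B] [Algebra A B]
  (hA : ∀ (m : Ideal A) [m.IsMaximal], EtCoh.IsStrictlyHenselianLocalRing (Localization.AtPrime m))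
include hA

omit hA in
theorem isIntegral_residueField [Algebra.IsIntegral A B] (n : Ideal B) [n.IsMaximal] (m : Ideal A) [m.IsPrime] [n.LiesOver m]
    [Algebra (Localization.AtPrime m) (Localization.AtPrime n)] [Localization.AtPrime.IsLiesOverAlgebra m n] :
    Algebra.IsAlgebraic m.ResidueField n.ResidueField := by
  refine ⟨fun x => IsIntegral.isAlgebraic ?_⟩
  obtain ⟨b, rfl⟩ := Ideal.algebraMap_residueField_surjective n x
  exact ((Algebra.IsIntegral.isIntegral (R := A) b).map (IsScalarTower.toAlgHom A B n.ResidueField)).tower_top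

/-- residue fields of maximal ideals stay separably closed -/
theorem isSepClosed_residueField [Algebra.IsIntegral A B] (n : Ideal B) [n.IsMaximal] :
    IsSepClosed n.ResidueField := by
  haveI : (n.comap (algebraMap A B)).IsMaximal := Ideal.isMaximal_comap_of_isIntegral_of_isMaximal n
  obtain ⟨_, hs⟩ := hA (n.comap (algebraMap A B))
  haveI : n.LiesOver (n.comap (algebraMap A B)) := ⟨rfl⟩
  letI := Localization.AtPrime.algebraOfLiesOver (n.comap (algebraMap A B)) n
  haveI := isIntegral_residueField n (n.comap (algebraMap A B))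
  haveI : IsSepClosed (n.comap (algebraMap A B)).ResidueField := hs
  exact Algebra.IsAlgebraic.isSepClosed (F := (n.comap (algebraMap A B)).ResidueField)

theorem henselianLocalRing_atPrime [Module.Finite A B] (n : Ideal B) [n.IsMaximal] :
    HenselianLocalRing (Localization.AtPrime n) := by
  let m := n.comap (algebraMap A B)
  haveI : m.IsMaximal := Ideal.isMaximal_comap_of_isIntegral_of_isMaximal n
  obtain ⟨hh, -⟩ := hA m
  let R := Localization.AtPrime m
  let M := Algebra.algebraMapSubmonoid B m.primeCompl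
  let S := Localization M
  have hdisj : Disjoint (M : Set B) (n : Set B) := Set.disjoint_left.mpr fun _ hx h => by
    obtain ⟨a, ha, rfl⟩ := hx
    exact ha h
  let q : Ideal S := n.map (algebraMap B S)
  haveI hq : q.IsPrime := IsLocalization.isPrime_of_isPrime_disjoint M S n inferInstance hdisj
  have hqn : q.comap (algebraMap B S) = n := IsLocalization.comap_map_of_isPrime_disjoint M S inferInstance hdisj
  haveI : q.LiesOver (maximalIdeal R) := ⟨by
    refine IsLocalization.orderEmbedding m.primeCompl R |>.injective ?_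
    show (maximalIdeal R).comap (algebraMap A R) = (q.comap (algebraMap R S)).comap (algebraMap A R)
    rw [← Ideal.under_def A (maximalIdeal R), IsLocalization.AtPrime.under_maximalIdeal R m, Ideal.comap_comap, ← IsScalarTower.algebraMap_eq,
      IsScalarTower.algebraMap_eq A B S, ← Ideal.comap_comap, hqn]⟩
  haveI : Module.Finite R S := inferInstance
  haveI : Algebra.QuasiFiniteAt R q := inferInstance
  haveI := Groth.Agent.Hensel.finite_atPrime R S q
  haveI := Groth.Agent.Hensel.henselianLocalRing_atPrime R S q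
  haveI : IsLocalization.AtPrime (Localization.AtPrime q) n := by
    have h := IsLocalization.isLocalization_isLocalization_atPrime_isLocalization
      (S := S) M (Localization.AtPrime q) q
    simpa only [hqn] using h
  let e := IsLocalization.algEquiv n.primeCompl (Localization.AtPrime q) (Localization.AtPrime n)
  letI := e.toRingEquiv.toRingHom.toAlgebra
  haveI : Algebra.IsIntegral (Localization.AtPrime q) (Localization.AtPrime n) :=
    Algebra.IsIntegral.of_surjective (Algebra.ofId _ _) e.surjective
  exact Groth.Agent.Hensel.henselianLocalRing_finite (Localization.AtPrime q) _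

/-- maximal ideals over one maximal ideal containing a common prime coincide -/
theorem eq_of_le_of_comap_eq [Module.Finite A B] {P Q Q' : Ideal B} [P.IsPrime] [Q.IsMaximal] [Q'.IsMaximal]
    (h : P ≤ Q) (h' : P ≤ Q') (hc : Q.comap (algebraMap A B) = Q'.comap (algebraMap A B)) : Q = Q' := by
  let m := Q.comap (algebraMap A B)
  haveI : m.IsMaximal := Ideal.isMaximal_comap_of_isIntegral_of_isMaximal Q
  obtain ⟨hh, -⟩ := hA m
  let R := Localization.AtPrime m
  let M := Algebra.algebraMapSubmonoid B m.primeCompl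
  let S := Localization M
  have hdisj : ∀ J : Ideal B, J.comap (algebraMap A B) ≤ m → Disjoint (M : Set B) (J : Set B) := fun J hJ =>
    Set.disjoint_left.mpr fun _ hx hJx => by
      obtain ⟨a, ha, rfl⟩ := hx
      exact ha (hJ hJx)
  have hP : Disjoint (M : Set B) (P : Set B) := hdisj P (Ideal.comap_mono h)
  haveI : (P.map (algebraMap B S)).IsPrime := IsLocalization.isPrime_of_isPrime_disjoint M S P inferInstance hP
  haveI : IsLocalRing (S ⧸ P.map (algebraMap B S)) :=
    Groth.Agent.Hensel.isLocalRing_of_integral_domain R (S ⧸ P.map (algebraMap B S))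
  let π := (Ideal.Quotient.mk (P.map (algebraMap B S))).comp (algebraMap B S)
  have key : ∀ J : Ideal B, J.IsMaximal → P ≤ J → J.comap (algebraMap A B) = m →
      J = (maximalIdeal (S ⧸ P.map (algebraMap B S))).comap π := fun J hJ hPJ hJm => by
    have hd := hdisj J hJm.le
    haveI : (J.map (algebraMap B S)).IsPrime := IsLocalization.isPrime_of_isPrime_disjoint M S J hJ.isPrime hd
    have hcomap : (J.map (algebraMap B S)).comap (algebraMap B S) = J :=
      IsLocalization.comap_map_of_isPrime_disjoint M S hJ.isPrime hd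
    have hker : RingHom.ker (Ideal.Quotient.mk (P.map (algebraMap B S))) ≤ J.map (algebraMap B S) := by
      rw [Ideal.mk_ker]; exact Ideal.map_mono hPJ
    haveI : ((J.map (algebraMap B S)).map (Ideal.Quotient.mk (P.map (algebraMap B S)))).IsPrime :=
      Ideal.map_isPrime_of_surjective Ideal.Quotient.mk_surjective hker
    have hle := IsLocalRing.le_maximalIdeal
      (this.ne_top)
    refine hJ.eq_of_le (Ideal.comap_ne_top _ (maximalIdeal.isMaximal _).ne_top) fun b hb => ?_
    exact hle (Ideal.mem_map_of_mem _ (Ideal.mem_map_of_mem _ hb))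
  rw [key Q ‹_› h rfl, key Q' ‹_› h' hc.symm]

theorem isWLocal_finite [Module.Finite A B] (hw : ProEtW.IsWLocal (PrimeSpectrum A)) :
    ProEtW.IsWLocal (PrimeSpectrum B) := by
  obtain ⟨_, hC, hu⟩ := hw
  have hiff : ∀ y : PrimeSpectrum B, IsClosed ({y} : Set _) ↔
      IsClosed ({PrimeSpectrum.comap (algebraMap A B) y} : Set (PrimeSpectrum A)) := fun y => by
    rw [PrimeSpectrum.isClosed_singleton_iff_isMaximal, PrimeSpectrum.isClosed_singleton_iff_isMaximal]
    exact ⟨fun _ => Ideal.isMaximal_comap_of_isIntegral_of_isMaximal y.asIdeal,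
      fun h => Ideal.isMaximal_of_isIntegral_of_isMaximal_comap y.asIdeal h⟩
  refine ⟨inferInstance, ?_, fun x => ?_⟩
  · rw [show {y : PrimeSpectrum B | IsClosed ({y} : Set _)} = PrimeSpectrum.comap (algebraMap A B) ⁻¹'
      {x | IsClosed ({x} : Set _)} from Set.ext hiff]
    exact (hC : IsClosed _).preimage (PrimeSpectrum.continuous_comap _)
  · obtain ⟨n, hn, hxn⟩ := Ideal.exists_le_maximal x.asIdeal x.2.ne_top
    refine ⟨⟨n, hn.isPrime⟩, ⟨(PrimeSpectrum.isClosed_singleton_iff_isMaximal _).mpr hn,
      (PrimeSpectrum.le_iff_specializes _ _).mp hxn⟩, ?_⟩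
    rintro y ⟨hy, hxy⟩
    haveI := (PrimeSpectrum.isClosed_singleton_iff_isMaximal y).mp hy
    have hcl : IsClosed ({⟨n, hn.isPrime⟩} : Set (PrimeSpectrum B)) :=
      (PrimeSpectrum.isClosed_singleton_iff_isMaximal _).mpr hn
    refine PrimeSpectrum.ext (eq_of_le_of_comap_eq hA ((PrimeSpectrum.le_iff_specializes _ _).mpr hxy) hxn ?_)
    exact congrArg PrimeSpectrum.asIdeal ((hu (PrimeSpectrum.comap (algebraMap A B) x)).unique
      ⟨(hiff y).mp hy, hxy.map (PrimeSpectrum.continuous_comap _)⟩
      ⟨(hiff _).mp hcl, (((PrimeSpectrum.le_iff_specializes x ⟨n, hn.isPrime⟩).mp hxn).map (PrimeSpectrum.continuous_comap _))⟩)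

theorem exists_pow_eq [Algebra.IsIntegral A B] (n : Ideal B) [n.IsMaximal] :
    ∃ q : ℕ, (q = 1 ∨ q.Prime ∧ (q : B) ∈ n) ∧
      ∀ g : B, ∃ N : ℕ, ∀ N' ≥ N, ∃ a : A, g ^ q ^ N' - algebraMap A B a ∈ n := by
  let m := n.comap (algebraMap A B)
  haveI : m.IsMaximal := Ideal.isMaximal_comap_of_isIntegral_of_isMaximal n
  obtain ⟨_, hs⟩ := hA m
  haveI : n.LiesOver m := ⟨rfl⟩
  letI := Localization.AtPrime.algebraOfLiesOver m n
  haveI := isIntegral_residueField n m
  haveI : IsSepClosed m.ResidueField := hs
  obtain ⟨q, hq⟩ := ExpChar.exists m.ResidueField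
  refine ⟨q, ?_, fun g => ?_⟩
  · rcases hq with _ | ⟨hprime⟩
    · exact Or.inl rfl
    · refine Or.inr ⟨hprime, ?_⟩
      have h0 : algebraMap B n.ResidueField (q : B) = 0 := by
        rw [map_natCast, ← map_natCast (algebraMap m.ResidueField n.ResidueField), CharP.cast_eq_zero, map_zero]
      rwa [Ideal.algebraMap_residueField_eq_zero] at h0
  · obtain ⟨N, z, hz⟩ := IsPurelyInseparable.pow_mem m.ResidueField q (algebraMap B n.ResidueField g)
    obtain ⟨a, rfl⟩ := Ideal.algebraMap_residueField_surjective m z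
    refine ⟨N, fun N' hN' => ⟨a ^ q ^ (N' - N), ?_⟩⟩
    rw [← Ideal.algebraMap_residueField_eq_zero, map_sub, sub_eq_zero, map_pow]
    rw [← IsScalarTower.algebraMap_apply A m.ResidueField n.ResidueField] at hz
    rw [← IsScalarTower.algebraMap_apply A B n.ResidueField, map_pow, hz, ← pow_mul, ← pow_add,
      Nat.add_sub_cancel' hN']

theorem extremallyDisconnected_finite [Module.Finite A B] [Algebra.FinitePresentation A B]
    (hw : ProEtW.IsWLocal (PrimeSpectrum A))
    [ExtremallyDisconnected (_root_.ConnectedComponents (PrimeSpectrum A))] :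
    ExtremallyDisconnected (_root_.ConnectedComponents (PrimeSpectrum B)) := by
  classical
  have hwB := isWLocal_finite hA (B := B) hw
  rw [← extremallyDisconnected_closedPoints_iff hwB]
  haveI := (extremallyDisconnected_closedPoints_iff hw).mpr inferInstance
  haveI := t2Space_closedPoints hw
  haveI := t2Space_closedPoints hwB
  have hclA : IsClosedEmbedding (Subtype.val : ProEtW.closedPoints (PrimeSpectrum A) → _) :=
    (hw.2.1 : IsClosed _).isClosedEmbedding_subtypeVal
  have hclB : IsClosedEmbedding (Subtype.val : ProEtW.closedPoints (PrimeSpectrum B) → _) :=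
    (hwB.2.1 : IsClosed _).isClosedEmbedding_subtypeVal
  have hmem : ∀ y : PrimeSpectrum B, y ∈ ProEtW.closedPoints (PrimeSpectrum B) ↔
      PrimeSpectrum.comap (algebraMap A B) y ∈ ProEtW.closedPoints (PrimeSpectrum A) := fun y => by
    change IsClosed _ ↔ IsClosed _
    rw [PrimeSpectrum.isClosed_singleton_iff_isMaximal, PrimeSpectrum.isClosed_singleton_iff_isMaximal]
    exact ⟨fun _ => Ideal.isMaximal_comap_of_isIntegral_of_isMaximal y.asIdeal,
      fun h => Ideal.isMaximal_of_isIntegral_of_isMaximal_comap y.asIdeal h⟩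
  let f : ProEtW.closedPoints (PrimeSpectrum B) → ProEtW.closedPoints (PrimeSpectrum A) :=
    fun y => ⟨PrimeSpectrum.comap (algebraMap A B) y.1, (hmem _).mp y.2⟩
  refine extremallyDisconnected_of_openMap (f := f)
    (((PrimeSpectrum.continuous_comap _).comp continuous_subtype_val).subtype_mk _) ?_ fun y => ?_
  · intro W hW
    obtain ⟨W', hW', rfl⟩ := isOpen_induced_iff.mp hW
    rw [isOpen_iff_forall_mem_open]
    rintro _ ⟨y, hy, rfl⟩
    obtain ⟨_, ⟨g, rfl⟩, hyg, hgW⟩ := PrimeSpectrum.isTopologicalBasis_basic_opens.exists_subset_of_mem_open hy hW'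
    let Sg : Set (PrimeSpectrum A) :=
      PrimeSpectrum.comap (algebraMap A B) '' (PrimeSpectrum.basicOpen g : Set (PrimeSpectrum B))
    have hSg : IsConstructible Sg :=
      PrimeSpectrum.isConstructible_comap_image (RingHom.finitePresentation_algebraMap.mpr inferInstance)
        (PrimeSpectrum.isCompact_basicOpen g |>.isRetrocompact (PrimeSpectrum.basicOpen g).isOpen |>.isConstructible
          (PrimeSpectrum.basicOpen g).isOpen)
    have key : ∀ s : Set (PrimeSpectrum A), IsConstructible s →
        IsClopen (Subtype.val ⁻¹' s : Set (ProEtW.closedPoints (PrimeSpectrum A))) := by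
      intro s hs
      induction hs using IsConstructible.empty_union_induction with
      | open_retrocompact U hUo hUc =>
        exact ⟨(hclA.isCompact_preimage hUc.isCompact).isClosed, hUo.preimage continuous_subtype_val⟩
      | union s _ t _ hs ht => exact hs.union ht
      | compl s _ hs => exact hs.compl
    refine ⟨Subtype.val ⁻¹' Sg, ?_, (key Sg hSg).isOpen, ⟨y.1, hyg, rfl⟩⟩
    rintro x ⟨z, hz, hzx⟩
    exact ⟨⟨z, (hmem z).mpr (hzx ▸ x.2)⟩, hgW hz, Subtype.ext hzx⟩
  · haveI := (PrimeSpectrum.isClosed_singleton_iff_isMaximal y.1).mp y.2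
    obtain ⟨q, hq, hpow⟩ := exists_pow_eq hA y.1.asIdeal
    obtain ⟨G, hG⟩ := Module.Finite.fg_top (R := A) (M := B)
    choose N hN using hpow
    choose a ha using fun g : G => hN g.1 (G.sup N) (Finset.le_sup g.2)
    let E : Set B := Set.range (fun g : G => g.1 ^ q ^ G.sup N - algebraMap A B (a g)) ∪
      (if q = 1 then ∅ else {(q : B)})
    have hE : E.Finite := (Set.finite_range _).union (by split <;> simp)
    have hclopen : ∀ e : B, IsOpen (Subtype.val ⁻¹' PrimeSpectrum.zeroLocus {e} :
        Set (ProEtW.closedPoints (PrimeSpectrum B))) := fun e => by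
      rw [← isClosed_compl_iff, ← Set.preimage_compl, ← PrimeSpectrum.basicOpen_eq_zeroLocus_compl]
      exact (hclB.isCompact_preimage (PrimeSpectrum.isCompact_basicOpen e)).isClosed
    refine ⟨⋂ e ∈ E, Subtype.val ⁻¹' PrimeSpectrum.zeroLocus {e}, hE.isOpen_biInter fun e _ => hclopen e,
      Set.mem_iInter₂.mpr fun e he => ?_, ?_⟩
    · rw [Set.mem_preimage, PrimeSpectrum.mem_zeroLocus, Set.singleton_subset_iff]
      rcases he with ⟨g, rfl⟩ | he
      · exact ha g
      · rcases hq with rfl | ⟨hp, hmem⟩
        · simp at he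
        · rw [if_neg hp.ne_one] at he
          exact he ▸ hmem
    · intro y₁ h₁ y₂ h₂ hf
      have hf' : y₁.1.asIdeal.comap (algebraMap A B) = y₂.1.asIdeal.comap (algebraMap A B) :=
        congrArg (fun x => x.1.asIdeal) hf
      have key : ∀ b : B, ∃ r : A, ∀ z : ProEtW.closedPoints (PrimeSpectrum B),
          z ∈ ⋂ e ∈ E, Subtype.val ⁻¹' PrimeSpectrum.zeroLocus {e} → (b ∈ z.1.asIdeal ↔ algebraMap A B r ∈ z.1.asIdeal) := by
        intro b
        obtain ⟨c, rfl⟩ : ∃ c : G → A, ∑ g : G, c g • (g : B) = b := by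
          have hb : b ∈ Submodule.span A (Set.range (Subtype.val : G → B)) := by
            simp [hG]
          exact (Submodule.mem_span_range_iff_exists_fun A).mp hb
        refine ⟨∑ g : G, c g ^ q ^ G.sup N * a g, fun z hz => ?_⟩
        rw [← z.1.2.pow_mem_iff_mem (q ^ G.sup N) (pow_pos (by
          rcases hq with rfl | ⟨hp, -⟩
          · exact one_pos
          · exact hp.pos) _)]
        have hz' : ∀ e ∈ E, e ∈ z.1.asIdeal := fun e he =>
          Set.singleton_subset_iff.mp (Set.mem_iInter₂.mp hz e he)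
        rw [← Ideal.Quotient.eq_zero_iff_mem, ← Ideal.Quotient.eq_zero_iff_mem, map_pow, map_sum, map_sum, map_sum]
        have hsum : (∑ g : G, Ideal.Quotient.mk z.1.asIdeal (c g • (g : B))) ^ q ^ G.sup N =
            ∑ g : G, Ideal.Quotient.mk z.1.asIdeal (c g • (g : B)) ^ q ^ G.sup N := by
          rcases hq with rfl | ⟨hp, -⟩
          · simp
          · haveI : Fact q.Prime := ⟨hp⟩
            haveI : CharP (B ⧸ z.1.asIdeal) q := (CharP.charP_iff_prime_eq_zero hp).mpr (by
              rw [← map_natCast (Ideal.Quotient.mk z.1.asIdeal), Ideal.Quotient.eq_zero_iff_mem]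
              exact hz' _ (Or.inr (by rw [if_neg hp.ne_one]; rfl)))
            exact sum_pow_char_pow q _ _ _
        rw [hsum]
        refine Iff.of_eq (congrArg (· = 0) (Finset.sum_congr rfl fun g _ => ?_))
        rw [Algebra.smul_def, map_mul, map_mul, map_mul, map_pow, map_pow, mul_pow,
          (Ideal.Quotient.mk_eq_mk_iff_sub_mem _ _).mpr (hz' _ (Or.inl ⟨g, rfl⟩)) |>.symm.trans (map_pow _ _ _) |>.symm]
      refine Subtype.ext (PrimeSpectrum.ext (Ideal.ext fun b => ?_))
      obtain ⟨r, hr⟩ := key b
      rw [hr y₁ h₁, hr y₂ h₂]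
      exact SetLike.ext_iff.mp hf' r

end Groth.Agent.WContr
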