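import Groth.Agent.WContr.ProEtCover
import Groth.Agent.WContr.Finite
import Groth.Agent.WContr.Necessity
import Groth.Agent.WContr.Sufficiency
import Groth.Agent.WContr.ClosedPoints
import Groth.Agent.S0679
import Groth.Agent.ProEtCont.Basic
import Mathlib

/-!
Exactness of direct images on the pro-étale site.
-/

set_option autoImplicit false
set_option backward.isDefEq.respectTransparency false
set_option backward.isDefEq.respectTransparency.types false
set_option linter.style.haveILetI false
set_option maxHeartbeats 800000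
set_option synthInstance.maxHeartbeats 200000

universe u

open CategoryTheory CategoryTheory.Limits AlgebraicGeometry Opposite

namespace Groth.Agent.WContr

section ring

variable {A : Type u} [CommRing A]

theorem isHomeomorph_connectedComponentsMap {X Y : Type u} [TopologicalSpace X] [TopologicalSpace Y] (h : X ≃ₜ Y) :
    IsHomeomorph h.continuous.connectedComponentsMap := by
  let e : _root_.ConnectedComponents X ≃ₜ _root_.ConnectedComponents Y :=
    { toFun := h.continuous.connectedComponentsMap
      invFun := h.symm.continuous.connectedComponentsMap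
      left_inv := fun c => by
        obtain ⟨x, rfl⟩ := ConnectedComponents.surjective_coe c
        exact congrArg _root_.ConnectedComponents.mk (h.symm_apply_apply x)
      right_inv := fun c => by
        obtain ⟨x, rfl⟩ := ConnectedComponents.surjective_coe c
        exact congrArg _root_.ConnectedComponents.mk (h.apply_symm_apply x)
      continuous_toFun := h.continuous.connectedComponentsMap_continuous
      continuous_invFun := h.symm.continuous.connectedComponentsMap_continuous }
  exact e.isHomeomorph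

/-- closed constructible subsets of w-contractible spectra -/
theorem wc_quotient (h : EtPBC.IsWContractible A) (I : Ideal A)
    (hI : IsCompact ((PrimeSpectrum.zeroLocus (I : Set A))ᶜ : Set (PrimeSpectrum A))) :
    EtPBC.IsWContractible (A ⧸ I) := by
  obtain ⟨J, hJ, hJI⟩ := PrimeSpectrum.isCompact_isOpen_iff_ideal.mp
    ⟨hI, (PrimeSpectrum.isClosed_zeroLocus _).isOpen_compl⟩
  rw [compl_inj_iff] at hJI
  have hw := isWLocal h
  have hA := fun (m : Ideal A) [m.IsMaximal] => isStrictlyHenselian h m
  haveI : Algebra.FinitePresentation A (A ⧸ J) := Algebra.FinitePresentation.quotient hJ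
  have hJwc : EtPBC.IsWContractible (A ⧸ J) := Groth.Agent.S0679.result A (A ⧸ J) h
  haveI := extremallyDisconnected hJwc
  have hr : ∀ K : Ideal A, Set.range (PrimeSpectrum.comap (Ideal.Quotient.mk K)) = PrimeSpectrum.zeroLocus (K : Set A) :=
    fun K => by rw [range_comap_of_surjective _ _ Ideal.Quotient.mk_surjective, Ideal.mk_ker]
  let eI := (PrimeSpectrum.isClosedEmbedding_comap_of_surjective _ _
    (Ideal.Quotient.mk_surjective (I := I))).isEmbedding.toHomeomorph
  let eJ := (PrimeSpectrum.isClosedEmbedding_comap_of_surjective _ _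
    (Ideal.Quotient.mk_surjective (I := J))).isEmbedding.toHomeomorph
  let hh : PrimeSpectrum (A ⧸ I) ≃ₜ PrimeSpectrum (A ⧸ J) :=
    eI.trans ((Homeomorph.setCongr (by rw [hr, hr, hJI])).trans eJ.symm)
  obtain ⟨e, he⟩ : ∃ e : _root_.ConnectedComponents (PrimeSpectrum (A ⧸ I)) ≃ₜ
      _root_.ConnectedComponents (PrimeSpectrum (A ⧸ J)), True :=
    ⟨(isHomeomorph_connectedComponentsMap hh).homeomorph, trivial⟩
  haveI : ExtremallyDisconnected (_root_.ConnectedComponents (PrimeSpectrum (A ⧸ I))) :=
    extremallyDisconnected_of_openMap e.continuous e.isOpenMap fun _ => ⟨Set.univ, isOpen_univ, trivial, e.injective.injOn⟩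
  intro C _ _ hff het
  exact nonempty_retraction (isWLocal_finite hA hw) fun n _ =>
    ⟨henselianLocalRing_atPrime hA n, isSepClosed_residueField hA n⟩

end ring

section sheaf

theorem ab_surjective_of_epi {X : Scheme.{u}} {A B : ProEtS.AbP X} (q : A ⟶ B) [Epi q] (U : X.ProEt)
    (hU : ProEtS.IsWC U) : Function.Surjective (q.hom.app (op U)) := by
  haveI : Sheaf.IsLocallySurjective q :=
    (Sheaf.isLocallySurjective_iff_epi' AddCommGrpCat.{u + 1} q).mpr inferInstance
  let q' := (sheafCompose (Scheme.ProEt.topology X) (forget AddCommGrpCat.{u + 1})).map q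
  haveI : Sheaf.IsLocallySurjective q' :=
    (Presheaf.isLocallySurjective_iff_whisker_forget _ q.hom).mp ‹_›
  exact hU _ _ q' inferInstance

theorem exact_pushP {Z X : Scheme.{u}} (f : Z ⟶ X) [ProEtS.PCont f]
    (h : ∀ W : X.ProEt, IsAffine W.left → EtPBC.IsWContractible ↥(Γ(W.left, ⊤)) →
      IsAffine ((ProEtS.bcP f).obj W).left ∧ EtPBC.IsWContractible ↥(Γ(((ProEtS.bcP f).obj W).left, ⊤))) :
    PreservesFiniteLimits (ProEtS.pushP f) ∧ PreservesFiniteColimits (ProEtS.pushP f) := by
  haveI : (ProEtS.pushP f).IsRightAdjoint := (ProEtS.pullPushAdjP f).isRightAdjoint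
  haveI : PreservesFiniteLimits (ProEtS.pushP f) := PreservesLimits.preservesFiniteLimits _
  haveI : (ProEtS.pushP f).PreservesEpimorphisms := ⟨fun {F G} φ hφ => by
    haveI : Sheaf.IsLocallySurjective ((ProEtS.pushP f).map φ) := ⟨fun {U} s => by
      obtain ⟨V, g, hg, hV⟩ := exists_cover_of_affineCover U U.left.affineCover
      refine (Scheme.ProEt.topology X).superset_covering ?_ hg
      rw [Sieve.generate_le_iff]
      rintro _ _ ⟨i⟩
      obtain ⟨haff, hwc⟩ := h (V i) (hV i).1 (hV i).2
      haveI := haff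
      obtain ⟨t, ht⟩ := ab_surjective_of_epi φ ((ProEtS.bcP f).obj (V i))
        (isWC_of_decomposable _ (decomposable_of_isWContractible _ hwc)) (((ProEtS.pushP f).obj G).obj.map (g i).op s)
      exact ⟨t, ht⟩⟩
    exact (Sheaf.isLocallySurjective_iff_epi' AddCommGrpCat.{u + 1} _).mp inferInstance⟩
  haveI : (ProEtS.pushP f).PreservesHomology :=
    Functor.preservesHomology_of_preservesEpis_and_kernels (ProEtS.pushP f)
  exact ⟨inferInstance, Functor.preservesFiniteColimits_of_preservesHomology _⟩

end sheaf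

section geometry

theorem bcP_fst_prop {Z X : Scheme.{u}} (f : Z ⟶ X) (P : MorphismProperty Scheme.{u}) [P.IsStableUnderBaseChange]
    (hf : P f) (W : X.ProEt) : P (pullback.fst W.hom f : ((ProEtS.bcP f).obj W).left ⟶ W.left) :=
  MorphismProperty.pullback_fst W.hom f hf

theorem isWContractible_finite {Y W : Scheme.{u}} (p : Y ⟶ W) [IsFinite p] [LocallyOfFinitePresentation p]
    [IsAffine W] (h : EtPBC.IsWContractible ↥(Γ(W, ⊤))) :
    IsAffine Y ∧ EtPBC.IsWContractible ↥(Γ(Y, ⊤)) := by
  obtain ⟨hY, hfin⟩ := (HasAffineProperty.iff_of_isAffine (P := @IsFinite) (f := p)).mp inferInstance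
  haveI := hY
  have hfp := (HasRingHomProperty.iff_of_isAffine (P := @LocallyOfFinitePresentation) (f := p)).mp inferInstance
  algebraize [p.appTop.hom]
  haveI : Module.Finite Γ(W, ⊤) Γ(Y, ⊤) := hfin
  haveI : Algebra.FinitePresentation Γ(W, ⊤) Γ(Y, ⊤) := hfp
  exact ⟨hY, Groth.Agent.S0679.result Γ(W, ⊤) Γ(Y, ⊤) h⟩

theorem isWContractible_closed {Y W : Scheme.{u}} (p : Y ⟶ W) [IsClosedImmersion p] [IsAffine W]
    (hr : IsCompact (Set.range p.base)ᶜ) (h : EtPBC.IsWContractible ↥(Γ(W, ⊤))) :
    IsAffine Y ∧ EtPBC.IsWContractible ↥(Γ(Y, ⊤)) := by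
  obtain ⟨hY, hsurj⟩ := IsClosedImmersion.isAffine_surjective_of_isAffine p
  haveI := hY
  refine ⟨hY, wc_of_ringEquiv (RingHom.quotientKerEquivOfSurjective hsurj) (wc_quotient h _ ?_)⟩
  have hcomm : ∀ y, W.isoSpec.hom (p y) = PrimeSpectrum.comap p.appTop.hom (Y.isoSpec.hom y) := fun y => by
    have := congrArg (fun m => m y) (Scheme.toSpecΓ_naturality p)
    exact this
  have e : (PrimeSpectrum.zeroLocus (RingHom.ker p.appTop.hom : Set Γ(W, ⊤)))ᶜ =
      W.isoSpec.hom.base '' (Set.range p.base)ᶜ := by
    rw [Set.image_compl_eq (f := W.isoSpec.hom.base) W.isoSpec.hom.homeomorph.bijective, ← Set.range_comp,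
      ← range_comap_of_surjective _ _ hsurj]
    congr 1
    ext z
    constructor
    · rintro ⟨w, rfl⟩
      exact ⟨Y.isoSpec.inv w, (hcomm _).trans (by rw [Scheme.inv_hom_apply])⟩
    · rintro ⟨y, rfl⟩
      exact ⟨_, (hcomm y).symm⟩
  rw [e]
  exact hr.image W.isoSpec.hom.base.hom.continuous

end geometry

end Groth.Agent.WContr

namespace Groth.Agent.WContr

theorem isCompact_preimage_compl_range {Z X W : Scheme.{u}} (i : Z ⟶ X) [IsClosedImmersion i]
    (hr : IsRetrocompact (Set.range i.base)ᶜ) (p : W ⟶ X) [IsAffine W] :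
    IsCompact (p.base ⁻¹' (Set.range i.base)ᶜ) := by
  let U : X.Opens := ⟨(Set.range i.base)ᶜ, i.isClosedEmbedding.isClosed_range.isOpen_compl⟩
  haveI : QuasiCompact U.ι := quasiCompact_iff_isSpectralMap.mpr (IsRetrocompact_iff_isSpectralMap_subtypeVal.mp hr)
  haveI : QuasiCompact (pullback.fst p U.ι) := MorphismProperty.pullback_fst p U.ι inferInstance
  haveI : CompactSpace ↥(pullback p U.ι : Scheme.{u}) := QuasiCompact.compactSpace_of_compactSpace (pullback.fst p U.ι)
  have := isCompact_range (pullback.fst p U.ι).base.hom.continuous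
  rw [Scheme.Pullback.range_fst, Scheme.Opens.range_ι] at this
  exact this

theorem exact_pushP_finite {Z X : Scheme.{u}} (f : Z ⟶ X) [IsFinite f] [LocallyOfFinitePresentation f]
    [ProEtS.PCont f] : PreservesFiniteLimits (ProEtS.pushP f) ∧ PreservesFiniteColimits (ProEtS.pushP f) :=
  exact_pushP f fun W hW h => by
    haveI : IsFinite (pullback.fst W.hom f : ((ProEtS.bcP f).obj W).left ⟶ W.left) :=
      bcP_fst_prop f @IsFinite inferInstance W
    haveI : LocallyOfFinitePresentation (pullback.fst W.hom f : ((ProEtS.bcP f).obj W).left ⟶ W.left) :=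
      bcP_fst_prop f @LocallyOfFinitePresentation inferInstance W
    haveI : IsAffine ((𝟭 Scheme.{u}).obj W.left) := hW
    exact isWContractible_finite (pullback.fst W.hom f : ((ProEtS.bcP f).obj W).left ⟶ W.left) h

theorem exact_pushP_closed {Z X : Scheme.{u}} (i : Z ⟶ X) [IsClosedImmersion i]
    (hr : IsRetrocompact (Set.range i.base)ᶜ) [ProEtS.PCont i] :
    PreservesFiniteLimits (ProEtS.pushP i) ∧ PreservesFiniteColimits (ProEtS.pushP i) :=
  exact_pushP i fun W hW h => by
    haveI : IsClosedImmersion (pullback.fst W.hom i : ((ProEtS.bcP i).obj W).left ⟶ W.left) :=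
      bcP_fst_prop i @IsClosedImmersion inferInstance W
    haveI : IsAffine ((𝟭 Scheme.{u}).obj W.left) := hW
    refine isWContractible_closed (pullback.fst W.hom i : ((ProEtS.bcP i).obj W).left ⟶ W.left) ?_ h
    have e : Set.range (pullback.fst W.hom i : ((ProEtS.bcP i).obj W).left ⟶ W.left).base =
        W.hom.base ⁻¹' Set.range i.base := Scheme.Pullback.range_fst W.hom i
    exact (congrArg (fun S => IsCompact Sᶜ) e).mpr (isCompact_preimage_compl_range i hr W.hom)

end Groth.Agent.WContr
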