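import Groth.Agent.WContr.DCExtend
import Groth.Agent.WContr.ProEtSite
import Mathlib

/-!
Tools for epimorphisms onto derived complete sheaves.
-/

set_option autoImplicit false
set_option backward.isDefEq.respectTransparency false
set_option backward.isDefEq.respectTransparency.types false
set_option linter.style.haveILetI false
set_option maxHeartbeats 800000
set_option synthInstance.maxHeartbeats 200000

universe u

open CategoryTheory CategoryTheory.Limits AlgebraicGeometry Opposite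

namespace Groth.Agent.WContr.DC

variable {Λ : Type (u + 1)} [CommRing Λ] {X : Scheme.{u}}

/-- a sheaf which is constant on `U` is locally generated by constant sections -/
theorem exists_local_const (Q : EtModW.ModP Λ X) (U : X.ProEt) (M : ModuleCat.{u + 1} Λ)
    (e : Q.over U ≅ (constantSheaf ((Scheme.ProEt.topology X).over U) (ModuleCat.{u + 1} Λ)).obj M) :
    ∃ γ : M →ₗ[Λ] Q.obj.obj (op U), ∀ {V : X.ProEt} (g : V ⟶ U) (x : Q.obj.obj (op V)),
      ∃ S ∈ Scheme.ProEt.topology X V, ∀ {W : X.ProEt} (h : W ⟶ V), S h →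
        ∃ m : M, (Q.obj.map h.op).hom x = (Q.obj.map (h ≫ g).op).hom (γ m) := by
  let J' := (Scheme.ProEt.topology X).over U
  let K : (Over U)ᵒᵖ ⥤ ModuleCat.{u + 1} Λ := (Functor.const _).obj M
  let η : K ⟶ (Q.over U).obj := toSheafify J' K ≫ e.inv.hom
  haveI : Presheaf.IsLocallySurjective J' η := by
    haveI : Presheaf.IsLocallySurjective J' e.inv.hom :=
      inferInstanceAs (Sheaf.IsLocallySurjective e.inv)
    exact Presheaf.isLocallySurjective_comp J' _ _
  refine ⟨(η.app (op (Over.mk (𝟙 U)))).hom, fun {V} g x => ?_⟩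
  refine ⟨Sieve.overEquiv (Over.mk g) (Presheaf.imageSieve η x),
    ((Scheme.ProEt.topology X).mem_over_iff _).mp (Presheaf.imageSieve_mem J' η (U := op (Over.mk g)) x),
    fun {W} h hh => ?_⟩
  rw [Sieve.overEquiv_iff] at hh
  obtain ⟨m, hm⟩ := hh
  refine ⟨m, ?_⟩
  have hn := congrArg (fun k => k.hom m)
    (η.naturality (Over.homMk (h ≫ g) : Over.mk (h ≫ g) ⟶ Over.mk (𝟙 U)).op)
  exact hm.symm.trans hn

theorem isDCSheaf_of_iso {I : Ideal Λ} {F G : EtModW.ModP Λ X} (e : F ≅ G) (h : ProEtDC.IsDCSheaf Λ I F) :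
    ProEtDC.IsDCSheaf Λ I G :=
  isDCSheaf_of_hom I G fun f hf U _ =>
    DCSec.of_equiv (Linear.homCongr Λ (Iso.refl (PU Λ U)) e) (dcSec_hom_sheaf h hf _)

theorem isDCSheaf_biproduct {I : Ideal Λ} {t : ℕ} (G : Fin t → EtModW.ModP Λ X)
    (h : ∀ i, ProEtDC.IsDCSheaf Λ I (G i)) : ProEtDC.IsDCSheaf Λ I (⨁ G) :=
  isDCSheaf_of_iso (biproduct.isoProduct G).symm
    (isDC_limit (J := Discrete (Fin t)) (Discrete.functor G) fun j => h j.as)

/-- Let `Q` be a cokernel-like target: a map that kills generators on a clopen decomposition is zero. -/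
theorem eq_zero_of_pieces {Q D : EtModW.ModP Λ X} (χ : Q ⟶ D) (T : X.ProEt) (hT : IsTerminal T) {n : ℕ}
    (W : Fin n → T.left.Opens) (hc : (⋃ k, (W k : Set ↥T.left)) = Set.univ)
    (U : Fin n → X.ProEt) (a : ∀ k, piece T (W k) ⟶ U k)
    (M : Fin n → ModuleCat.{u + 1} Λ) (γ : ∀ k, M k →ₗ[Λ] Q.obj.obj (op (U k)))
    (hγ : ∀ k {V : X.ProEt} (g : V ⟶ U k) (x : Q.obj.obj (op V)),
      ∃ S ∈ Scheme.ProEt.topology X V, ∀ {W : X.ProEt} (h : W ⟶ V), S h →
        ∃ m : M k, (Q.obj.map h.op).hom x = (Q.obj.map (h ≫ g).op).hom (γ k m))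
    (h0 : ∀ k m, (χ.hom.app (op (piece T (W k)))).hom ((Q.obj.map (a k).op).hom (γ k m)) = 0) : χ = 0 := by
  have hmem : Sieve.ofArrows (fun k => piece T (W k)) (fun k => pieceHom T (W k)) ∈ Scheme.ProEt.topology X T := by
    refine Precoverage.generate_mem_toGrothendieck ?_
    rw [Scheme.ProEt.precoverage, Precoverage.mem_comap_iff, Presieve.map_ofArrows]
    refine Scheme.zariskiPrecoverage_le_propQCPrecoverage _ ?_
    rw [Scheme.ofArrows_mem_precoverage_iff]
    refine ⟨fun x => ?_, fun k => inferInstanceAs (IsOpenImmersion (W k).ι)⟩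
    obtain ⟨k, hk⟩ := Set.mem_iUnion.mp (hc.ge (Set.mem_univ x))
    obtain ⟨y, hy⟩ := (Scheme.Opens.range_ι (W k)).ge hk
    exact ⟨k, y, hy⟩
  have hD : Presieve.IsSheaf (Scheme.ProEt.topology X) (D.obj ⋙ forget _) :=
    (isSheaf_iff_isSheaf_of_type _ _).mp
      ((sheafCompose (Scheme.ProEt.topology X) (forget (ModuleCat.{u + 1} Λ))).obj D).property
  apply ObjectProperty.hom_ext
  refine NatTrans.ext (funext fun V => ModuleCat.hom_ext (LinearMap.ext fun x => ?_))
  obtain ⟨V⟩ := V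
  refine (hD _ ((Scheme.ProEt.topology X).pullback_stable (hT.from V) hmem)).isSeparatedFor.ext fun V' p hp => ?_
  obtain ⟨_, q, _, ⟨k⟩, hq⟩ := hp
  obtain ⟨S, hS, hS'⟩ := hγ k (q ≫ a k) ((Q.obj.map p.op).hom x)
  refine (hD _ hS).isSeparatedFor.ext fun V'' h hh => ?_
  obtain ⟨m, hm⟩ := hS' h hh
  show (D.obj.map h.op).hom ((D.obj.map p.op).hom ((χ.hom.app (op V)).hom x)) =
    (D.obj.map h.op).hom ((D.obj.map p.op).hom 0)
  rw [map_zero, map_zero]
  have e1 : (D.obj.map p.op).hom ((χ.hom.app (op V)).hom x) = (χ.hom.app (op V')).hom ((Q.obj.map p.op).hom x) :=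
    (congrArg (fun k => k.hom x) (χ.hom.naturality p.op)).symm
  have e2 : ∀ {A B : X.ProEt} (c : A ⟶ B) (y : Q.obj.obj (op B)),
      (D.obj.map c.op).hom ((χ.hom.app (op B)).hom y) = (χ.hom.app (op A)).hom ((Q.obj.map c.op).hom y) :=
    fun c y => (congrArg (fun k => k.hom y) (χ.hom.naturality c.op)).symm
  rw [e1, e2, hm, ← e2, show h ≫ q ≫ a k = (h ≫ q) ≫ a k from (Category.assoc _ _ _).symm, op_comp,
    Functor.map_comp, ModuleCat.hom_comp, LinearMap.comp_apply, e2 (a k), h0, map_zero]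

end Groth.Agent.WContr.DC
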