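import Groth.Agent.WContr.LocSystem
import Groth.Agent.WContr.Necessity
import Groth.Agent.WContr.Sufficiency

/-!
Retractions of ind-Zariski covers.
-/

set_option autoImplicit false
set_option backward.isDefEq.respectTransparency false
set_option linter.style.haveILetI false

universe u

open Topology

namespace Groth.Agent.WContr

variable {A : Type u} [CommRing A]

theorem exists_idempotent_split (h : ProEtW.HasIndZariskiRetractions A) (M₁ M₂ : Submonoid A)
    (hc : ∀ p : PrimeSpectrum A, Disjoint (M₁ : Set A) p.asIdeal ∨ Disjoint (M₂ : Set A) p.asIdeal) :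
    ∃ e : A, IsIdempotentElem e ∧ (∀ t ∈ M₁, ∃ c, t * c = e) ∧ ∀ t ∈ M₂, ∃ c, t * c = 1 - e := by
  haveI : Algebra.IsLocalIso A A := inferInstance
  haveI : Algebra.IsLocalIso A (A × A) := isLocalIso_prod A A
  let M : Submonoid (A × A) := M₁.prod M₂
  let B := Localization M
  have hB : EtPBC.IsIndZariski A B := isIndZariski_localization (A × A) M B
  haveI : Module.Flat A (A × A) := Groth.Agent.IndEtLib.flat_prod
  haveI : Module.Flat (A × A) B := IsLocalization.flat B M
  haveI : Module.Flat A B := Module.Flat.trans A (A × A) B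
  have hff : Module.FaithfullyFlat A B := Module.FaithfullyFlat.of_comap_surjective fun x => by
    obtain ⟨P, hP, hPM⟩ : ∃ P : PrimeSpectrum (A × A),
        PrimeSpectrum.comap (algebraMap A (A × A)) P = x ∧ Disjoint (M : Set (A × A)) P.asIdeal := by
      rcases hc x with h1 | h1
      · refine ⟨PrimeSpectrum.comap (RingHom.fst A A) x, rfl, Set.disjoint_left.mpr ?_⟩
        rintro ⟨a, b⟩ ⟨ha, -⟩ hm
        exact Set.disjoint_left.mp h1 ha hm
      · refine ⟨PrimeSpectrum.comap (RingHom.snd A A) x, rfl, Set.disjoint_left.mpr ?_⟩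
        rintro ⟨a, b⟩ ⟨-, hb⟩ hm
        exact Set.disjoint_left.mp h1 hb hm
    obtain ⟨Q, hQ⟩ : P ∈ Set.range (PrimeSpectrum.comap (algebraMap (A × A) B)) := by
      rw [PrimeSpectrum.localization_comap_range B M]; exact hPM
    refine ⟨Q, ?_⟩
    rw [← hP, ← hQ]
    exact PrimeSpectrum.ext (by
      simp only [PrimeSpectrum.comap_asIdeal, Ideal.comap_comap, ← IsScalarTower.algebraMap_eq])
  obtain ⟨r⟩ := h B hff hB
  let s : A × A →ₐ[A] A := r.comp (IsScalarTower.toAlgHom A (A × A) B)
  have hunit : ∀ m ∈ M, IsUnit (s m) := fun m hm => (IsLocalization.map_units B ⟨m, hm⟩).map r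
  have he : IsIdempotentElem (s (1, 0)) := by
    unfold IsIdempotentElem
    rw [← map_mul]; simp
  refine ⟨s (1, 0), he, fun t ht => ?_, fun t ht => ?_⟩
  · obtain ⟨v, hv⟩ := isUnit_iff_exists_inv.mp (hunit (t, 1) ⟨ht, M₂.one_mem⟩)
    refine ⟨v * s (1, 0), ?_⟩
    calc t * (v * s (1, 0)) = v * (t * s (1, 0)) := by ring
      _ = v * s ((t, 1) * (1, 0)) := by
        rw [show ((t, 1) : A × A) * (1, 0) = algebraMap A (A × A) t * (1, 0) by simp [Prod.algebraMap_apply],
          map_mul, s.commutes, Algebra.algebraMap_self_apply]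
      _ = s (1, 0) := by rw [map_mul, ← mul_assoc, mul_comm v, hv, one_mul]
  · obtain ⟨v, hv⟩ := isUnit_iff_exists_inv.mp (hunit (1, t) ⟨M₁.one_mem, ht⟩)
    refine ⟨v * s (0, 1), ?_⟩
    calc t * (v * s (0, 1)) = v * (t * s (0, 1)) := by ring
      _ = v * s ((1, t) * (0, 1)) := by
        rw [show ((1, t) : A × A) * (0, 1) = algebraMap A (A × A) t * (0, 1) by simp [Prod.algebraMap_apply],
          map_mul, s.commutes, Algebra.algebraMap_self_apply]
      _ = s (0, 1) := by rw [map_mul, ← mul_assoc, mul_comm v, hv, one_mul]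
      _ = 1 - s (1, 0) := by rw [← map_one s, ← map_sub]; congr 1; ext <;> simp

theorem exists_split_of_indZariski (h : ProEtW.HasIndZariskiRetractions A) (f : A) :
    ∃ e g : A, e * (1 - e) = 0 ∧ f * g = e ∧ ∀ a, ∃ c, (1 + f * a) * c = 1 - e := by
  let S : Submonoid A :=
    { carrier := {x | ∃ a, x = 1 + f * a}
      one_mem' := ⟨0, by simp⟩
      mul_mem' := by rintro _ _ ⟨a, rfl⟩ ⟨b, rfl⟩; exact ⟨a + b + f * a * b, by ring⟩ }
  obtain ⟨e, he, h₁, h₂⟩ := exists_idempotent_split h (Submonoid.powers f) S fun p => by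
    by_cases hf : f ∈ p.asIdeal
    · refine Or.inr (Set.disjoint_left.mpr ?_)
      rintro _ ⟨a, rfl⟩ ha
      exact p.2.ne_top ((Ideal.eq_top_iff_one _).mpr
        (by simpa using p.asIdeal.sub_mem ha (p.asIdeal.mul_mem_right a hf)))
    · refine Or.inl (Set.disjoint_left.mpr ?_)
      rintro _ ⟨n, rfl⟩ hn
      exact hf (p.2.mem_of_pow_mem n hn)
  obtain ⟨g, hg⟩ := h₁ f (Submonoid.mem_powers f)
  exact ⟨e, g, by rw [mul_sub, mul_one, he.eq, sub_self], hg, fun a => h₂ _ ⟨a, rfl⟩⟩

/-- idempotents equal to one on a set of primes -/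
def idemSubmonoid (Z : Set (PrimeSpectrum A)) : Submonoid A where
  carrier := {t | IsIdempotentElem t ∧ ∀ p ∈ Z, t ∉ p.asIdeal}
  one_mem' := ⟨IsIdempotentElem.one, fun p _ => p.2.one_notMem⟩
  mul_mem' := fun {_ _} ha hb => ⟨ha.1.mul hb.1, fun p hp h =>
    (p.2.mem_or_mem h).elim (ha.2 p hp) (hb.2 p hp)⟩

theorem mem_of_disjoint_idemSubmonoid [T2Space (_root_.ConnectedComponents (PrimeSpectrum A))]
    (T : Set (_root_.ConnectedComponents (PrimeSpectrum A))) (hT : IsClosed T) (p : PrimeSpectrum A)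
    (h : Disjoint (idemSubmonoid (_root_.ConnectedComponents.mk ⁻¹' T) : Set A) p.asIdeal) :
    _root_.ConnectedComponents.mk p ∈ T := by
  by_contra hp
  obtain ⟨W, hW, hpW, hWT⟩ := compact_exists_isClopen_in_isOpen hT.isOpen_compl hp
  obtain ⟨e, he, heq⟩ :=
    PrimeSpectrum.exists_idempotent_basicOpen_eq_of_isClopen (hW.preimage ConnectedComponents.continuous_coe)
  have hin : (1 - e) ∈ idemSubmonoid (_root_.ConnectedComponents.mk ⁻¹' T) := by
    refine ⟨he.one_sub, fun y hy hmem => ?_⟩
    exact hWT (show y ∈ _root_.ConnectedComponents.mk ⁻¹' W from heq ▸ (fun hey => y.2.ne_top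
      ((Ideal.eq_top_iff_one _).mpr (by simpa using y.asIdeal.add_mem hmem hey)) : e ∉ y.asIdeal)) hy
  refine Set.disjoint_left.mp h hin ?_
  exact ((p.2.mem_or_mem (show e * (1 - e) ∈ p.asIdeal by
      rw [mul_sub, mul_one, he.eq, sub_self]; exact p.asIdeal.zero_mem))).resolve_left
        (heq ▸ hpW : p ∈ (PrimeSpectrum.basicOpen e : Set (PrimeSpectrum A)))

theorem extremallyDisconnected_of_indZariski (h : ProEtW.HasIndZariskiRetractions A) :
    ExtremallyDisconnected (_root_.ConnectedComponents (PrimeSpectrum A)) := by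
  haveI := Groth.Agent.WLocalFib.t2Space_connectedComponents (X := PrimeSpectrum A)
  constructor
  intro U hU
  obtain ⟨e, he, h₁, h₂⟩ := exists_idempotent_split h
    (idemSubmonoid (_root_.ConnectedComponents.mk ⁻¹' closure U))
    (idemSubmonoid (_root_.ConnectedComponents.mk ⁻¹' Uᶜ)) fun p => by
      by_cases hp : ConnectedComponents.mk p ∈ U
      · exact Or.inl (Set.disjoint_left.mpr fun t ht => ht.2 p (subset_closure hp))
      · exact Or.inr (Set.disjoint_left.mpr fun t ht => ht.2 p hp)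
  let W : Set (PrimeSpectrum A) := PrimeSpectrum.basicOpen e
  have hWclopen : IsClopen W := PrimeSpectrum.isClopen_iff.mpr ⟨e, he, rfl⟩
  have hsat : ConnectedComponents.mk ⁻¹' (ConnectedComponents.mk '' W) = W := by
    rw [connectedComponents_preimage_image]
    exact hWclopen.biUnion_connectedComponent_eq
  have hcl : IsClopen (ConnectedComponents.mk '' W) := by
    rw [← ConnectedComponents.isQuotientMap_coe.isClopen_preimage, hsat]; exact hWclopen
  have : closure U = ConnectedComponents.mk '' W := by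
    refine Set.Subset.antisymm (closure_minimal (fun z hz => ?_) hcl.isClosed) ?_
    · obtain ⟨p, rfl⟩ := ConnectedComponents.surjective_coe z
      refine ⟨p, fun hep => ?_, rfl⟩
      refine mem_of_disjoint_idemSubmonoid Uᶜ hU.isClosed_compl p (Set.disjoint_left.mpr fun t ht htp => ?_) hz
      obtain ⟨c, hc⟩ := h₂ t ht
      exact p.2.ne_top ((Ideal.eq_top_iff_one _).mpr
        (by simpa using p.asIdeal.add_mem hep (hc ▸ p.asIdeal.mul_mem_right c htp : 1 - e ∈ p.asIdeal)))
    · rintro _ ⟨p, hp, rfl⟩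
      refine mem_of_disjoint_idemSubmonoid (closure U) isClosed_closure p (Set.disjoint_left.mpr fun t ht htp => ?_)
      obtain ⟨c, hc⟩ := h₁ t ht
      exact hp (hc ▸ p.asIdeal.mul_mem_right c htp)
  rw [this]
  exact hcl.isOpen

end Groth.Agent.WContr
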