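import Groth.Agent.WContr.LocSystem
import Mathlib

/-!
Localizations of directed unions of local isomorphisms are ind-Zariski.
-/

set_option autoImplicit false
set_option backward.isDefEq.respectTransparency false
set_option linter.style.haveILetI false
set_option maxHeartbeats 1000000

universe u

namespace Groth.Agent.WContr

variable {A P : Type u} [CommRing A] [CommRing P] [Algebra A P]
  {J : Type u} [Preorder J] [IsDirectedOrder J] [Nonempty J] {E : J → Type u} [∀ j, CommRing (E j)]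
  [∀ j, Algebra A (E j)] {tr : ∀ i j : J, i ≤ j → E i →ₐ[A] E j} {φ : ∀ j, E j →ₐ[A] P}

theorem isIndZariski_localization_of_directed (hE : ∀ j, Algebra.IsLocalIso A (E j))
    (tr_comp : ∀ i j k (h : i ≤ j) (h' : j ≤ k) x, tr i k (h.trans h') x = tr j k h' (tr i j h x))
    (hφ : ∀ i j (h : i ≤ j) x, φ j (tr i j h x) = φ i x)
    (hs : ∀ b, ∃ j x, φ j x = b) (hinj : ∀ j x, φ j x = 0 → x = 0)
    (M : Submonoid P) (B : Type u) [CommRing B] [Algebra A B] [Algebra P B] [IsScalarTower A P B]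
    [IsLocalization M B] : EtPBC.IsIndZariski A B := by
  have tr_id : ∀ i x, tr i i le_rfl x = x := fun i x => by
    have := hinj i (tr i i le_rfl x - x) (by rw [map_sub, hφ, sub_self])
    exact sub_eq_zero.mp this
  let Idx : Type u := Σ j, {t : E j // φ j t ∈ M}
  let St : Idx → Type u := fun i => Localization.Away i.2.1
  have htrans : ∀ (i k l : Idx) (h : i.1 ≤ k.1) (h' : k.1 ≤ l.1),
      IsUnit (algebraMap (E k.1) (St k) (tr i.1 k.1 h i.2.1)) →
      IsUnit (algebraMap (E l.1) (St l) (tr k.1 l.1 h' k.2.1)) →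
      IsUnit (algebraMap (E l.1) (St l) (tr i.1 l.1 (h.trans h') i.2.1)) := by
    intro i k l h h' hu hu'
    let g : E k.1 →+* St l := (algebraMap (E l.1) (St l)).comp (tr k.1 l.1 h').toRingHom
    have hg : IsUnit (g k.2.1) := hu'
    have h1 := hu.map (IsLocalization.Away.lift (S := St k) k.2.1 hg)
    rw [IsLocalization.Away.lift_eq] at h1
    rw [tr_comp i.1 k.1 l.1 h h']
    exact h1
  letI : Preorder Idx :=
    { le := fun i k => ∃ h : i.1 ≤ k.1, IsUnit (algebraMap (E k.1) (St k) (tr i.1 k.1 h i.2.1))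
      le_refl := fun i => ⟨le_rfl, by rw [tr_id]; exact IsLocalization.Away.algebraMap_isUnit _⟩
      le_trans := fun i k l h h' => ⟨h.1.trans h'.1, htrans i k l h.1 h'.1 h.2 h'.2⟩ }
  haveI : IsDirectedOrder Idx := ⟨fun i k => by
    obtain ⟨l, hi, hk⟩ := directed_of (· ≤ ·) i.1 k.1
    refine ⟨⟨l, tr _ _ hi i.2.1 * tr _ _ hk k.2.1, by rw [map_mul, hφ, hφ]; exact M.mul_mem i.2.2 k.2.2⟩,
      ⟨hi, ?_⟩, ⟨hk, ?_⟩⟩
    all_goals
      have h := IsLocalization.Away.algebraMap_isUnit (S := Localization.Away (tr _ _ hi i.2.1 * tr _ _ hk k.2.1))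
        (tr _ _ hi i.2.1 * tr _ _ hk k.2.1)
      rw [map_mul] at h
    · exact isUnit_of_mul_isUnit_left h
    · exact isUnit_of_mul_isUnit_right h⟩
  haveI : Nonempty Idx := by
    obtain ⟨j⟩ := ‹Nonempty J›
    exact ⟨⟨j, 1, by rw [map_one]; exact M.one_mem⟩⟩
  let ψ : ∀ i : Idx, St i →ₐ[A] B := fun i => IsLocalization.Away.liftAlgHom i.2.1
    (f := (IsScalarTower.toAlgHom A P B).comp (φ i.1)) (IsLocalization.map_units B ⟨_, i.2.2⟩)
  have hψ : ∀ i x, ψ i (algebraMap (E i.1) (St i) x) = algebraMap P B (φ i.1 x) := fun i x =>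
    IsLocalization.Away.lift_eq i.2.1 (g := ((IsScalarTower.toAlgHom A P B).comp (φ i.1)).toRingHom)
      (IsLocalization.map_units B (⟨_, i.2.2⟩ : M)) x
  let T : ∀ i k : Idx, i ≤ k → St i →ₐ[A] St k := fun i k h => IsLocalization.Away.liftAlgHom i.2.1
    (f := (IsScalarTower.toAlgHom A (E k.1) (St k)).comp (tr i.1 k.1 h.1)) h.2
  have hT : ∀ i k (h : i ≤ k) x, T i k h (algebraMap (E i.1) (St i) x) = algebraMap (E k.1) (St k) (tr i.1 k.1 h.1 x) :=
    fun i k h x => IsLocalization.Away.lift_eq i.2.1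
      (g := ((IsScalarTower.toAlgHom A (E k.1) (St k)).comp (tr i.1 k.1 h.1)).toRingHom) h.2 x
  refine isIndZariski_of_directed St (fun i => ?_) T (fun i x => ?_) (fun i k l h h' x => ?_) ψ (fun i k h x => ?_)
    (fun b => ?_) fun i x hx => ?_
  · haveI := hE i.1
    haveI : Algebra.IsStandardOpenImmersion (E i.1) (St i) := ⟨⟨i.2.1, inferInstance⟩⟩
    exact Algebra.IsLocalIso.trans A (E i.1) (St i)
  · refine RingHom.congr_fun (IsLocalization.ringHom_ext (Submonoid.powers i.2.1)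
      (j := (T i i le_rfl).toRingHom) (k := RingHom.id _) (RingHom.ext fun y => ?_)) x
    exact (hT i i le_rfl y).trans (congrArg _ (tr_id i.1 y))
  · refine RingHom.congr_fun (IsLocalization.ringHom_ext (Submonoid.powers i.2.1)
      (j := (T i l (h.trans h')).toRingHom) (k := (T k l h').toRingHom.comp (T i k h).toRingHom)
      (RingHom.ext fun y => ?_)) x
    change T i l (h.trans h') _ = T k l h' (T i k h _)
    rw [hT i l (h.trans h'), hT i k h, hT k l h']
    exact congrArg _ (tr_comp _ _ _ h.1 h'.1 y)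
  · refine RingHom.congr_fun (IsLocalization.ringHom_ext (Submonoid.powers i.2.1)
      (j := (ψ k).toRingHom.comp (T i k h).toRingHom) (k := (ψ i).toRingHom) (RingHom.ext fun y => ?_)) x
    change ψ k (T i k h _) = ψ i _
    rw [hT i k h, hψ, hψ, hφ]
  · obtain ⟨p, ⟨t, ht⟩, rfl⟩ := IsLocalization.exists_mk'_eq M b
    obtain ⟨j₁, x, rfl⟩ := hs p
    obtain ⟨j₂, s, rfl⟩ := hs t
    obtain ⟨l, h₁, h₂⟩ := directed_of (· ≤ ·) j₁ j₂
    let i : Idx := ⟨l, tr _ _ h₂ s, by rw [hφ]; exact ht⟩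
    refine ⟨i, IsLocalization.mk' (St i) (tr _ _ h₁ x) (⟨i.2.1, Submonoid.mem_powers _⟩ : Submonoid.powers i.2.1),
      IsLocalization.eq_mk'_iff_mul_eq.mpr ?_⟩
    have e1 : algebraMap P B (φ j₂ s) = ψ i (algebraMap _ _ i.2.1) := by rw [hψ]; exact congrArg _ (hφ _ _ h₂ s).symm
    show ψ i _ * algebraMap P B (φ j₂ s) = algebraMap P B (φ j₁ x)
    rw [e1, ← map_mul, IsLocalization.mk'_spec, hψ, hφ]
  · obtain ⟨y, s, rfl⟩ := IsLocalization.exists_mk'_eq (Submonoid.powers i.2.1) x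
    have h0 : algebraMap P B (φ i.1 y) = 0 := by
      rw [← hψ, ← IsLocalization.mk'_spec (St i) y s, map_mul, hx, zero_mul]
    obtain ⟨⟨c, hc⟩, hcy⟩ := (IsLocalization.map_eq_zero_iff M B _).mp h0
    obtain ⟨j, s', rfl⟩ := hs c
    obtain ⟨l, h₁, h₂⟩ := directed_of (· ≤ ·) i.1 j
    have hl : tr _ _ h₂ s' * tr _ _ h₁ y = 0 := hinj l _ (by rw [map_mul, hφ, hφ]; exact hcy)
    let k : Idx := ⟨l, tr _ _ h₁ i.2.1 * tr _ _ h₂ s', by rw [map_mul, hφ, hφ]; exact M.mul_mem i.2.2 hc⟩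
    have hu : IsUnit (algebraMap (E l) (St k) (tr _ _ h₁ i.2.1) * algebraMap (E l) (St k) (tr _ _ h₂ s')) := by
      rw [← map_mul]; exact IsLocalization.Away.algebraMap_isUnit _
    have hik : i ≤ k := ⟨h₁, isUnit_of_mul_isUnit_left hu⟩
    refine ⟨k, hik, ?_⟩
    have h3 : T i k hik (algebraMap _ _ y) = 0 := by
      rw [hT i k hik]
      refine (isUnit_of_mul_isUnit_right hu).mul_right_eq_zero.1 ?_
      rw [← map_mul, hl, map_zero]
    have h4 : IsUnit (T i k hik (algebraMap _ (St i) s.1)) := (IsLocalization.map_units (St i) s).map _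
    refine h4.mul_left_eq_zero.1 ?_
    rw [← map_mul, IsLocalization.mk'_spec]
    exact h3

end Groth.Agent.WContr
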