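import Groth.Agent.WContr.PartRing
import Groth.Agent.WContr.IndZariskiLoc
import Groth.Agent.WContr.ClosedPoints

/-!
The partition localization is an ind-Zariski, w-local extension with extremally disconnected components.
-/

set_option autoImplicit false
set_option backward.isDefEq.respectTransparency false
set_option linter.style.haveILetI false
set_option synthInstance.maxHeartbeats 200000
set_option maxHeartbeats 1600000

universe u

open Topology

namespace Groth.Agent.WContr

theorem map_le_of_isMaximal {P L : Type u} [CommRing P] [CommRing L] [Algebra P L] (M : Submonoid P)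
    [IsLocalization M L] (I : Ideal P) (hI : ∀ g ∈ I, ∀ a, ∀ s ∈ M, s - a * g ∈ M) (n : Ideal L) [hn : n.IsMaximal] :
    I.map (algebraMap P L) ≤ n := by
  rw [Ideal.map_le_iff_le_comap]
  intro g hg
  by_contra h
  obtain ⟨c, m, hm, hcm⟩ := hn.exists_inv h
  obtain ⟨a, s, rfl⟩ := IsLocalization.exists_mk'_eq M c
  have he : algebraMap P L ((s : P) - a * g) = algebraMap P L (s : P) * m := by
    rw [map_sub, map_mul, ← IsLocalization.mk'_spec L a s]
    linear_combination (-(algebraMap P L (s : P))) * hcm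
  exact hn.ne_top (Ideal.eq_top_of_isUnit_mem _ (he ▸ n.mul_mem_left _ hm)
    (IsLocalization.map_units L (⟨_, hI g hg a s.1 s.2⟩ : M)))

theorem faithfullyFlat_of {R S : Type u} [CommRing R] [CommRing S] [Algebra R S] (hf : Module.Flat R S)
    (h : Function.Surjective (PrimeSpectrum.comap (algebraMap R S))) : Module.FaithfullyFlat R S :=
  haveI := hf
  Module.FaithfullyFlat.of_comap_surjective h

variable (A : Type u) [CommRing A]

theorem isIndZariski_partLoc : EtPBC.IsIndZariski A (PartLoc A) := by
  classical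
  let sig : ∀ F : Finset (Set (PrimeSpectrum A)), PrimeSpectrum A → (↥F → Prop) := fun _ x S => x ∈ S.1
  haveI : ∀ F : Finset (Set (PrimeSpectrum A)), Finite (Set.range (sig F)) := fun F => inferInstance
  let restr : ∀ F G : Finset (Set (PrimeSpectrum A)), F ≤ G → Set.range (sig G) → Set.range (sig F) := fun F G h s =>
    ⟨fun S => s.1 ⟨S.1, h S.2⟩, by obtain ⟨_, x, rfl⟩ := s; exact ⟨x, rfl⟩⟩
  let φ : ∀ F : Finset (Set (PrimeSpectrum A)), (Set.range (sig F) → A) →ₐ[A] partRing A := fun F =>
    (AlgHom.ofLinearMap (LinearMap.funLeft A A (Set.rangeFactorization (sig F))) rfl fun _ _ => rfl).codRestrict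
      (partRing A) fun g => (Set.finite_range g).subset (by rintro _ ⟨x, rfl⟩; exact ⟨_, rfl⟩)
  refine isIndZariski_localization_of_directed (P := partRing A) (E := fun F => Set.range (sig F) → A)
    (tr := fun F G h => AlgHom.ofLinearMap (LinearMap.funLeft A A (restr F G h)) rfl fun _ _ => rfl) (φ := φ)
    (fun F => Algebra.IsLocalIso.pi_of_finite A _) (fun F G H h h' g => rfl) (fun F G h g => rfl) (fun g => ?_)
    (fun F g hg => ?_) (partSub A) (PartLoc A)
  · let F : Finset (Set (PrimeSpectrum A)) := g.2.toFinset.image fun a => g.1 ⁻¹' {a}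
    refine ⟨F, fun s => g.1 s.2.choose, Subtype.ext (funext fun x => ?_)⟩
    show g.1 (Set.rangeFactorization (sig F) x).2.choose = g.1 x
    set w := (Set.rangeFactorization (sig F) x).2.choose
    have hw : sig F w = sig F x := (Set.rangeFactorization (sig F) x).2.choose_spec
    have hmem : g.1 ⁻¹' {g.1 x} ∈ F := Finset.mem_image.mpr ⟨g.1 x, g.2.mem_toFinset.mpr ⟨x, rfl⟩, rfl⟩
    exact (congrFun hw ⟨_, hmem⟩).mpr rfl
  · refine funext fun s => ?_
    obtain ⟨_, x, rfl⟩ := s
    exact congrFun (congrArg Subtype.val hg) x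

theorem mem_partSet_of_isMaximal (y : PrimeSpectrum (PartLoc A)) [hy : y.asIdeal.IsMaximal] : y ∈ partSet A := by
  refine map_le_of_isMaximal (L := PartLoc A) (partSub A) (partIdeal A) (fun g hg a s hs x hx => hs x ?_) y.asIdeal
  have h1 : s.1 x - a.1 x * g.1 x ∈ x.asIdeal := hx
  simpa using x.asIdeal.add_mem h1 (x.asIdeal.mul_mem_left (a.1 x) (hg x))

theorem closedPoints_partLoc : ProEtW.closedPoints (PrimeSpectrum (PartLoc A)) = partSet A := by
  ext y
  change IsClosed ({y} : Set _) ↔ _
  rw [PrimeSpectrum.isClosed_singleton_iff_isMaximal]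
  exact ⟨fun h => mem_partSet_of_isMaximal A y, isMaximal_of_mem_partSet⟩

theorem isWLocal_partLoc : ProEtW.IsWLocal (PrimeSpectrum (PartLoc A)) := by
  refine ⟨inferInstance, ?_, fun x => ?_⟩
  · rw [show {y : PrimeSpectrum (PartLoc A) | IsClosed ({y} : Set _)} = partSet A from closedPoints_partLoc A]
    exact PrimeSpectrum.isClosed_zeroLocus _
  · obtain ⟨n, hn, hxn⟩ := Ideal.exists_le_maximal x.asIdeal x.2.ne_top
    refine ⟨⟨n, hn.isPrime⟩, ⟨(PrimeSpectrum.isClosed_singleton_iff_isMaximal _).mpr hn,
      (PrimeSpectrum.le_iff_specializes _ _).mp hxn⟩, ?_⟩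
    rintro y ⟨hy, hxy⟩
    haveI : y.asIdeal.IsMaximal := (PrimeSpectrum.isClosed_singleton_iff_isMaximal _).mp hy
    haveI : (⟨n, hn.isPrime⟩ : PrimeSpectrum (PartLoc A)).asIdeal.IsMaximal := hn
    refine eq_of_chiLoc_mem_iff (mem_partSet_of_isMaximal A y) (mem_partSet_of_isMaximal A ⟨n, hn.isPrime⟩) fun H =>
      (chiLoc_mem_iff_of_le ((PrimeSpectrum.le_iff_specializes _ _).mpr hxy) H).symm.trans
        (chiLoc_mem_iff_of_le (y' := ⟨n, hn.isPrime⟩) hxn H)

theorem extremallyDisconnected_connectedComponents_partLoc :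
    ExtremallyDisconnected (_root_.ConnectedComponents (PrimeSpectrum (PartLoc A))) := by
  rw [← extremallyDisconnected_closedPoints_iff (isWLocal_partLoc A), closedPoints_partLoc A]
  exact extremallyDisconnected_partSet

theorem faithfullyFlat_partLoc : Module.FaithfullyFlat A (PartLoc A) := by
  exact faithfullyFlat_of (Groth.Agent.IndEtLib.flat (isIndEtale_partLoc A)) fun x => ⟨partPt x, comap_partPt x⟩

end Groth.Agent.WContr
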