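import Groth.Agent.WContr.IndZariskiLoc
import Groth.Agent.WContr.ClosedPoints
import Groth.Agent.WContr.PartZariski
import Groth.Agent.IndEtLib.Basic
import Mathlib

/-!
The w-localization of a ring, built from functions with constructible fibres.
-/

set_option autoImplicit false
set_option backward.isDefEq.respectTransparency false
set_option linter.style.haveILetI false
set_option synthInstance.maxHeartbeats 200000
set_option maxHeartbeats 1600000

universe u

open Topology

namespace Groth.Agent.WContr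

theorem aux_mem {R : Type u} [CommRing R] (I : Ideal R) (S K G M : R) (hM : M ∈ I) (h : K * G + M = 1) :
    S - K * S * G ∈ I := by
  rw [show S - K * S * G = S * M by linear_combination (-S) * h]
  exact I.mul_mem_left S hM

theorem flat_of_identifiesLocalRings {R S : Type u} [CommRing R] [CommRing S] [Algebra R S]
    (h : EtPBC.IdentifiesLocalRings R S) : Module.Flat R S :=
  RingHom.flat_algebraMap_iff.mp (RingHom.Flat.ofLocalizationPrime (algebraMap R S)
    fun P _ => RingHom.Flat.of_bijective (h ⟨P, ‹_›⟩))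

variable (A : Type u) [CommRing A]

/-- constructible subsets -/
abbrev CSet : Type u := {H : Set (PrimeSpectrum A) // IsConstructible H}

variable {A}

/-- complement -/
def CSet.compl (H : CSet A) : CSet A := ⟨H.1ᶜ, H.2.compl⟩

/-- intersection -/
def CSet.inter (H W : CSet A) : CSet A := ⟨H.1 ∩ W.1, H.2.inter W.2⟩

variable (A)

/-- functions with finite range and constructible fibres -/
def cRing : Subalgebra A (PrimeSpectrum A → A) where
  carrier := {g | (Set.range g).Finite ∧ ∀ a, IsConstructible (g ⁻¹' {a})}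
  mul_mem' := fun {f g} hf hg => by
    refine ⟨(hf.1.image2 (· * ·) hg.1).subset (by rintro _ ⟨x, rfl⟩; exact ⟨_, ⟨x, rfl⟩, _, ⟨x, rfl⟩, rfl⟩), fun a => ?_⟩
    rw [show (f * g) ⁻¹' {a} = ⋃ p ∈ {p ∈ Set.range f ×ˢ Set.range g | p.1 * p.2 = a}, f ⁻¹' {p.1} ∩ g ⁻¹' {p.2} from
      Set.ext fun x => by simp; exact ⟨fun h => ⟨x, h, rfl⟩, fun ⟨y, h, e⟩ => e ▸ h⟩]
    exact IsConstructible.biUnion ((hf.1.prod hg.1).subset (Set.sep_subset _ _)) fun p _ => (hf.2 _).inter (hg.2 _)
  add_mem' := fun {f g} hf hg => by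
    refine ⟨(hf.1.image2 (· + ·) hg.1).subset (by rintro _ ⟨x, rfl⟩; exact ⟨_, ⟨x, rfl⟩, _, ⟨x, rfl⟩, rfl⟩), fun a => ?_⟩
    rw [show (f + g) ⁻¹' {a} = ⋃ p ∈ {p ∈ Set.range f ×ˢ Set.range g | p.1 + p.2 = a}, f ⁻¹' {p.1} ∩ g ⁻¹' {p.2} from
      Set.ext fun x => by simp; exact ⟨fun h => ⟨x, h, rfl⟩, fun ⟨y, h, e⟩ => e ▸ h⟩]
    exact IsConstructible.biUnion ((hf.1.prod hg.1).subset (Set.sep_subset _ _)) fun p _ => (hf.2 _).inter (hg.2 _)
  algebraMap_mem' := fun a => by
    refine ⟨(Set.finite_singleton a).subset (by rintro _ ⟨x, rfl⟩; rfl), fun b => ?_⟩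
    by_cases h : a = b
    · rw [show (algebraMap A (PrimeSpectrum A → A) a) ⁻¹' {b} = Set.univ from Set.eq_univ_of_forall fun x => h]
      exact .univ
    · rw [show (algebraMap A (PrimeSpectrum A → A) a) ⁻¹' {b} = ∅ from Set.eq_empty_of_forall_notMem fun x => h]
      exact .empty

/-- pointwise invertible functions -/
def cSub : Submonoid (cRing A) where
  carrier := {g | ∀ x : PrimeSpectrum A, g.1 x ∉ x.asIdeal}
  one_mem' := fun x => x.2.one_notMem
  mul_mem' := fun {_ _} ha hb x h => (x.2.mem_or_mem h).elim (ha x) (hb x)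

/-- pointwise vanishing functions -/
def cIdeal : Ideal (cRing A) where
  carrier := {g | ∀ x : PrimeSpectrum A, g.1 x ∈ x.asIdeal}
  add_mem' := fun {_ _} ha hb x => x.asIdeal.add_mem (ha x) (hb x)
  zero_mem' := fun x => x.asIdeal.zero_mem
  smul_mem' := fun c _ ha x => x.asIdeal.mul_mem_left (c.1 x) (ha x)

/-- the w-localization -/
abbrev CLoc : Type u := Localization (cSub A)

/-- its distinguished closed set -/
def cSet : Set (PrimeSpectrum (CLoc A)) :=
  PrimeSpectrum.zeroLocus ((cIdeal A).map (algebraMap (cRing A) (CLoc A)) : Set (CLoc A))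

variable {A}

/-- indicator functions -/
noncomputable def cChi (H : CSet A) : cRing A :=
  ⟨H.1.indicator 1, (Set.toFinite {(0 : A), 1}).subset (by
    rintro _ ⟨x, rfl⟩
    by_cases hx : x ∈ H.1 <;> simp [hx]), fun a => by
    classical
    rw [show H.1.indicator 1 ⁻¹' {a} = (if (1 : A) = a then H.1 else ∅) ∪ (if (0 : A) = a then H.1ᶜ else ∅) from
      Set.ext fun x => by by_cases hx : x ∈ H.1 <;> split_ifs <;> simp_all]
    exact IsConstructible.union (by split_ifs; exacts [H.2, .empty]) (by split_ifs; exacts [H.2.compl, .empty])⟩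

/-- indicator functions in the localization -/
noncomputable def cChiLoc (H : CSet A) : CLoc A := algebraMap (cRing A) (CLoc A) (cChi H)

theorem cChiLoc_mul_compl (H : CSet A) : cChiLoc H * cChiLoc H.compl = 0 := by
  rw [cChiLoc, cChiLoc, ← map_mul, show cChi H * cChi H.compl = 0 from Subtype.ext (funext fun x => by
    by_cases hx : x ∈ H.1 <;> simp [cChi, CSet.compl, hx]), map_zero]

theorem cChiLoc_add_compl (H : CSet A) : cChiLoc H + cChiLoc H.compl = 1 := by
  rw [cChiLoc, cChiLoc, ← map_add, show cChi H + cChi H.compl = 1 from Subtype.ext (funext fun x => by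
    by_cases hx : x ∈ H.1 <;> simp [cChi, CSet.compl, hx]), map_one]

theorem cChiLoc_mul (H W : CSet A) : cChiLoc H * cChiLoc W = cChiLoc (H.inter W) := by
  rw [cChiLoc, cChiLoc, ← map_mul, cChiLoc, show cChi H * cChi W = cChi (H.inter W) from Subtype.ext (funext fun x => by
    by_cases hx : x ∈ H.1 <;> by_cases hx' : x ∈ W.1 <;> simp [cChi, CSet.inter, hx, hx'])]

theorem cChiLoc_mem_iff (y : PrimeSpectrum (CLoc A)) (H : CSet A) :
    cChiLoc H ∈ y.asIdeal ↔ cChiLoc H.compl ∉ y.asIdeal := by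
  refine ⟨fun h h' => y.2.one_notMem ?_, fun h => ?_⟩
  · rw [← cChiLoc_add_compl H]; exact y.asIdeal.add_mem h h'
  · exact (y.2.mem_or_mem ((cChiLoc_mul_compl H).symm ▸ y.asIdeal.zero_mem)).resolve_right h

theorem cChiLoc_mem_iff_of_le {y y' : PrimeSpectrum (CLoc A)} (h : y.asIdeal ≤ y'.asIdeal)
    (H : CSet A) : cChiLoc H ∈ y.asIdeal ↔ cChiLoc H ∈ y'.asIdeal := by
  refine ⟨fun hy => h hy, fun hy => ?_⟩
  rw [cChiLoc_mem_iff] at hy ⊢
  exact fun h' => hy (h h')

theorem isConstructible_setOf_notMem (g : cRing A) : IsConstructible {x : PrimeSpectrum A | g.1 x ∉ x.asIdeal} := by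
  rw [show {x : PrimeSpectrum A | g.1 x ∉ x.asIdeal} =
    ⋃ a ∈ Set.range g.1, g.1 ⁻¹' {a} ∩ (PrimeSpectrum.basicOpen a : Set (PrimeSpectrum A)) from Set.ext fun x => by
      simp; exact ⟨fun h => ⟨x, rfl, h⟩, fun ⟨i, e, h⟩ => e ▸ h⟩]
  exact IsConstructible.biUnion g.2.1 fun a _ => (g.2.2 a).inter
    ((PrimeSpectrum.isCompact_basicOpen a).isConstructible (PrimeSpectrum.basicOpen a).2)

/-- the set where a function is invertible -/
def nonVan (g : cRing A) : CSet A := ⟨{x | g.1 x ∉ x.asIdeal}, isConstructible_setOf_notMem g⟩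

/-- on the closed set, membership is decided by indicator functions -/
theorem algebraMap_mem_iff_cSet {y : PrimeSpectrum (CLoc A)} (hy : y ∈ cSet A) (g : cRing A) :
    algebraMap (cRing A) (CLoc A) g ∈ y.asIdeal ↔ cChiLoc (nonVan g) ∈ y.asIdeal := by
  set H := nonVan g
  have hz : g * cChi H.compl ∈ cIdeal A := fun x => by
    by_cases hx : x ∈ H.1
    · simp [cChi, CSet.compl, hx]
    · simpa [cChi, CSet.compl, hx] using (not_not.mp hx : g.1 x ∈ x.asIdeal)
  have hzy : algebraMap (cRing A) (CLoc A) (g * cChi H.compl) ∈ y.asIdeal := hy (Ideal.mem_map_of_mem _ hz)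
  have hs : g * cChi H + cChi H.compl ∈ cSub A := fun x => by
    by_cases hx : x ∈ H.1
    · simp [cChi, CSet.compl, Set.indicator_of_mem hx, Set.indicator_of_notMem (show x ∉ H.1ᶜ from fun h => h hx)]
      exact hx
    · simpa [cChi, CSet.compl, hx] using x.2.one_notMem
  have hu : algebraMap (cRing A) (CLoc A) (g * cChi H + cChi H.compl) ∉ y.asIdeal := fun h =>
    y.2.ne_top (Ideal.eq_top_of_isUnit_mem _ h (IsLocalization.map_units (CLoc A) (⟨_, hs⟩ : cSub A)))
  rw [map_mul] at hzy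
  rw [map_add, map_mul] at hu
  constructor
  · intro h
    rw [cChiLoc_mem_iff]
    exact fun h' => hu (y.asIdeal.add_mem (y.asIdeal.mul_mem_right _ h) h')
  · intro h
    rw [cChiLoc_mem_iff] at h
    exact (y.2.mem_or_mem hzy).resolve_right h

theorem eq_of_cChiLoc_mem_iff {y y' : PrimeSpectrum (CLoc A)} (hy : y ∈ cSet A) (hy' : y' ∈ cSet A)
    (h : ∀ H, cChiLoc H ∈ y.asIdeal ↔ cChiLoc H ∈ y'.asIdeal) : y = y' := by
  refine PrimeSpectrum.ext (Ideal.ext fun z => ?_)
  obtain ⟨g, s, rfl⟩ := IsLocalization.exists_mk'_eq (cSub A) z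
  rw [IsLocalization.mk'_mem_iff, IsLocalization.mk'_mem_iff, algebraMap_mem_iff_cSet hy, algebraMap_mem_iff_cSet hy', h]

theorem isMaximal_of_mem_cSet {y : PrimeSpectrum (CLoc A)} (hy : y ∈ cSet A) : y.asIdeal.IsMaximal := by
  obtain ⟨n, hn, hle⟩ := Ideal.exists_le_maximal y.asIdeal y.2.ne_top
  have : y = ⟨n, hn.isPrime⟩ :=
    eq_of_cChiLoc_mem_iff hy (fun z hz => hle (hy hz)) (cChiLoc_mem_iff_of_le (y' := ⟨n, hn.isPrime⟩) hle)
  rw [this]; exact hn

/-- evaluation at a point -/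
noncomputable def cEval (x : PrimeSpectrum A) : CLoc A →ₐ[A] x.asIdeal.ResidueField :=
  IsLocalization.liftAlgHom (M := cSub A)
    (f := (IsScalarTower.toAlgHom A A x.asIdeal.ResidueField).comp ((Pi.evalAlgHom A (fun _ => A) x).comp (cRing A).val))
    fun g => IsUnit.mk0 _ fun h => g.2 x (Ideal.algebraMap_residueField_eq_zero.mp h)

theorem cEval_algebraMap (x : PrimeSpectrum A) (g : cRing A) :
    cEval x (algebraMap (cRing A) (CLoc A) g) = algebraMap A x.asIdeal.ResidueField (g.1 x) :=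
  IsLocalization.lift_eq _ g

/-- the point of the closed set over a prime -/
noncomputable def cPt (x : PrimeSpectrum A) : PrimeSpectrum (CLoc A) :=
  ⟨RingHom.ker (cEval x).toRingHom, RingHom.ker_isPrime _⟩

theorem cPt_mem (x : PrimeSpectrum A) : cPt x ∈ cSet A := by
  change (cIdeal A).map _ ≤ (cPt x).asIdeal
  rw [Ideal.map_le_iff_le_comap]
  intro g hg
  change cEval x (algebraMap _ _ g) = 0
  rw [cEval_algebraMap, Ideal.algebraMap_residueField_eq_zero]
  exact hg x

theorem comap_cPt (x : PrimeSpectrum A) : PrimeSpectrum.comap (algebraMap A (CLoc A)) (cPt x) = x := by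
  refine PrimeSpectrum.ext (Ideal.ext fun a => ?_)
  change cEval x (algebraMap A (CLoc A) a) = 0 ↔ _
  rw [(cEval x).commutes, Ideal.algebraMap_residueField_eq_zero]

/-- constant functions cut out basic opens -/
theorem cChiLoc_basicOpen_mem_iff {y : PrimeSpectrum (CLoc A)} (hy : y ∈ cSet A) (a : A) (h : IsConstructible
    (PrimeSpectrum.basicOpen a : Set (PrimeSpectrum A))) :
    cChiLoc ⟨_, h⟩ ∈ y.asIdeal ↔ a ∈ (PrimeSpectrum.comap (algebraMap A (CLoc A)) y).asIdeal := by
  rw [show (⟨_, h⟩ : CSet A) = nonVan (algebraMap A (cRing A) a) from Subtype.ext rfl,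
    ← algebraMap_mem_iff_cSet hy, ← IsScalarTower.algebraMap_apply]
  rfl

theorem cChiLoc_mem_iff_notMem {y : PrimeSpectrum (CLoc A)} (hy : y ∈ cSet A) (H : CSet A) :
    cChiLoc H ∈ y.asIdeal ↔ PrimeSpectrum.comap (algebraMap A (CLoc A)) y ∉ H.1 := by
  obtain ⟨H, hH⟩ := H
  set x := PrimeSpectrum.comap (algebraMap A (CLoc A)) y
  have hinter : ∀ s hs t ht, (cChiLoc ⟨s, hs⟩ ∈ y.asIdeal ↔ x ∉ s) → (cChiLoc ⟨t, ht⟩ ∈ y.asIdeal ↔ x ∉ t) →
      (cChiLoc ⟨s ∩ t, IsConstructible.inter hs ht⟩ ∈ y.asIdeal ↔ x ∉ s ∩ t) := fun s hs t ht h1 h2 => by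
    rw [show (⟨s ∩ t, IsConstructible.inter hs ht⟩ : CSet A) = CSet.inter ⟨s, hs⟩ ⟨t, ht⟩ from rfl, ← cChiLoc_mul,
      y.2.mul_mem_iff_mem_or_mem, h1, h2, Set.mem_inter_iff, not_and_or]
  have hcompl : ∀ s hs, (cChiLoc ⟨s, hs⟩ ∈ y.asIdeal ↔ x ∉ s) →
      (cChiLoc ⟨sᶜ, IsConstructible.compl hs⟩ ∈ y.asIdeal ↔ x ∉ sᶜ) := fun s hs h1 => by
    have := cChiLoc_mem_iff y ⟨s, hs⟩
    rw [show (⟨sᶜ, IsConstructible.compl hs⟩ : CSet A) = CSet.compl ⟨s, hs⟩ from rfl, Set.notMem_compl_iff]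
    tauto
  induction hH using IsConstructible.empty_union_induction with
  | open_retrocompact U hUo hUc =>
    classical
    obtain ⟨s, hsU⟩ := (PrimeSpectrum.isCompact_isOpen_iff).mp ⟨hUc.isCompact, hUo⟩
    have key : ∀ t : Finset A, ∃ ht : IsConstructible (⋂ a ∈ t, (PrimeSpectrum.basicOpen a : Set (PrimeSpectrum A))ᶜ),
        cChiLoc ⟨_, ht⟩ ∈ y.asIdeal ↔ x ∉ ⋂ a ∈ t, (PrimeSpectrum.basicOpen a : Set (PrimeSpectrum A))ᶜ := by
      intro t
      induction t using Finset.induction_on with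
      | empty =>
        refine ⟨by simp, ?_⟩
        simp only [Finset.notMem_empty, Set.iInter_of_empty, Set.iInter_univ, Set.mem_univ, not_true_eq_false, iff_false]
        rw [cChiLoc, show cChi (⟨Set.univ, IsConstructible.univ⟩ : CSet A) = 1 from
          Subtype.ext (funext fun x => by simp [cChi]), map_one]
        exact y.2.one_notMem
      | insert a t _ ih =>
        obtain ⟨ht, hit⟩ := ih
        have ha : IsConstructible (PrimeSpectrum.basicOpen a : Set (PrimeSpectrum A)) :=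
          (PrimeSpectrum.isCompact_basicOpen a).isConstructible (PrimeSpectrum.basicOpen a).2
        have h1 := hcompl _ ha ((cChiLoc_basicOpen_mem_iff hy a ha).trans (by simp [x]))
        refine ⟨by rw [Finset.set_biInter_insert]; exact ha.compl.inter ht, ?_⟩
        simpa only [Finset.set_biInter_insert] using hinter _ _ _ _ h1 hit
    obtain ⟨ht, hit⟩ := key s
    have hUeq : U = (⋂ a ∈ s, (PrimeSpectrum.basicOpen a : Set (PrimeSpectrum A))ᶜ)ᶜ := by
      rw [← hsU]
      ext z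
      simp [Set.subset_def]
    subst hUeq
    exact hcompl _ ht hit
  | union s hs t ht h1 h2 =>
    have := hcompl _ _ (hinter _ _ _ _ (hcompl s hs h1) (hcompl t ht h2))
    simpa only [← Set.compl_union, compl_compl] using this
  | compl s hs h1 => exact hcompl s hs h1

theorem mem_cSet_of_isMaximal (y : PrimeSpectrum (CLoc A)) [hy : y.asIdeal.IsMaximal] : y ∈ cSet A := by
  change (cIdeal A).map (algebraMap (cRing A) (CLoc A)) ≤ y.asIdeal
  rw [Ideal.map_le_iff_le_comap]
  intro g hg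
  by_contra h
  refine hy.ne_top (Ideal.eq_top_iff_one _ |>.mpr ?_)
  obtain ⟨c, m, hm, hcm⟩ := hy.exists_inv h
  obtain ⟨a, s, rfl⟩ := IsLocalization.exists_mk'_eq (cSub A) c
  have hs : (s : cRing A) - a * g ∈ cSub A := fun x hx => s.2 x (by
    have h1 : s.1.1 x - a.1 x * g.1 x ∈ x.asIdeal := hx
    simpa using x.asIdeal.add_mem h1 (x.asIdeal.mul_mem_left (a.1 x) (hg x)))
  obtain ⟨v, hv⟩ := isUnit_iff_exists_inv.mp (IsLocalization.map_units (CLoc A) (⟨_, hs⟩ : cSub A))
  rw [← hv]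
  refine y.asIdeal.mul_mem_right _ ?_
  rw [map_sub, map_mul, ← IsLocalization.mk'_spec (CLoc A) a s]
  exact aux_mem (R := CLoc A) y.asIdeal _ _ _ _ hm hcm

theorem closedPoints_cLoc : ProEtW.closedPoints (PrimeSpectrum (CLoc A)) = cSet A := by
  ext y
  change IsClosed ({y} : Set _) ↔ _
  rw [PrimeSpectrum.isClosed_singleton_iff_isMaximal]
  exact ⟨fun h => mem_cSet_of_isMaximal y, isMaximal_of_mem_cSet⟩

theorem eq_cPt {y : PrimeSpectrum (CLoc A)} (hy : y ∈ cSet A) :
    y = cPt (PrimeSpectrum.comap (algebraMap A (CLoc A)) y) :=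
  eq_of_cChiLoc_mem_iff hy (cPt_mem _) fun H => by
    rw [cChiLoc_mem_iff_notMem hy, cChiLoc_mem_iff_notMem (cPt_mem _), comap_cPt]

theorem isWLocal_cLoc : ProEtW.IsWLocal (PrimeSpectrum (CLoc A)) := by
  refine ⟨inferInstance, ?_, fun x => ?_⟩
  · rw [show {y : PrimeSpectrum (CLoc A) | IsClosed ({y} : Set _)} = cSet A from closedPoints_cLoc]
    exact PrimeSpectrum.isClosed_zeroLocus _
  · obtain ⟨n, hn, hxn⟩ := Ideal.exists_le_maximal x.asIdeal x.2.ne_top
    refine ⟨⟨n, hn.isPrime⟩, ⟨(PrimeSpectrum.isClosed_singleton_iff_isMaximal _).mpr hn,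
      (PrimeSpectrum.le_iff_specializes _ _).mp hxn⟩, ?_⟩
    rintro y ⟨hy, hxy⟩
    haveI : y.asIdeal.IsMaximal := (PrimeSpectrum.isClosed_singleton_iff_isMaximal _).mp hy
    haveI : (⟨n, hn.isPrime⟩ : PrimeSpectrum (CLoc A)).asIdeal.IsMaximal := hn
    exact eq_of_cChiLoc_mem_iff (mem_cSet_of_isMaximal y) (mem_cSet_of_isMaximal ⟨n, hn.isPrime⟩) fun H =>
      (cChiLoc_mem_iff_of_le ((PrimeSpectrum.le_iff_specializes _ _).mpr hxy) H).symm.trans
        (cChiLoc_mem_iff_of_le (y' := ⟨n, hn.isPrime⟩) hxn H)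

variable (A)

theorem bijOn_closedPoints : Set.BijOn (PrimeSpectrum.comap (algebraMap A (CLoc A)))
    (ProEtW.closedPoints (PrimeSpectrum (CLoc A))) Set.univ := by
  rw [closedPoints_cLoc]
  exact ⟨fun _ _ => trivial, fun y hy y' hy' h => (eq_cPt hy).trans ((congrArg cPt h).trans (eq_cPt hy').symm),
    fun x _ => ⟨cPt x, cPt_mem x, comap_cPt x⟩⟩

theorem isIndZariski_localization_cRing (M : Submonoid (cRing A)) (B : Type u) [CommRing B] [Algebra A B]
    [Algebra (cRing A) B] [IsScalarTower A (cRing A) B] [IsLocalization M B] : EtPBC.IsIndZariski A B := by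
  classical
  let sig : ∀ F : Finset (CSet A), PrimeSpectrum A → (↥F → Prop) := fun _ x S => x ∈ S.1.1
  haveI : ∀ F : Finset (CSet A), Finite (Set.range (sig F)) := fun F => inferInstance
  let restr : ∀ F G : Finset (CSet A), F ≤ G → Set.range (sig G) → Set.range (sig F) := fun F G h s =>
    ⟨fun S => s.1 ⟨S.1, h S.2⟩, by obtain ⟨_, x, rfl⟩ := s; exact ⟨x, rfl⟩⟩
  have hfib : ∀ F (s : Set.range (sig F)), IsConstructible (Set.rangeFactorization (sig F) ⁻¹' {s}) := fun F s => by
    rw [show Set.rangeFactorization (sig F) ⁻¹' {s} = ⋂ S : ↥F, (if s.1 S then S.1.1 else S.1.1ᶜ) from Set.ext fun x => by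
      simp only [Set.mem_preimage, Set.mem_singleton_iff, Set.mem_iInter, Subtype.ext_iff, funext_iff]
      refine forall_congr' fun S => ?_
      by_cases hs : s.1 S <;> simp [hs, sig, Set.rangeFactorization, eq_iff_iff]]
    exact IsConstructible.iInter fun S => by split_ifs; exacts [S.1.2, S.1.2.compl]
  let φ : ∀ F : Finset (CSet A), (Set.range (sig F) → A) →ₐ[A] cRing A := fun F =>
    (AlgHom.ofLinearMap (LinearMap.funLeft A A (Set.rangeFactorization (sig F))) rfl fun _ _ => rfl).codRestrict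
      (cRing A) fun g => ⟨(Set.finite_range g).subset (by rintro _ ⟨x, rfl⟩; exact ⟨_, rfl⟩), fun a => by
        change IsConstructible ((fun x => g (Set.rangeFactorization (sig F) x)) ⁻¹' {a})
        rw [show (fun x => g (Set.rangeFactorization (sig F) x)) ⁻¹' {a} =
          ⋃ s ∈ {s | g s = a}, Set.rangeFactorization (sig F) ⁻¹' {s} from Set.ext fun x => by
            simp only [Set.mem_preimage, Set.mem_singleton_iff, Set.mem_iUnion, Set.mem_ofPred_eq, exists_prop]
            exact ⟨fun h => ⟨_, h, rfl⟩, fun ⟨t, h, e⟩ => e.symm ▸ h⟩]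
        exact IsConstructible.biUnion (Set.toFinite _) fun s _ => hfib F s⟩
  refine isIndZariski_localization_of_directed (P := cRing A) (E := fun F => Set.range (sig F) → A)
    (tr := fun F G h => AlgHom.ofLinearMap (LinearMap.funLeft A A (restr F G h)) rfl fun _ _ => rfl) (φ := φ)
    (fun F => Algebra.IsLocalIso.pi_of_finite A _) (fun F G H h h' g => rfl) (fun F G h g => rfl) (fun g => ?_)
    (fun F g hg => ?_) M B
  · let F : Finset (CSet A) := g.2.1.toFinset.image fun a => ⟨g.1 ⁻¹' {a}, g.2.2 a⟩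
    refine ⟨F, fun s => g.1 s.2.choose, Subtype.ext (funext fun x => ?_)⟩
    show g.1 (Set.rangeFactorization (sig F) x).2.choose = g.1 x
    set w := (Set.rangeFactorization (sig F) x).2.choose
    have hw : sig F w = sig F x := (Set.rangeFactorization (sig F) x).2.choose_spec
    have hmem : (⟨g.1 ⁻¹' {g.1 x}, g.2.2 _⟩ : CSet A) ∈ F :=
      Finset.mem_image.mpr ⟨g.1 x, g.2.1.mem_toFinset.mpr ⟨x, rfl⟩, rfl⟩
    exact (congrFun hw ⟨_, hmem⟩).mpr rfl
  · refine funext fun s => ?_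
    obtain ⟨_, x, rfl⟩ := s
    exact congrFun (congrArg Subtype.val hg) x

theorem isIndZariski_cLoc : EtPBC.IsIndZariski A (CLoc A) :=
  isIndZariski_localization_cRing A (cSub A) (CLoc A)

theorem faithfullyFlat_cLoc : Module.FaithfullyFlat A (CLoc A) :=
  faithfullyFlat_of (flat_of_identifiesLocalRings (identifiesLocalRings (isIndZariski_cLoc A))) fun x => ⟨cPt x, comap_cPt x⟩

end Groth.Agent.WContr
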