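import Groth.Agent.WContr.IndZariskiLoc
import Groth.Agent.WLocalFib.Basic
import Groth.Agent.WLocalPi0.Basic
import Mathlib

/-!
Base change of `Spec A` along a profinite space over its space of connected components.
-/

set_option autoImplicit false
set_option backward.isDefEq.respectTransparency false
set_option linter.style.haveILetI false
set_option synthInstance.maxHeartbeats 200000
set_option maxHeartbeats 1600000

universe u

open Topology

namespace Groth.Agent.WContr

section lc

variable (A : Type u) [CommRing A] (T : Type u) [TopologicalSpace T]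

/-- locally constant functions -/
def lcRing : Subalgebra A (T → A) where
  carrier := {h | IsLocallyConstant h}
  mul_mem' := fun {_ _} ha hb => ha.mul hb
  add_mem' := fun {_ _} ha hb => ha.add hb
  algebraMap_mem' := fun a => IsLocallyConstant.const a

variable {A T}

/-- the indicator of a clopen -/
noncomputable def lcChi (U : TopologicalSpace.Clopens T) : lcRing A T :=
  ⟨(U : Set T).indicator 1, fun s => by
    classical
    rw [show (U : Set T).indicator (1 : T → A) ⁻¹' s = (if (1 : A) ∈ s then (U : Set T) else ∅) ∪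
        (if (0 : A) ∈ s then (U : Set T)ᶜ else ∅) from Set.ext fun x => by
      by_cases hx : x ∈ (U : Set T) <;> split_ifs <;> simp_all]
    refine IsOpen.union ?_ ?_ <;> split_ifs
    exacts [U.isClopen.isOpen, isOpen_empty, U.isClopen.compl.isOpen, isOpen_empty]⟩

theorem lcChi_mul_compl (U : TopologicalSpace.Clopens T) : lcChi U * lcChi Uᶜ = (0 : lcRing A T) :=
  Subtype.ext (funext fun x => by by_cases hx : x ∈ (U : Set T) <;> simp [lcChi, hx])

theorem lcChi_add_compl (U : TopologicalSpace.Clopens T) : lcChi U + lcChi Uᶜ = (1 : lcRing A T) :=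
  Subtype.ext (funext fun x => by by_cases hx : x ∈ (U : Set T) <;> simp [lcChi, hx])

theorem lcChi_mem_iff (y : PrimeSpectrum (lcRing A T)) (U : TopologicalSpace.Clopens T) :
    lcChi U ∈ y.asIdeal ↔ lcChi Uᶜ ∉ y.asIdeal := by
  refine ⟨fun h h' => y.2.one_notMem ?_, fun h => ?_⟩
  · rw [← lcChi_add_compl U]; exact y.asIdeal.add_mem h h'
  · exact (y.2.mem_or_mem ((lcChi_mul_compl (A := A) U).symm ▸ y.asIdeal.zero_mem)).resolve_right h

variable [CompactSpace T]

theorem exists_point (y : PrimeSpectrum (lcRing A T)) :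
    ∃ t : T, ∀ U : TopologicalSpace.Clopens T, lcChi U ∉ y.asIdeal ↔ t ∈ (U : Set T) := by
  classical
  obtain ⟨t, ht⟩ : (⋂ U : {U : TopologicalSpace.Clopens T // lcChi U ∉ y.asIdeal}, (U.1 : Set T)).Nonempty := by
    by_contra h
    rw [Set.not_nonempty_iff_eq_empty] at h
    obtain ⟨s, hs⟩ := isCompact_univ.elim_finite_subfamily_closed
      (fun U : {U : TopologicalSpace.Clopens T // lcChi U ∉ y.asIdeal} => (U.1 : Set T))
      (fun U => U.1.isClopen.isClosed) (by simpa using h)
    have h0 : ∏ U ∈ s, lcChi U.1 = (0 : lcRing A T) := Subtype.ext (funext fun x => by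
      have hx : x ∉ ⋂ U ∈ s, (U.1 : Set T) := fun hx => Set.eq_empty_iff_forall_notMem.mp hs x ⟨trivial, hx⟩
      simp only [Set.mem_iInter, not_forall] at hx
      obtain ⟨U, hU, hxU⟩ := hx
      simp only [SubmonoidClass.coe_finsetProd, Finset.prod_apply]
      exact Finset.prod_eq_zero hU (by simp [lcChi, hxU]))
    obtain ⟨U, -, hU⟩ := y.2.prod_mem_iff.mp (h0.symm ▸ y.asIdeal.zero_mem)
    exact U.2 hU
  refine ⟨t, fun U => ⟨fun hU => Set.mem_iInter.mp ht ⟨U, hU⟩, fun htU hU => ?_⟩⟩
  exact Set.mem_iInter.mp ht ⟨Uᶜ, (lcChi_mem_iff y U).mp hU⟩ htU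

/-- the point of `T` under a prime -/
noncomputable def lcPt (y : PrimeSpectrum (lcRing A T)) : T := (exists_point y).choose

theorem lcChi_notMem_iff (y : PrimeSpectrum (lcRing A T)) (U : TopologicalSpace.Clopens T) :
    lcChi U ∉ y.asIdeal ↔ lcPt y ∈ (U : Set T) := (exists_point y).choose_spec U

theorem mem_iff_lcPt (y : PrimeSpectrum (lcRing A T)) (h : lcRing A T) :
    h ∈ y.asIdeal ↔ h.1 (lcPt y) ∈ (PrimeSpectrum.comap (algebraMap A (lcRing A T)) y).asIdeal := by
  set a := h.1 (lcPt y)
  let U : TopologicalSpace.Clopens T := ⟨h.1 ⁻¹' {a}, h.2.isClopen_fiber a⟩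
  have hU : lcChi U ∉ y.asIdeal := (lcChi_notMem_iff y U).mpr rfl
  have h0 : lcChi U * (h - algebraMap A (lcRing A T) a) = 0 := Subtype.ext (funext fun z => by
    change (U : Set T).indicator 1 z * (h.1 z - a) = 0
    by_cases hz : z ∈ (U : Set T)
    · rw [show h.1 z = a from hz, sub_self, mul_zero]
    · simp [hz])
  have h1 := (y.2.mem_or_mem (h0.symm ▸ y.asIdeal.zero_mem)).resolve_left hU
  change _ ↔ algebraMap A (lcRing A T) a ∈ y.asIdeal
  exact ⟨fun hh => by simpa using y.asIdeal.sub_mem hh h1, fun hh => by simpa using y.asIdeal.add_mem h1 hh⟩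

variable [T2Space T] [TotallyDisconnectedSpace T]

theorem continuous_lcPt : Continuous (lcPt (A := A) (T := T)) :=
  isTopologicalBasis_isClopen.continuous_iff.mpr fun U hU => by
    convert (PrimeSpectrum.basicOpen (lcChi (A := A) ⟨U, hU⟩)).2 using 1
    ext y
    exact (lcChi_notMem_iff y ⟨U, hU⟩).symm

theorem isEmbedding_lc : IsEmbedding (fun y : PrimeSpectrum (lcRing A T) =>
    (PrimeSpectrum.comap (algebraMap A (lcRing A T)) y, lcPt y)) := by
  refine ⟨⟨le_antisymm ((PrimeSpectrum.continuous_comap _).prodMk continuous_lcPt).le_induced ?_⟩, fun y y' h => ?_⟩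
  · refine le_trans ?_ (le_of_eq PrimeSpectrum.isTopologicalBasis_basic_opens.eq_generateFrom.symm)
    refine le_generateFrom ?_
    rintro _ ⟨f, rfl⟩
    refine isOpen_induced_iff.mpr ⟨⋃ a : A, (PrimeSpectrum.basicOpen a : Set (PrimeSpectrum A)) ×ˢ (f.1 ⁻¹' {a}),
      isOpen_iUnion fun a => (PrimeSpectrum.basicOpen a).2.prod (f.2.isOpen_fiber a), Set.ext fun y => ?_⟩
    simp only [Set.mem_preimage, Set.mem_iUnion, Set.mem_prod, Set.mem_singleton_iff, SetLike.mem_coe,
      PrimeSpectrum.mem_basicOpen, exists_eq_right']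
    exact (not_congr (mem_iff_lcPt y f)).symm
  · refine PrimeSpectrum.ext (Ideal.ext fun f => ?_)
    have h1 : PrimeSpectrum.comap (algebraMap A (lcRing A T)) y = PrimeSpectrum.comap (algebraMap A (lcRing A T)) y' :=
      congrArg Prod.fst h
    have h2 : lcPt y = lcPt y' := congrArg Prod.snd h
    rw [mem_iff_lcPt, mem_iff_lcPt, h1, h2]

/-- the point of the spectrum over a pair -/
noncomputable def lcPair (x : PrimeSpectrum A) (t : T) : PrimeSpectrum (lcRing A T) :=
  ⟨x.asIdeal.comap ((Pi.evalRingHom (fun _ => A) t).comp (lcRing A T).val.toRingHom), Ideal.IsPrime.comap _⟩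

omit [CompactSpace T] [T2Space T] [TotallyDisconnectedSpace T] in
theorem mem_lcPair (x : PrimeSpectrum A) (t : T) (h : lcRing A T) :
    h ∈ (lcPair x t).asIdeal ↔ h.1 t ∈ x.asIdeal := Iff.rfl

theorem lcPt_lcPair (x : PrimeSpectrum A) (t : T) : lcPt (lcPair x t) = t := by
  by_contra hne
  obtain ⟨U, hU, hU1, hU2⟩ := exists_isClopen_of_totally_separated (α := T) (Ne.symm hne)
  refine hU2 ((lcChi_notMem_iff (lcPair x t) ⟨U, hU⟩).mp ?_)
  rw [mem_lcPair]
  simp [lcChi, hU1, x.2.one_notMem]

omit [CompactSpace T] [T2Space T] [TotallyDisconnectedSpace T] in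
theorem comap_lcPair (x : PrimeSpectrum A) (t : T) :
    PrimeSpectrum.comap (algebraMap A (lcRing A T)) (lcPair x t) = x :=
  PrimeSpectrum.ext (Ideal.ext fun _ => Iff.rfl)

omit [T2Space T] [TotallyDisconnectedSpace T] in
theorem isIndZariski_localization_lcRing (M : Submonoid (lcRing A T)) (B : Type u) [CommRing B] [Algebra A B]
    [Algebra (lcRing A T) B] [IsScalarTower A (lcRing A T) B] [IsLocalization M B] : EtPBC.IsIndZariski A B := by
  classical
  let sig : ∀ F : Finset (TopologicalSpace.Clopens T), T → (↥F → Prop) := fun _ x S => x ∈ (S.1 : Set T)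
  haveI : ∀ F : Finset (TopologicalSpace.Clopens T), Finite (Set.range (sig F)) := fun F => inferInstance
  let restr : ∀ F G : Finset (TopologicalSpace.Clopens T), F ≤ G → Set.range (sig G) → Set.range (sig F) := fun F G h s =>
    ⟨fun S => s.1 ⟨S.1, h S.2⟩, by obtain ⟨_, x, rfl⟩ := s; exact ⟨x, rfl⟩⟩
  have hfib : ∀ F (s : Set.range (sig F)), IsOpen (Set.rangeFactorization (sig F) ⁻¹' {s}) := fun F s => by
    rw [show Set.rangeFactorization (sig F) ⁻¹' {s} = ⋂ S : ↥F, (if s.1 S then (S.1 : Set T) else (S.1 : Set T)ᶜ) from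
      Set.ext fun x => by
      simp only [Set.mem_preimage, Set.mem_singleton_iff, Set.mem_iInter, Subtype.ext_iff, funext_iff]
      refine forall_congr' fun S => ?_
      by_cases hs : s.1 S <;> simp [hs, sig, Set.rangeFactorization, eq_iff_iff]]
    exact isOpen_iInter_of_finite fun S => by
      split_ifs; exacts [S.1.isClopen.isOpen, S.1.isClopen.compl.isOpen]
  let φ : ∀ F : Finset (TopologicalSpace.Clopens T), (Set.range (sig F) → A) →ₐ[A] lcRing A T := fun F =>
    (AlgHom.ofLinearMap (LinearMap.funLeft A A (Set.rangeFactorization (sig F))) rfl fun _ _ => rfl).codRestrict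
      (lcRing A T) fun g s => by
        change IsOpen ((fun x => g (Set.rangeFactorization (sig F) x)) ⁻¹' s)
        rw [show (fun x => g (Set.rangeFactorization (sig F) x)) ⁻¹' s =
          ⋃ i ∈ {i | g i ∈ s}, Set.rangeFactorization (sig F) ⁻¹' {i} from Set.ext fun x => by
            simp only [Set.mem_preimage, Set.mem_singleton_iff, Set.mem_iUnion, Set.mem_ofPred_eq, exists_prop]
            exact ⟨fun h => ⟨_, h, rfl⟩, fun ⟨t, h, e⟩ => e.symm ▸ h⟩]
        exact isOpen_biUnion fun i _ => hfib F i
  refine isIndZariski_localization_of_directed (P := lcRing A T) (E := fun F => Set.range (sig F) → A)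
    (tr := fun F G h => AlgHom.ofLinearMap (LinearMap.funLeft A A (restr F G h)) rfl fun _ _ => rfl) (φ := φ)
    (fun F => Algebra.IsLocalIso.pi_of_finite A _) (fun F G H h h' g => rfl) (fun F G h g => rfl) (fun g => ?_)
    (fun F g hg => ?_) M B
  · let F : Finset (TopologicalSpace.Clopens T) :=
      g.2.range_finite.toFinset.image fun a => ⟨g.1 ⁻¹' {a}, g.2.isClopen_fiber a⟩
    refine ⟨F, fun s => g.1 s.2.choose, Subtype.ext (funext fun x => ?_)⟩
    show g.1 (Set.rangeFactorization (sig F) x).2.choose = g.1 x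
    set w := (Set.rangeFactorization (sig F) x).2.choose
    have hw : sig F w = sig F x := (Set.rangeFactorization (sig F) x).2.choose_spec
    have hmem : (⟨g.1 ⁻¹' {g.1 x}, g.2.isClopen_fiber _⟩ : TopologicalSpace.Clopens T) ∈ F :=
      Finset.mem_image.mpr ⟨g.1 x, g.2.range_finite.mem_toFinset.mpr ⟨x, rfl⟩, rfl⟩
    exact (congrFun hw ⟨_, hmem⟩).mpr rfl
  · refine funext fun s => ?_
    obtain ⟨_, x, rfl⟩ := s
    exact congrFun (congrArg Subtype.val hg) x

end lc

section pullback

variable {A : Type u} [CommRing A] {T : Type u} [TopologicalSpace T]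
  (g : C(T, _root_.ConnectedComponents (PrimeSpectrum A)))

/-- functions invertible on the fibre product -/
def pbSub : Submonoid (lcRing A T) where
  carrier := {h | ∀ (t : T) (x : PrimeSpectrum A), _root_.ConnectedComponents.mk x = g t → h.1 t ∉ x.asIdeal}
  one_mem' := fun _ x _ => x.2.one_notMem
  mul_mem' := fun {_ _} ha hb t x hx h => (x.2.mem_or_mem h).elim (ha t x hx) (hb t x hx)

variable [CompactSpace T] [T2Space T] [TotallyDisconnectedSpace T]
  (L : Type u) [CommRing L] [Algebra A L] [Algebra (lcRing A T) L] [IsScalarTower A (lcRing A T) L]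
  [IsLocalization (pbSub g) L]

/-- the map to the fibre product -/
noncomputable def pbMap (y : PrimeSpectrum L) : PrimeSpectrum A × T :=
  (PrimeSpectrum.comap (algebraMap A L) y, lcPt (PrimeSpectrum.comap (algebraMap (lcRing A T) L) y))

omit [T2Space T] [TotallyDisconnectedSpace T] [IsLocalization (pbSub g) L] in
theorem comap_comap (y : PrimeSpectrum L) :
    PrimeSpectrum.comap (algebraMap A (lcRing A T)) (PrimeSpectrum.comap (algebraMap (lcRing A T) L) y) =
      PrimeSpectrum.comap (algebraMap A L) y := by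
  refine PrimeSpectrum.ext (Ideal.ext fun a => ?_)
  change algebraMap (lcRing A T) L (algebraMap A (lcRing A T) a) ∈ y.asIdeal ↔ _
  rw [← IsScalarTower.algebraMap_apply]; rfl

include g in
theorem isEmbedding_pbMap : IsEmbedding (pbMap (A := A) (T := T) L) := by
  have h1 := (isEmbedding_lc (A := A) (T := T)).comp (PrimeSpectrum.localization_comap_isEmbedding L (pbSub g))
  convert h1 using 1
  exact funext fun y => Prod.ext (comap_comap L y).symm rfl

theorem exists_idempotent_eq {x : PrimeSpectrum A} {t : T} (hne : _root_.ConnectedComponents.mk x ≠ g t) :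
    ∃ h ∈ pbSub g, h.1 t ∈ x.asIdeal := by
  haveI := Groth.Agent.WLocalFib.t2Space_connectedComponents (X := PrimeSpectrum A)
  obtain ⟨U, hU, hU1, hU2⟩ := exists_isClopen_of_totally_separated (α := _root_.ConnectedComponents (PrimeSpectrum A))
    (Ne.symm hne)
  obtain ⟨e, he, heq⟩ := PrimeSpectrum.exists_idempotent_basicOpen_eq_of_isClopen
    (hU.preimage ConnectedComponents.continuous_coe)
  have hmem : ∀ z : PrimeSpectrum A, e ∉ z.asIdeal ↔ _root_.ConnectedComponents.mk z ∈ U := fun z => by
    change z ∈ (PrimeSpectrum.basicOpen e : Set (PrimeSpectrum A)) ↔ _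
    rw [← heq]; rfl
  let V : TopologicalSpace.Clopens T := ⟨g ⁻¹' U, hU.preimage g.continuous⟩
  refine ⟨lcChi V * algebraMap A (lcRing A T) e + lcChi Vᶜ, fun t' z hz => ?_, ?_⟩
  · change (V : Set T).indicator 1 t' * e + ((Vᶜ : TopologicalSpace.Clopens T) : Set T).indicator 1 t' ∉ z.asIdeal
    by_cases ht : t' ∈ (V : Set T)
    · simp [ht, (hmem z).mpr (hz.symm ▸ ht)]
    · simpa [ht] using z.2.one_notMem
  · change (V : Set T).indicator 1 t * e + ((Vᶜ : TopologicalSpace.Clopens T) : Set T).indicator 1 t ∈ x.asIdeal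
    have ht : t ∈ (V : Set T) := hU1
    simpa [ht] using not_not.mp (mt (hmem x).mp hU2)

theorem range_pbMap :
    Set.range (pbMap (A := A) (T := T) L) = {p : PrimeSpectrum A × T | _root_.ConnectedComponents.mk p.1 = g p.2} := by
  refine Set.Subset.antisymm ?_ ?_
  · rintro _ ⟨y, rfl⟩
    by_contra hne
    obtain ⟨h, hh, hmem⟩ := exists_idempotent_eq g hne
    refine y.2.ne_top (Ideal.eq_top_of_isUnit_mem _ ?_ (IsLocalization.map_units L (⟨h, hh⟩ : pbSub g)))
    have h1 := (mem_iff_lcPt (PrimeSpectrum.comap (algebraMap (lcRing A T) L) y) h).mpr (by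
      rw [comap_comap L y]; exact hmem)
    exact h1
  · rintro ⟨x, t⟩ hxt
    obtain ⟨y, hy⟩ : lcPair x t ∈ Set.range (PrimeSpectrum.comap (algebraMap (lcRing A T) L)) := by
      rw [PrimeSpectrum.localization_comap_range L (pbSub g)]
      exact Set.disjoint_left.mpr fun h hh hmem => hh t x hxt hmem
    refine ⟨y, Prod.ext ?_ ?_⟩
    · change PrimeSpectrum.comap (algebraMap A L) y = x
      rw [← comap_comap (T := T) L y, hy, comap_lcPair]
    · change lcPt (PrimeSpectrum.comap (algebraMap (lcRing A T) L) y) = t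
      rw [hy, lcPt_lcPair]

include g in
theorem exists_homeomorph : ∃ e : _root_.ConnectedComponents (PrimeSpectrum L) ≃ₜ T,
    ∀ y, e (_root_.ConnectedComponents.mk y) = (pbMap (A := A) (T := T) L y).2 := by
  have hemb := isEmbedding_pbMap g L
  have hrange := range_pbMap g L
  have hc : Continuous fun y => (pbMap (A := A) (T := T) L y).2 := continuous_snd.comp hemb.continuous
  let f := hc.connectedComponentsLift
  have hf : ∀ y, f (_root_.ConnectedComponents.mk y) = (pbMap (A := A) (T := T) L y).2 := fun y =>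
    congrFun hc.connectedComponentsLift_comp_coe y
  have hsurj : Function.Surjective f := fun t => by
    obtain ⟨x, hx⟩ := ConnectedComponents.surjective_coe (g t)
    obtain ⟨y, hy⟩ := hrange.ge (show (x, t) ∈ _ from hx)
    exact ⟨_root_.ConnectedComponents.mk y, by rw [hf, hy]⟩
  have hinj : Function.Injective f := fun a b hab => by
    obtain ⟨y, rfl⟩ := ConnectedComponents.surjective_coe a
    obtain ⟨y', rfl⟩ := ConnectedComponents.surjective_coe b
    rw [hf, hf] at hab
    set t := (pbMap (A := A) (T := T) L y).2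
    have himg : pbMap (A := A) (T := T) L '' ((fun z => (pbMap (A := A) (T := T) L z).2) ⁻¹' {t}) =
        (_root_.ConnectedComponents.mk ⁻¹' {g t}) ×ˢ {t} := by
      ext ⟨x, s⟩
      constructor
      · rintro ⟨z, hz, hzp⟩
        have h1 : _root_.ConnectedComponents.mk (pbMap (A := A) (T := T) L z).1 = g (pbMap (A := A) (T := T) L z).2 := hrange.le ⟨z, rfl⟩
        have hs : (pbMap (A := A) (T := T) L z).2 = t := hz
        rw [hzp] at h1 hs
        exact ⟨h1.trans (congrArg g hs), hs⟩
      · rintro ⟨hx, rfl⟩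
        obtain ⟨z, hz⟩ := hrange.ge (show (x, t) ∈ _ from hx)
        exact ⟨z, by rw [Set.mem_preimage, Set.mem_singleton_iff, hz], hz⟩
    have hpre : IsPreconnected ((fun z => (pbMap (A := A) (T := T) L z).2) ⁻¹' {t}) := by
      rw [← hemb.isInducing.isPreconnected_image, himg]
      obtain ⟨x, hx⟩ := ConnectedComponents.surjective_coe (g t)
      rw [← hx, connectedComponents_preimage_singleton]
      exact isPreconnected_connectedComponent.prod isPreconnected_singleton
    exact ConnectedComponents.coe_eq_coe'.mpr (hpre.subset_connectedComponent (x := y') hab.symm rfl)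
  haveI : CompactSpace (_root_.ConnectedComponents (PrimeSpectrum L)) := inferInstance
  let e := (isHomeomorph_iff_continuous_bijective.mpr ⟨hc.connectedComponentsLift_continuous, hinj, hsurj⟩).homeomorph f
  exact ⟨e, hf⟩

end pullback

end Groth.Agent.WContr
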