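import Groth.Agent.WContr.Pi0Pullback
import Groth.Agent.WContr.ConstrUniv
import Groth.Agent.S0699

/-!
w-local maps that identify local rings are ind-Zariski.
-/

set_option autoImplicit false
set_option backward.isDefEq.respectTransparency false
set_option linter.style.haveILetI false
set_option synthInstance.maxHeartbeats 200000
set_option maxHeartbeats 1600000

universe u

open Topology

namespace Groth.Agent.WContr

theorem identifiesLocalRings_of_comp {R S U : Type u} [CommRing R] [CommRing S] [CommRing U] [Algebra R S]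
    [Algebra S U] [Algebra R U] [IsScalarTower R S U] (h1 : EtPBC.IdentifiesLocalRings R S)
    (h2 : EtPBC.IdentifiesLocalRings R U) : EtPBC.IdentifiesLocalRings S U := by
  intro q
  let p : PrimeSpectrum S := PrimeSpectrum.comap (algebraMap S U) q
  let I : Ideal R := p.asIdeal.comap (algebraMap R S)
  have hI : q.asIdeal.comap (algebraMap R U) = I := by
    change _ = (q.asIdeal.comap (algebraMap S U)).comap (algebraMap R S)
    rw [Ideal.comap_comap, ← IsScalarTower.algebraMap_eq]
  have hq : Function.Bijective (Localization.localRingHom I q.asIdeal (algebraMap R U) hI.symm) := by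
    have key : ∀ (J : Ideal R) [J.IsPrime] (hJ : J = q.asIdeal.comap (algebraMap R U)),
        Function.Bijective (Localization.localRingHom J q.asIdeal (algebraMap R U) hJ) := by
      intro J _ hJ
      subst hJ
      exact h2 q
    exact key I hI.symm
  have e : Localization.localRingHom I q.asIdeal (algebraMap R U) hI.symm =
      (Localization.localRingHom p.asIdeal q.asIdeal (algebraMap S U) rfl).comp
        (Localization.localRingHom I p.asIdeal (algebraMap R S) rfl) := by
    refine IsLocalization.ringHom_ext I.primeCompl (RingHom.ext fun a => ?_)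
    simp only [RingHom.comp_apply, Localization.localRingHom_to_map]
    rw [IsScalarTower.algebraMap_apply R S U]
  rw [e, RingHom.coe_comp] at hq
  exact (Function.Bijective.of_comp_iff _ (h1 p)).mp hq

section wlocal

variable {A : Type u} [CommRing A] {T : Type u} [TopologicalSpace T]
  (g : C(T, _root_.ConnectedComponents (PrimeSpectrum A))) [CompactSpace T] [T2Space T] [TotallyDisconnectedSpace T]
  (L : Type u) [CommRing L] [Algebra A L] [Algebra (lcRing A T) L] [IsScalarTower A (lcRing A T) L]
  [IsLocalization (pbSub g) L]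

include g in
theorem pb_closed_iff (hA : ProEtW.IsWLocal (PrimeSpectrum A)) (y : PrimeSpectrum L) :
    IsClosed ({y} : Set (PrimeSpectrum L)) ↔
      IsClosed ({PrimeSpectrum.comap (algebraMap A L) y} : Set (PrimeSpectrum A)) := by
  have hemb := isEmbedding_pbMap g L
  constructor
  · intro hy
    obtain ⟨x', ⟨hx', hxx'⟩, -⟩ := hA.2.2 (pbMap (A := A) (T := T) L y).1
    have hmk : _root_.ConnectedComponents.mk x' = _root_.ConnectedComponents.mk (pbMap (A := A) (T := T) L y).1 :=
      ConnectedComponents.coe_eq_coe'.mpr (isClosed_connectedComponent.closure_subset_iff.mpr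
        (Set.singleton_subset_iff.mpr mem_connectedComponent) hxx'.mem_closure)
    obtain ⟨y', hy'⟩ := (range_pbMap g L).ge (show (x', (pbMap (A := A) (T := T) L y).2) ∈
      {p : PrimeSpectrum A × T | _root_.ConnectedComponents.mk p.1 = g p.2} from hmk.trans ((range_pbMap g L).le ⟨y, rfl⟩))
    have hsp : y ⤳ y' := hemb.isInducing.specializes_iff.mp (by
      rw [hy']
      exact hxx'.prod specializes_rfl)
    have hyy : y' = y := by simpa [hy.closure_eq] using hsp.mem_closure
    rw [hyy] at hy'
    have : PrimeSpectrum.comap (algebraMap A L) y = x' := congrArg Prod.fst hy'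
    rw [this]; exact hx'
  · intro hx
    have h1 : IsClosed (pbMap (A := A) (T := T) L ⁻¹' {pbMap (A := A) (T := T) L y}) := by
      refine IsClosed.preimage hemb.continuous ?_
      rw [← Set.singleton_prod_singleton]
      exact IsClosed.prod hx isClosed_singleton
    rwa [← Set.image_singleton, hemb.injective.preimage_image] at h1

include g in
theorem isWLocal_pb (hA : ProEtW.IsWLocal (PrimeSpectrum A)) : ProEtW.IsWLocal (PrimeSpectrum L) := by
  have hemb := isEmbedding_pbMap g L
  refine ⟨inferInstance, ?_, fun y => ?_⟩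
  · rw [show {y : PrimeSpectrum L | IsClosed ({y} : Set _)} = PrimeSpectrum.comap (algebraMap A L) ⁻¹'
      {x : PrimeSpectrum A | IsClosed ({x} : Set _)} from Set.ext fun y => pb_closed_iff g L hA y]
    exact hA.2.1.preimage (PrimeSpectrum.continuous_comap _)
  · obtain ⟨n, hn, hyn⟩ := Ideal.exists_le_maximal y.asIdeal y.2.ne_top
    have hcl : IsClosed ({⟨n, hn.isPrime⟩} : Set (PrimeSpectrum L)) :=
      (PrimeSpectrum.isClosed_singleton_iff_isMaximal _).mpr hn
    have hyn' : y ⤳ ⟨n, hn.isPrime⟩ := (PrimeSpectrum.le_iff_specializes _ _).mp hyn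
    refine ⟨⟨n, hn.isPrime⟩, ⟨hcl, hyn'⟩, ?_⟩
    rintro z ⟨hz, hyz⟩
    have hc2 : Continuous fun w => (pbMap (A := A) (T := T) L w).2 := continuous_snd.comp hemb.continuous
    exact hemb.injective (Prod.ext
      ((hA.2.2 _).unique ⟨(pb_closed_iff g L hA z).mp hz, hyz.map (PrimeSpectrum.continuous_comap _)⟩
        ⟨(pb_closed_iff g L hA _).mp hcl, hyn'.map (PrimeSpectrum.continuous_comap _)⟩)
      ((hyz.map hc2).eq.symm.trans (hyn'.map hc2).eq))

end wlocal

section comparison

open CategoryTheory CategoryTheory.Limits in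
theorem isIndZariski_of_algEquiv {A B C : Type u} [CommRing A] [CommRing B] [CommRing C] [Algebra A B] [Algebra A C]
    (e : B ≃ₐ[A] C) (h : EtPBC.IsIndZariski A B) : EtPBC.IsIndZariski A C := by
  obtain ⟨J, _, _, D, c, hc, hD, ⟨i⟩⟩ := h
  exact ⟨J, inferInstance, inferInstance, D, c, hc, hD, ⟨i ≪≫ Under.isoMk e.toRingEquiv.toCommRingCatIso
    (CommRingCat.hom_ext (RingHom.ext e.commutes))⟩⟩

variable (A B : Type u) [CommRing A] [CommRing B] [Algebra A B]

theorem exists_algHom_lcRing : ∃ ψ : lcRing A (_root_.ConnectedComponents (PrimeSpectrum B)) →ₐ[A] B,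
    ∀ (h : lcRing A (_root_.ConnectedComponents (PrimeSpectrum B))) (q : PrimeSpectrum B),
      (ψ h ∈ q.asIdeal ↔ h.1 (_root_.ConnectedComponents.mk q) ∈ (PrimeSpectrum.comap (algebraMap A B) q).asIdeal) := by
  classical
  let T := _root_.ConnectedComponents (PrimeSpectrum B)
  let ι : B →ₐ[A] ∀ q : PrimeSpectrum B, Localization.AtPrime q.asIdeal :=
    AlgHom.pi fun q => IsScalarTower.toAlgHom A B (Localization.AtPrime q.asIdeal)
  have hι : Function.Injective ι := fun b c h => eq_of_forall_closed fun q _ => congrFun h q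
  let Φ : lcRing A T →ₐ[A] ∀ q : PrimeSpectrum B, Localization.AtPrime q.asIdeal :=
    AlgHom.pi fun q => (IsScalarTower.toAlgHom A A (Localization.AtPrime q.asIdeal)).comp
      ((Pi.evalAlgHom A (fun _ => A) (_root_.ConnectedComponents.mk q)).comp (lcRing A T).val)
  have hmem : ∀ h, Φ h ∈ ι.range := fun h => by
    choose e he he' using fun a => PrimeSpectrum.exists_idempotent_basicOpen_eq_of_isClopen
      ((h.2.isClopen_fiber a).preimage (ConnectedComponents.continuous_coe (α := PrimeSpectrum B)))
    have hmem : ∀ a (q : PrimeSpectrum B), e a ∉ q.asIdeal ↔ h.1 (_root_.ConnectedComponents.mk q) = a := fun a q => by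
      change q ∈ (PrimeSpectrum.basicOpen (e a) : Set (PrimeSpectrum B)) ↔ _
      rw [← he' a]; rfl
    refine ⟨∑ a ∈ h.2.range_finite.toFinset, e a * algebraMap A B a, funext fun q => ?_⟩
    show algebraMap B (Localization.AtPrime q.asIdeal) (∑ a ∈ h.2.range_finite.toFinset, e a * algebraMap A B a) =
      algebraMap A (Localization.AtPrime q.asIdeal) (h.1 (_root_.ConnectedComponents.mk q))
    rw [map_sum, Finset.sum_eq_single (h.1 (_root_.ConnectedComponents.mk q))]
    · rw [map_mul, (algebraMap_idem_eq q (he _)).1 ((hmem _ q).mpr rfl), one_mul, ← IsScalarTower.algebraMap_apply]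
    · intro a _ ha
      rw [map_mul, (algebraMap_idem_eq q (he a)).2 (not_not.mp fun hh => ha ((hmem a q).mp hh).symm), zero_mul]
    · exact fun hh => absurd (h.2.range_finite.mem_toFinset.mpr ⟨_, rfl⟩) hh
  refine ⟨(AlgEquiv.ofInjective ι hι).symm.toAlgHom.comp (Φ.codRestrict ι.range hmem), fun h q => ?_⟩
  have h1 := congrArg Subtype.val ((AlgEquiv.ofInjective ι hι).apply_symm_apply (Φ.codRestrict ι.range hmem h))
  refine mem_iff_of_algebraMap_eq B q ?_
  rw [← IsScalarTower.algebraMap_apply]
  exact congrFun h1 q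

theorem isIndZariski_of_identifiesLocalRings (h1 : EtPBC.IdentifiesLocalRings A B)
    (h2 : ProEtW.IsWLocal (PrimeSpectrum A)) (h3 : ProEtW.IsWLocal (PrimeSpectrum B))
    (h4 : ProEtW.IsWLocalMap (PrimeSpectrum.comap (algebraMap A B))) : EtPBC.IsIndZariski A B := by
  let T := _root_.ConnectedComponents (PrimeSpectrum B)
  haveI : T2Space T := Groth.Agent.WLocalFib.t2Space_connectedComponents
  let gg : C(T, _root_.ConnectedComponents (PrimeSpectrum A)) :=
    ⟨(PrimeSpectrum.continuous_comap (algebraMap A B)).connectedComponentsMap,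
      (PrimeSpectrum.continuous_comap (algebraMap A B)).connectedComponentsMap_continuous⟩
  have hgg : ∀ q, gg (_root_.ConnectedComponents.mk q) =
      _root_.ConnectedComponents.mk (PrimeSpectrum.comap (algebraMap A B) q) := fun q => rfl
  obtain ⟨ψ, hψ⟩ := exists_algHom_lcRing A B
  have hu : ∀ h : pbSub gg, IsUnit (ψ h) := fun h => by
    by_contra hh
    obtain ⟨m, hm, hhm⟩ := exists_max_ideal_of_mem_nonunits (mem_nonunits_iff.mpr hh)
    exact h.2 _ _ (hgg ⟨m, hm.isPrime⟩).symm ((hψ h ⟨m, hm.isPrime⟩).mp hhm)
  let L := Localization (pbSub gg)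
  let φ : L →ₐ[A] B := IsLocalization.liftAlgHom (M := pbSub gg) (f := ψ) hu
  have hφ : ∀ h, φ (algebraMap (lcRing A T) L h) = ψ h := fun h => IsLocalization.lift_eq _ h
  letI : Algebra L B := φ.toRingHom.toAlgebra
  haveI : IsScalarTower A L B := IsScalarTower.of_algebraMap_eq fun a => (φ.commutes a).symm
  have hcomap : ∀ q : PrimeSpectrum B, PrimeSpectrum.comap (algebraMap A L) (PrimeSpectrum.comap (algebraMap L B) q) =
      PrimeSpectrum.comap (algebraMap A B) q := fun q => PrimeSpectrum.ext (by
        simp only [PrimeSpectrum.comap_asIdeal, Ideal.comap_comap, ← IsScalarTower.algebraMap_eq])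
  have hz : EtPBC.IsIndZariski A L := isIndZariski_localization_lcRing (pbSub gg) L
  have hwl : ProEtW.IsWLocal (PrimeSpectrum L) := isWLocal_pb gg L h2
  obtain ⟨e, he⟩ := exists_homeomorph gg L
  have hpi : ∀ q : PrimeSpectrum B, e (_root_.ConnectedComponents.mk (PrimeSpectrum.comap (algebraMap L B) q)) =
      _root_.ConnectedComponents.mk q := fun q => by
    rw [he]
    by_contra hne
    obtain ⟨U, hU, hU1, hU2⟩ := exists_isClopen_of_totally_separated (α := T) hne
    have h5 : ψ (lcChi ⟨U, hU⟩) ∉ q.asIdeal := by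
      rw [← hφ]
      exact (lcChi_notMem_iff _ ⟨U, hU⟩).mpr hU1
    refine h5 ((hψ _ q).mpr ?_)
    have hq : _root_.ConnectedComponents.mk q ∉ U := hU2
    simp [lcChi, hq]
  have hb : Function.Bijective (algebraMap L B) := by
    refine Groth.Agent.S0699.result L B (identifiesLocalRings_of_comp (identifiesLocalRings hz) h1) hwl h3
      ⟨isSpectralMap_comap (A := L) (B := B) (algebraMap L B), fun n hn => ?_⟩ ?_
    · refine (pb_closed_iff gg L h2 _).mpr ?_
      rw [hcomap]; exact h4.2 n hn
    · rw [show (PrimeSpectrum.continuous_comap (algebraMap L B)).connectedComponentsMap = ⇑e.symm from funext fun c => by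
        obtain ⟨q, rfl⟩ := ConnectedComponents.surjective_coe c
        exact e.eq_symm_apply.mpr (hpi q)]
      exact e.symm.bijective
  exact isIndZariski_of_algEquiv (AlgEquiv.ofBijective φ hb) hz

end comparison

end Groth.Agent.WContr
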