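import Groth.Agent.KInj.Cover
import Mathlib.CategoryTheory.Linear.Basic
import Mathlib.Algebra.Homology.DerivedCategory.Ext.ExactSequences
import Mathlib.CategoryTheory.Abelian.GrothendieckAxioms.Basic
import Mathlib.CategoryTheory.Abelian.GrothendieckCategory.HasExt
import Mathlib

/-!
Derived completeness through telescopes, in a Grothendieck abelian linear category with enough projectives.
-/

set_option autoImplicit false
set_option backward.isDefEq.respectTransparency false
set_option backward.isDefEq.respectTransparency.types false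
set_option linter.style.haveILetI false

universe w v u

open CategoryTheory CategoryTheory.Limits

namespace Groth.Agent.WContr.DC

section Alg

variable {Λ : Type w} [CommRing Λ] (f : Λ)

/-- The telescope map. -/
def tel (M : Type*) [AddCommGroup M] [Module Λ M] : (ℕ → M) →ₗ[Λ] (ℕ → M) where
  toFun x i := x i - f • x (i + 1)
  map_add' x y := by ext i; simp only [Pi.add_apply, smul_add]; abel
  map_smul' c x := by ext i; simp only [Pi.smul_apply, RingHom.id_apply, smul_sub, smul_comm f c]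

/-- `M` is derived complete along `f`. -/
def DCSec (M : Type*) [AddCommGroup M] [Module Λ M] : Prop := Function.Bijective (tel f M)

variable {f} {M N P : Type*} [AddCommGroup M] [Module Λ M] [AddCommGroup N] [Module Λ N]
  [AddCommGroup P] [Module Λ P]

theorem tel_map (φ : M →ₗ[Λ] N) (x : ℕ → M) (i : ℕ) : tel f N (fun j => φ (x j)) i = φ (tel f M x i) := by
  simp [tel]

theorem dcSec_inj_iff : Function.Injective (tel f M) ↔ ∀ x, tel f M x = 0 → x = 0 :=
  injective_iff_map_eq_zero _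

theorem DCSec.of_ker (φ : M →ₗ[Λ] N) (ψ : N →ₗ[Λ] P) (hφ : Function.Injective φ) (he : Function.Exact φ ψ)
    (hN : DCSec f N) (hP : Function.Injective (tel f P)) : DCSec f M := by
  refine ⟨dcSec_inj_iff.mpr fun x hx => ?_, fun z => ?_⟩
  · have h0 := dcSec_inj_iff.mp hN.1 (fun j => φ (x j)) (funext fun i => by simp [tel_map, hx])
    exact funext fun j => hφ (by rw [Pi.zero_apply, map_zero]; exact congrFun h0 j)
  · obtain ⟨y, hy⟩ := hN.2 fun j => φ (z j)
    have h0 := dcSec_inj_iff.mp hP (fun j => ψ (y j)) (funext fun i => by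
      rw [tel_map, hy, Pi.zero_apply, he.apply_apply_eq_zero])
    choose x hx using fun j => (he (y j)).mp (congrFun h0 j)
    refine ⟨x, funext fun i => hφ ?_⟩
    rw [← tel_map, show (fun j => φ (x j)) = y from funext hx, hy]

theorem DCSec.of_coker (φ : M →ₗ[Λ] N) (ψ : N →ₗ[Λ] P) (hψ : Function.Surjective ψ) (he : Function.Exact φ ψ)
    (hN : DCSec f N) (hM : Function.Surjective (tel f M)) : DCSec f P := by
  refine ⟨dcSec_inj_iff.mpr fun x hx => ?_, fun z => ?_⟩
  · choose y hy using fun j => hψ (x j)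
    choose m hm using fun i => (he (tel f N y i)).mp (by
      rw [← tel_map, show (fun j => ψ (y j)) = x from funext hy, hx, Pi.zero_apply])
    obtain ⟨k, hk⟩ := hM m
    have h0 : y - (fun j => φ (k j)) = 0 := dcSec_inj_iff.mp hN.1 _ (funext fun i => by
      rw [map_sub, Pi.sub_apply, tel_map, hk, hm, sub_self, Pi.zero_apply])
    funext j
    rw [← hy, show y j = φ (k j) from sub_eq_zero.mp (congrFun h0 j), he.apply_apply_eq_zero, Pi.zero_apply]
  · choose y hy using fun j => hψ (z j)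
    obtain ⟨x, hx⟩ := hN.2 y
    exact ⟨fun j => ψ (x j), funext fun i => by rw [tel_map, hx, hy]⟩

theorem DCSec.of_ext (φ : M →ₗ[Λ] N) (ψ : N →ₗ[Λ] P) (hφ : Function.Injective φ) (hψ : Function.Surjective ψ)
    (he : Function.Exact φ ψ) (hM : DCSec f M) (hP : DCSec f P) : DCSec f N := by
  refine ⟨dcSec_inj_iff.mpr fun x hx => ?_, fun z => ?_⟩
  · have h0 := dcSec_inj_iff.mp hP.1 (fun j => ψ (x j)) (funext fun i => by rw [tel_map, hx]; simp)
    choose m hm using fun j => (he (x j)).mp (congrFun h0 j)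
    have hm0 := dcSec_inj_iff.mp hM.1 m (funext fun i => hφ (by
      rw [← tel_map, show (fun j => φ (m j)) = x from funext hm, hx]; simp))
    funext j
    rw [← hm, hm0]; simp
  · obtain ⟨p, hp⟩ := hP.2 fun j => ψ (z j)
    choose y hy using fun j => hψ (p j)
    choose m hm using fun i => (he (z i - tel f N y i)).mp (by
      rw [map_sub, ← tel_map, show (fun j => ψ (y j)) = p from funext hy, hp, sub_self])
    obtain ⟨k, hk⟩ := hM.2 m
    refine ⟨y + fun j => φ (k j), funext fun i => ?_⟩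
    rw [map_add, Pi.add_apply, tel_map, hk, hm]
    abel

theorem DCSec.of_subsingleton [Subsingleton M] : DCSec f M :=
  ⟨fun _ _ _ => Subsingleton.elim _ _, fun _ => ⟨0, Subsingleton.elim _ _⟩⟩

theorem DCSec.of_equiv (e : M ≃ₗ[Λ] N) (hM : DCSec f M) : DCSec f N :=
  DCSec.of_coker (0 : PUnit →ₗ[Λ] M) e.toLinearMap e.surjective (fun y => by simp [eq_comm (a := y)]) hM
    DCSec.of_subsingleton.2

theorem eq_pow_smul_of_tel_eq_zero {x : ℕ → M} (hx : tel f M x = 0) (i n : ℕ) : x i = f ^ n • x (i + n) := by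
  induction n with
  | zero => simp
  | succ n ih => rw [ih, pow_succ, mul_smul, ← add_assoc i n 1, show x (i + n) = f • x (i + n + 1) from
      sub_eq_zero.mp (congrFun hx (i + n))]

theorem DCSec.of_pow_smul_eq_zero (n : ℕ) (h : ∀ m : M, f ^ n • m = 0) : DCSec f M := by
  refine ⟨dcSec_inj_iff.mpr fun x hx => funext fun i => (eq_pow_smul_of_tel_eq_zero hx i n).trans (h _), fun z =>
    ⟨fun i => ∑ j ∈ Finset.range n, f ^ j • z (i + j), funext fun i => ?_⟩⟩
  show _ - f • _ = z i
  calc ∑ j ∈ Finset.range n, f ^ j • z (i + j) - f • ∑ j ∈ Finset.range n, f ^ j • z (i + 1 + j)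
      = ∑ j ∈ Finset.range n, (f ^ j • z (i + j) - f ^ (j + 1) • z (i + (j + 1))) := by
        rw [Finset.smul_sum, ← Finset.sum_sub_distrib]
        simp only [smul_smul, ← pow_succ']
        refine Finset.sum_congr rfl fun j _ => ?_
        rw [show i + 1 + j = i + (j + 1) by omega]
    _ = f ^ 0 • z (i + 0) - f ^ n • z (i + n) := Finset.sum_range_sub' _ n
    _ = z i := by simp [h]

theorem eq_zero_of_gens {r : ℕ} (a : Fin r → Λ) : ∀ {M : Type v} [AddCommGroup M] [Module Λ M],
    (∀ k, DCSec (a k) M) → (∀ m : M, ∃ h : Fin r → M, m = ∑ k, a k • h k) → ∀ m : M, m = 0 := by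
  induction r with
  | zero => intro M _ _ _ hg m; obtain ⟨h, rfl⟩ := hg m; simp
  | succ r ih =>
    intro M _ _ hd hg
    let φ : M →ₗ[Λ] M := LinearMap.lsmul Λ M (a 0)
    have hq := ih (fun k => a k.succ) (M := M ⧸ LinearMap.range φ) (fun k =>
      DCSec.of_coker φ (Submodule.mkQ _) (Submodule.mkQ_surjective _)
        (LinearMap.exact_map_mkQ_range φ) (hd k.succ) (hd k.succ).2) fun q => by
      obtain ⟨m, rfl⟩ := Submodule.mkQ_surjective _ q
      obtain ⟨h, hm⟩ := hg m
      refine ⟨fun k => Submodule.mkQ _ (h k.succ), ?_⟩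
      conv_lhs => rw [hm, Fin.sum_univ_succ, map_add, map_sum]
      rw [show Submodule.mkQ (LinearMap.range φ) (a 0 • h 0) = 0 from
        (Submodule.Quotient.mk_eq_zero _).mpr ⟨h 0, rfl⟩, zero_add]
      simp only [map_smul]
    have hdiv : ∀ m : M, ∃ m', a 0 • m' = m := fun m =>
      (Submodule.Quotient.mk_eq_zero (LinearMap.range φ)).mp (hq (Submodule.mkQ _ m))
    choose s hs using hdiv
    intro m
    exact congrFun (dcSec_inj_iff.mp (hd 0).1 (fun n => s^[n] m) (funext fun i => by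
      show s^[i] m - a 0 • s^[i + 1] m = 0
      rw [Function.iterate_succ_apply', hs, sub_self])) 0

end Alg

section Cat

variable {Λ : Type w} [CommRing Λ] {C : Type u} [Category.{v} C] [Abelian C] [IsGrothendieckAbelian.{v} C]
  [Linear Λ C]

/-- Countable copower functor. -/
noncomputable abbrev Sg : C ⥤ C :=
  Functor.const (Discrete (ULift.{v} ℕ)) ⋙ colim

noncomputable def inc (A : C) (i : ℕ) : A ⟶ Sg.obj A :=
  colimit.ι ((Functor.const (Discrete (ULift.{v} ℕ))).obj A) ⟨⟨i⟩⟩

noncomputable def sdesc {A F : C} (x : ℕ → (A ⟶ F)) : Sg.obj A ⟶ F :=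
  colimit.desc ((Functor.const (Discrete (ULift.{v} ℕ))).obj A)
    ⟨F, Discrete.natTrans fun i => x i.as.down⟩

@[reassoc (attr := simp)]
theorem inc_sdesc {A F : C} (x : ℕ → (A ⟶ F)) (i : ℕ) : inc A i ≫ sdesc x = x i :=
  colimit.ι_desc _ _

theorem sg_ext {A F : C} {p q : Sg.obj A ⟶ F} (h : ∀ i, inc A i ≫ p = inc A i ≫ q) : p = q :=
  colimit.hom_ext fun i => h i.as.down

@[reassoc]
theorem inc_map {A B : C} (g : A ⟶ B) (i : ℕ) : inc A i ≫ Sg.map g = g ≫ inc B i :=
  ι_colimMap _ _

variable (f : Λ)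

/-- The telescope endomorphism of the countable copower. -/
noncomputable def T (A : C) : Sg.obj A ⟶ Sg.obj A := sdesc fun i => inc A i - f • inc A (i + 1)

theorem inc_T_comp {A F : C} (p : Sg.obj A ⟶ F) (i : ℕ) :
    inc A i ≫ T f A ≫ p = tel f (A ⟶ F) (fun j => inc A j ≫ p) i := by
  simp [T, tel]

theorem T_natural {A B : C} (g : A ⟶ B) : Sg.map g ≫ T f B = T f A ≫ Sg.map g := by
  refine sg_ext fun i => ?_
  rw [inc_T_comp, ← Category.assoc, inc_map]
  simp only [T, tel, LinearMap.coe_mk, AddHom.coe_mk]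
  rw [inc_map, inc_map, Category.assoc, inc_sdesc, Preadditive.comp_sub, Linear.comp_smul]

theorem T_comp_bijective_iff {A F : C} :
    Function.Bijective (fun p : Sg.obj A ⟶ F => T f A ≫ p) ↔ DCSec f (A ⟶ F) := by
  let e : (Sg.obj A ⟶ F) ≃ (ℕ → (A ⟶ F)) :=
    ⟨fun p i => inc A i ≫ p, sdesc, fun p => sg_ext fun i => inc_sdesc _ i, fun x => funext (inc_sdesc x)⟩
  have h : (fun p : Sg.obj A ⟶ F => T f A ≫ p) = ⇑e.symm ∘ ⇑(tel f (A ⟶ F)) ∘ ⇑e := by
    funext p
    refine sg_ext fun i => ?_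
    simp only [Function.comp_apply, inc_T_comp]
    exact (congrFun (e.apply_symm_apply _) i).symm
  rw [h]
  constructor
  · intro hb
    rwa [e.symm.comp_bijective, e.bijective.of_comp_iff] at hb
  · exact fun hb => e.symm.bijective.comp (hb.comp e.bijective)

/-- Projection of the countable copower. -/
noncomputable def prj (A : C) (i : ℕ) : Sg.obj A ⟶ A :=
  sdesc fun j => if j = i then 𝟙 A else 0

theorem T_prj_zero (A : C) : T f A ≫ prj A 0 = prj A 0 :=
  sg_ext fun j => by simp [T, prj]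

theorem T_prj_succ (A : C) (i : ℕ) : T f A ≫ prj A (i + 1) = prj A (i + 1) - f • prj A i := by
  refine sg_ext fun j => ?_
  simp only [T, prj, inc_sdesc_assoc, Preadditive.sub_comp, Linear.smul_comp, inc_sdesc,
    Preadditive.comp_sub, Linear.comp_smul, add_left_inj]

theorem eq_zero_of_prj {A Z : C} (x : Z ⟶ Sg.obj A) (h : ∀ i, x ≫ prj A i = 0) : x = 0 := by
  classical
  refine Groth.Agent.KInj.eq_zero_of_finset_cover (fun _ : ULift.{v} ℕ => A) x x fun S Y t y hy => ?_
  let p : S → (Sg.obj A ⟶ ∐ fun _ : S => A) := fun s => prj A s.1.as.down ≫ Sigma.ι (fun _ : S => A) s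
  have hs : Sigma.desc (fun i : S => Sigma.ι (fun _ : ULift.{v} ℕ => A) i.1.as) ≫ (∑ s, p s) = 𝟙 _ := by
    refine Sigma.hom_ext _ _ fun s => ?_
    rw [Sigma.ι_desc_assoc, Category.comp_id, Preadditive.comp_sum, Finset.sum_eq_single s]
    · show inc A s.1.as.down ≫ prj A _ ≫ _ = _
      simp [prj]
    · intro s' _ hne
      show inc A s.1.as.down ≫ prj A _ ≫ _ = 0
      rw [prj, inc_sdesc_assoc, if_neg, zero_comp]
      exact fun hd => hne (Subtype.ext (Discrete.ext (ULift.ext _ _ hd))).symm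
    · simp
  have hy0 : y = 0 := by
    rw [← Category.comp_id y, ← hs, ← Category.assoc, ← hy, Preadditive.comp_sum]
    refine Finset.sum_eq_zero fun s _ => ?_
    simp [p, reassoc_of% (h s.1.as.down)]
  rw [hy, hy0, zero_comp]

instance mono_T (A : C) : Mono (T f A) := Preadditive.mono_of_cancel_zero _ fun {Z} x hx => by
  refine eq_zero_of_prj x fun i => ?_
  induction i with
  | zero => rw [← T_prj_zero f A, reassoc_of% hx, zero_comp]
  | succ i ih =>
    have := congrArg (· ≫ prj A (i + 1)) hx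
    simpa [T_prj_succ, ih] using this

instance projective_sg (P : C) [Projective P] : Projective (Sg.obj P) where
  factors {E Y} g e _ := ⟨sdesc fun i => Projective.factorThru (inc P i ≫ g) e, sg_ext fun i => by simp⟩

variable {f}

/-- Derived completeness on enough projectives gives it on all morphism modules. -/
theorem dcSec_hom {F : C}
    (H : ∀ A : C, ∃ (P : C) (π : P ⟶ A), Epi π ∧ Projective P ∧ DCSec f (P ⟶ F)) (A : C) : DCSec f (A ⟶ F) := by
  obtain ⟨P, π, _, _, hP⟩ := H A
  obtain ⟨Q, ρ, _, _, hQ⟩ := H (kernel π)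
  have hK : Function.Injective (tel f (kernel π ⟶ F)) := dcSec_inj_iff.mpr fun x hx => funext fun j => by
    have h0 := dcSec_inj_iff.mp hQ.1 (fun j => Linear.leftComp Λ F ρ (x j)) (funext fun i => by
      rw [tel_map, hx]; simp)
    exact zero_of_epi_comp ρ (congrFun h0 j)
  refine DCSec.of_ker (Linear.leftComp Λ F π) (Linear.leftComp Λ F (kernel.ι π))
    (fun x y hxy => (cancel_epi π).mp hxy) (fun g => ⟨fun hg => ?_, ?_⟩) hP hK
  · obtain ⟨l, hl⟩ := CokernelCofork.IsColimit.desc'
      (Abelian.epiIsCokernelOfKernel _ (kernelIsKernel π)) g hg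
    exact ⟨l, hl⟩
  · rintro ⟨l, rfl⟩
    simp

variable [HasExt.{v} C]

open Abelian

theorem ext_T_comp_bijective {F : C}
    (H : ∀ A : C, ∃ (P : C) (π : P ⟶ A), Epi π ∧ Projective P ∧ DCSec f (P ⟶ F))
    (n : ℕ) : ∀ A : C, Function.Bijective fun e : Ext (Sg.obj A) F n => (Ext.mk₀ (T f A)).comp e (zero_add n) := by
  induction n with
  | zero =>
    intro A
    have hA : DCSec f (A ⟶ F) := dcSec_hom H A
    have h := (T_comp_bijective_iff f).mpr hA
    have he : (fun e : Ext (Sg.obj A) F 0 => (Ext.mk₀ (T f A)).comp e (zero_add 0)) =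
        ⇑(Ext.homEquiv₀.symm) ∘ (fun p => T f A ≫ p) ∘ ⇑(Ext.homEquiv₀) := by
      funext e
      obtain ⟨p, rfl⟩ := Ext.homEquiv₀.symm.surjective e
      simp [Ext.homEquiv₀]
    rw [he]
    exact Ext.homEquiv₀.symm.bijective.comp (h.comp Ext.homEquiv₀.bijective)
  | succ n ih =>
    intro A
    obtain ⟨P, π, _, _, -⟩ := H A
    have h0 : (ShortComplex.mk (kernel.ι π) π (kernel.condition π)).ShortExact :=
      { exact := ShortComplex.exact_of_f_is_kernel _ (kernelIsKernel π) }
    have hS : ((ShortComplex.mk (kernel.ι π) π (kernel.condition π)).map Sg).ShortExact := h0.map_of_exact _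
    let τ : (ShortComplex.mk (kernel.ι π) π (kernel.condition π)).map Sg ⟶
        (ShortComplex.mk (kernel.ι π) π (kernel.condition π)).map Sg :=
      { τ₁ := T f (kernel π), τ₂ := T f P, τ₃ := T f A
        comm₁₂ := (T_natural f (kernel.ι π)).symm
        comm₂₃ := (T_natural f π).symm }
    have nat : ∀ x : Ext (Sg.obj (kernel π)) F n,
        (Ext.mk₀ (T f A)).comp (hS.extClass.comp x (add_comm 1 n)) (zero_add (n + 1)) =
          hS.extClass.comp ((Ext.mk₀ (T f (kernel π))).comp x (zero_add n)) (add_comm 1 n) := by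
      intro x
      rw [← Ext.comp_assoc (a₁₂ := 1) _ _ _ (zero_add 1) (add_comm 1 n) (by omega),
        ← ShortComplex.ShortExact.extClass_naturality hS hS τ,
        Ext.comp_assoc (a₁₂ := 1) _ _ _ (add_zero 1) (zero_add n) (by omega)]
    have surj : ∀ e : Ext (Sg.obj A) F (n + 1),
        ∃ x : Ext (Sg.obj (kernel π)) F n, hS.extClass.comp x (add_comm 1 n) = e := fun e =>
      Ext.contravariant_sequence_exact₃ hS F e
        (haveI : Projective (Sg.obj P) := projective_sg P; Ext.eq_zero_of_projective (P := Sg.obj P) _) (add_comm 1 n)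
    have hbijP := ih P
    refine ⟨fun e₁ e₂ he => sub_eq_zero.mp ?_, fun e => ?_⟩
    · obtain ⟨x, hx⟩ := surj (e₁ - e₂)
      have hz : hS.extClass.comp ((Ext.mk₀ (T f (kernel π))).comp x (zero_add n)) (add_comm 1 n) = 0 := by
        rw [← nat, hx, sub_eq_add_neg, Ext.comp_add, Ext.comp_neg, ← sub_eq_add_neg]
        exact sub_eq_zero.mpr he
      obtain ⟨z, hz'⟩ := Ext.contravariant_sequence_exact₁ hS F _ (add_comm 1 n) hz
      obtain ⟨w, hw⟩ := hbijP.2 z
      have hxw : x = (Ext.mk₀ (Sg.map (kernel.ι π))).comp w (zero_add n) := (ih (kernel π)).1 (by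
        dsimp only at hw ⊢
        refine hz'.symm.trans ?_
        rw [← hw, ← Ext.comp_assoc (a₁₂ := 0) _ _ _ (add_zero 0) (zero_add n) (by omega),
          ← Ext.comp_assoc (a₁₂ := 0) _ _ _ (add_zero 0) (zero_add n) (by omega), Ext.mk₀_comp_mk₀,
          Ext.mk₀_comp_mk₀]
        exact congrArg (fun m => (Ext.mk₀ m).comp w (zero_add n)) (T_natural f (kernel.ι π)))
      rw [← hx, hxw, ← Ext.comp_assoc (a₁₂ := 1) _ _ _ (add_zero 1) (zero_add n) (by omega),
        show hS.extClass.comp (Ext.mk₀ (Sg.map (kernel.ι π))) (add_zero 1) = 0 from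
          ShortComplex.ShortExact.extClass_comp hS, Ext.zero_comp]
    · obtain ⟨x, rfl⟩ := surj e
      obtain ⟨y, rfl⟩ := (ih (kernel π)).2 x
      exact ⟨hS.extClass.comp y (add_comm 1 n), nat y⟩

theorem subsingleton_ext_coker {F : C}
    (H : ∀ A : C, ∃ (P : C) (π : P ⟶ A), Epi π ∧ Projective P ∧ DCSec f (P ⟶ F)) (A : C) {Q : C}
    (q : Sg.obj A ⟶ Q) (hq : T f A ≫ q = 0) (hc : IsColimit (CokernelCofork.ofπ q hq)) (n : ℕ) :
    Subsingleton (Ext Q F n) := by
  have hS : (ShortComplex.mk (T f A) q hq).ShortExact :=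
    { exact := ShortComplex.exact_of_g_is_cokernel _ hc
      mono_f := mono_T f A
      epi_g := Cofork.IsColimit.epi hc }
  refine subsingleton_of_forall_eq 0 fun e => ?_
  have hz : (Ext.mk₀ q).comp e (zero_add n) = 0 := (ext_T_comp_bijective H n A).1 (by
    dsimp only
    rw [← Ext.comp_assoc (a₁₂ := 0) _ _ _ (add_zero 0) (zero_add n) (by omega), Ext.mk₀_comp_mk₀, hq]
    simp)
  cases n with
  | zero =>
    obtain ⟨p, rfl⟩ := Ext.homEquiv₀.symm.surjective e
    have h1 : q ≫ p = 0 := (Ext.mk₀_bijective _ _).1 (by simpa [Ext.homEquiv₀] using hz)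
    haveI : Epi q := hS.epi_g
    simp [Ext.homEquiv₀, zero_of_epi_comp q h1]
  | succ n =>
    obtain ⟨x, rfl⟩ := Ext.contravariant_sequence_exact₃ hS F e hz (add_comm 1 n)
    obtain ⟨y, rfl⟩ := (ext_T_comp_bijective H n A).2 x
    dsimp only
    rw [← Ext.comp_assoc (a₁₂ := 1) _ _ _ (add_zero 1) (zero_add n) (by omega),
      show hS.extClass.comp (Ext.mk₀ (T f A)) (add_zero 1) = 0 from
        ShortComplex.ShortExact.extClass_comp hS, Ext.zero_comp]

theorem dcSec_of_subsingleton_ext {F P : C} [Projective P] {Q : C}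
    (q : Sg.obj P ⟶ Q) (hq : T f P ≫ q = 0) (hc : IsColimit (CokernelCofork.ofπ q hq))
    (h : ∀ n, n ≤ 1 → Subsingleton (Ext Q F n)) : DCSec f (P ⟶ F) := by
  have hS : (ShortComplex.mk (T f P) q hq).ShortExact :=
    { exact := ShortComplex.exact_of_g_is_cokernel _ hc
      mono_f := mono_T f P
      epi_g := Cofork.IsColimit.epi hc }
  rw [← T_comp_bijective_iff f]
  refine ⟨fun p p' hp => sub_eq_zero.mp ?_, fun p => ?_⟩
  · obtain ⟨l, hl⟩ : ∃ l : Q ⟶ F, q ≫ l = p - p' :=
      ⟨_, (CokernelCofork.IsColimit.desc' hc (p - p') (by rw [Preadditive.comp_sub]; exact sub_eq_zero.mpr hp)).2⟩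
    haveI := h 0 zero_le_one
    rw [← hl, (Ext.mk₀_bijective Q F).1 (Subsingleton.elim (Ext.mk₀ l) (Ext.mk₀ 0)), comp_zero]
  · haveI := h 1 le_rfl
    obtain ⟨y, hy⟩ := Ext.contravariant_sequence_exact₁ hS F (Ext.mk₀ p) (add_zero 1) (Subsingleton.elim _ _)
    obtain ⟨p', rfl⟩ := (Ext.mk₀_bijective _ _).2 y
    exact ⟨p', (Ext.mk₀_bijective _ _).1 (by simpa using hy)⟩

end Cat

end Groth.Agent.WContr.DC
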