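import Groth.Prelude.Def_ProEtDC
import Groth.Agent.WContr.DCBasic
import Groth.Agent.WContr.ProEtCover
import Groth.Agent.S14017
import Mathlib

/-!
Derived complete sheaves on the pro-étale site: the criterion by sections over weakly contractible objects.
-/

set_option autoImplicit false
set_option backward.isDefEq.respectTransparency false
set_option backward.isDefEq.respectTransparency.types false
set_option linter.style.haveILetI false
set_option maxHeartbeats 800000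
set_option synthInstance.maxHeartbeats 200000

universe u

open CategoryTheory CategoryTheory.Limits AlgebraicGeometry Opposite

namespace Groth.Agent.WContr.DC

variable {Λ : Type (u + 1)} [CommRing Λ] {X : Scheme.{u}}

/-- Free sheaves on an object. -/
noncomputable abbrev freeF (U : X.ProEt) : ModuleCat.{u + 1} Λ ⥤ EtModW.ModP Λ X :=
  constantSheaf ((Scheme.ProEt.topology X).over U) (ModuleCat.{u + 1} Λ) ⋙ ProEtDC.extZeroModP Λ U

/-- Sections over an object. -/
noncomputable abbrev secF (U : X.ProEt) : EtModW.ModP Λ X ⥤ ModuleCat.{u + 1} Λ :=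
  sheafToPresheaf _ _ ⋙ (evaluation _ _).obj (op U)

noncomputable def freeAdj (U : X.ProEt) : freeF (Λ := Λ) U ⊣ secF (Λ := Λ) U :=
  ((constantSheafAdj ((Scheme.ProEt.topology X).over U) (ModuleCat.{u + 1} Λ) Over.mkIdTerminal).comp
    ((Over.forget U).sheafAdjunctionContinuous (ModuleCat.{u + 1} Λ) ((Scheme.ProEt.topology X).over U)
      (Scheme.ProEt.topology X))).ofNatIsoRight (Iso.refl _)

variable (Λ) in
/-- The free sheaf of rank one on `U`. -/
noncomputable abbrev PU (U : X.ProEt) : EtModW.ModP Λ X := (freeF (Λ := Λ) U).obj (ModuleCat.of Λ Λ)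

variable (Λ) in
noncomputable def eU (U : X.ProEt) : (PU Λ U).obj.obj (op U) :=
  ((freeAdj (Λ := Λ) U).unit.app (ModuleCat.of Λ Λ)).hom (1 : Λ)

noncomputable def evalU (U : X.ProEt) (F : EtModW.ModP Λ X) : (PU Λ U ⟶ F) →ₗ[Λ] F.obj.obj (op U) where
  toFun g := (g.hom.app (op U)).hom (eU Λ U)
  map_add' _ _ := rfl
  map_smul' _ _ := rfl

theorem evalU_eq (U : X.ProEt) (F : EtModW.ModP Λ X) (g : PU Λ U ⟶ F) :
    evalU U F g = (((freeAdj (Λ := Λ) U).homEquiv _ _) g).hom (1 : Λ) := by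
  rw [Adjunction.homEquiv_unit]
  rfl

theorem evalU_bijective (U : X.ProEt) (F : EtModW.ModP Λ X) : Function.Bijective (evalU U F) := by
  let e : (ModuleCat.of Λ Λ ⟶ (secF (Λ := Λ) U).obj F) → F.obj.obj (op U) := fun m => m.hom (1 : Λ)
  have he : Function.Bijective e :=
    ⟨fun a b h => ModuleCat.hom_ext (LinearMap.ext_ring h),
      fun x => ⟨ModuleCat.ofHom (LinearMap.toSpanSingleton Λ _ x), one_smul Λ x⟩⟩
  have : ⇑(evalU U F) = e ∘ ((freeAdj (Λ := Λ) U).homEquiv _ _) := funext fun g => evalU_eq U F g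
  rw [this]
  exact he.comp (Equiv.bijective _)

/-- Morphisms out of a free sheaf are sections. -/
noncomputable def secEquiv (U : X.ProEt) (F : EtModW.ModP Λ X) : (PU Λ U ⟶ F) ≃ₗ[Λ] F.obj.obj (op U) :=
  LinearEquiv.ofBijective (evalU U F) (evalU_bijective U F)

theorem secEquiv_comp (U : X.ProEt) {F G : EtModW.ModP Λ X} (g : PU Λ U ⟶ F) (φ : F ⟶ G) :
    secEquiv U G (g ≫ φ) = (φ.hom.app (op U)).hom (secEquiv U F g) := rfl

theorem projective_PU (U : X.ProEt) (hU : ProEtS.IsWC U) : Projective (PU Λ U) where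
  factors {E Y} g e _ := by
    obtain ⟨s, hs⟩ := Groth.Agent.S14017.surjective_of_epi e U hU (secEquiv U Y g)
    refine ⟨(secEquiv U E).symm s, (secEquiv U Y).injective ?_⟩
    rw [secEquiv_comp, LinearEquiv.apply_symm_apply, hs]

theorem exists_wc_cover (U : X.ProEt) :
    ∃ S ∈ Scheme.ProEt.topology X U, ∀ ⦃V : X.ProEt⦄ (g : V ⟶ U), S g →
      ∃ (W : X.ProEt) (a : V ⟶ W) (b : W ⟶ U), a ≫ b = g ∧ ProEtS.IsWC W := by
  obtain ⟨V, g, hg, hV⟩ := exists_cover_of_affineCover U U.left.affineCover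
  refine ⟨_, hg, fun W h hh => ?_⟩
  obtain ⟨_, a, _, ⟨i⟩, rfl⟩ := hh
  haveI := (hV i).1
  exact ⟨V i, a, g i, rfl, isWC_of_decomposable _ (decomposable_of_isWContractible _ (hV i).2)⟩

theorem exists_projective_cover (A : EtModW.ModP Λ X) :
    ∃ (ι : Type (u + 1)) (V : ι → X.ProEt) (π : (∐ fun i => PU Λ (V i)) ⟶ A),
      (∀ i, ProEtS.IsWC (V i)) ∧ Epi π := by
  let ι : Type (u + 1) := Σ V : {V : X.ProEt // ProEtS.IsWC V}, (A.obj.obj (op V.1) : Type (u + 1))
  let π : (∐ fun i : ι => PU Λ i.1.1) ⟶ A := Sigma.desc fun i => (secEquiv i.1.1 A).symm i.2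
  haveI : Sheaf.IsLocallySurjective π := ⟨fun {U} s => by
    obtain ⟨S, hS, hS'⟩ := exists_wc_cover U
    refine (Scheme.ProEt.topology X).superset_covering ?_ hS
    intro V g hg
    obtain ⟨W, a, b, rfl, hW⟩ := hS' g hg
    refine Sieve.downward_closed _ (?_ : (Presheaf.imageSieve π.hom s).arrows b) a
    let i : ι := ⟨⟨W, hW⟩, A.obj.map b.op s⟩
    refine ⟨((Sigma.ι (fun i : ι => PU Λ i.1.1) i).hom.app (op W)).hom (eU Λ W), ?_⟩
    show secEquiv W A (Sigma.ι (fun i : ι => PU Λ i.1.1) i ≫ π) = _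
    rw [Sigma.ι_desc, LinearEquiv.apply_symm_apply]⟩
  exact ⟨ι, fun i => i.1.1, π, fun i => i.1.2,
    (Sheaf.isLocallySurjective_iff_epi' (ModuleCat.{u + 1} Λ) π).mp inferInstance⟩

theorem enough_dc {f : Λ} {F : EtModW.ModP Λ X}
    (h : ∀ U : X.ProEt, ProEtS.IsWC U → DCSec f (F.obj.obj (op U))) (A : EtModW.ModP Λ X) :
    ∃ (P : EtModW.ModP Λ X) (π : P ⟶ A), Epi π ∧ Projective P ∧ DCSec f (P ⟶ F) := by
  obtain ⟨ι, V, π, hV, hπ⟩ := exists_projective_cover A
  haveI := fun i => projective_PU (Λ := Λ) (V i) (hV i)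
  refine ⟨_, π, hπ, inferInstance, ?_⟩
  have hc : ∀ i, DCSec f (PU Λ (V i) ⟶ F) := fun i => DCSec.of_equiv (secEquiv (V i) F).symm (h _ (hV i))
  refine ⟨dcSec_inj_iff.mpr fun x hx => ?_, fun z => ?_⟩
  · refine funext fun j => Sigma.hom_ext _ _ fun i => ?_
    have h0 := dcSec_inj_iff.mp (hc i).1
      (fun j => Linear.leftComp Λ F (Sigma.ι (fun i => PU Λ (V i)) i) (x j))
      (funext fun k => by rw [tel_map, hx]; simp)
    exact (congrFun h0 j).trans (by simp)
  · choose y hy using fun i => (hc i).2 fun j => Sigma.ι (fun i => PU Λ (V i)) i ≫ z j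
    refine ⟨fun j => Sigma.desc fun i => y i j, funext fun k => Sigma.hom_ext _ _ fun i => ?_⟩
    show Linear.leftComp Λ F (Sigma.ι (fun i => PU Λ (V i)) i) (tel f _ _ k) = _
    rw [← tel_map, ← congrFun (hy i) k]
    simp

theorem freeF_map_eval {U : X.ProEt} {M : ModuleCat.{u + 1} Λ} (c : ModuleCat.of Λ Λ ⟶ M)
    {F : EtModW.ModP Λ X} (g : (freeF (Λ := Λ) U).obj M ⟶ F) :
    secEquiv U F ((freeF (Λ := Λ) U).map c ≫ g) = (((freeAdj (Λ := Λ) U).homEquiv _ _) g).hom (c.hom (1 : Λ)) := by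
  show evalU U F _ = _
  rw [evalU_eq, Adjunction.homEquiv_naturality_left]
  rfl

theorem exists_away_lift {f : Λ} {L : Type (u + 1)} [CommRing L] [Algebra Λ L] [IsLocalization.Away f L]
    {M : Type (u + 1)} [AddCommGroup M] [Module Λ M] (y : ℕ → M) (hy : ∀ i, y i = f • y (i + 1)) :
    ∃ ψ : L →ₗ[Λ] M, ∀ i, ψ ((IsLocalization.Away.invSelf f : L) ^ i) = y i := by
  have hsh : ∀ i k, y i = f ^ k • y (i + k) := fun i k =>
    eq_pow_smul_of_tel_eq_zero (funext fun j => sub_eq_zero.mpr (hy j)) i k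
  choose n a hna using fun z : L => IsLocalization.Away.surj f z
  have key : ∀ (z : L) (i : ℕ) (b : Λ), z * algebraMap Λ L f ^ i = algebraMap Λ L b →
      a z • y (n z) = b • y i := by
    intro z i b hz
    have h1 : algebraMap Λ L (f ^ i * a z) = algebraMap Λ L (f ^ n z * b) := by
      rw [map_mul, map_mul, map_pow, map_pow, ← hz, ← hna]; ring
    obtain ⟨⟨_, k, rfl⟩, hk⟩ := (IsLocalization.eq_iff_exists (Submonoid.powers f) L).mp h1
    rw [hsh (n z) (i + k), hsh i (n z + k), smul_smul, smul_smul, show n z + (i + k) = i + (n z + k) by omega,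
      show a z * f ^ (i + k) = b * f ^ (n z + k) by
        simp only [pow_add] at hk ⊢; linear_combination hk]
  refine ⟨{ toFun := fun z => a z • y (n z), map_add' := fun z w => ?_, map_smul' := fun c z => ?_ }, fun i => ?_⟩
  · rw [key (z + w) (n z + n w) (a z * f ^ n w + a w * f ^ n z) (by
      rw [map_add, map_mul, map_mul, map_pow, map_pow, ← hna, ← hna]; ring), add_smul,
      mul_smul, mul_smul, ← hsh (n z) (n w), add_comm (n z) (n w), ← hsh (n w) (n z)]
  · rw [RingHom.id_apply, smul_smul, key (c • z) (n z) (c * a z) (by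
      rw [Algebra.smul_def, map_mul, ← hna]; ring)]
  · show a _ • y (n _) = y i
    rw [key _ i 1 (by rw [← mul_pow, mul_comm, IsLocalization.Away.mul_invSelf, one_pow, map_one]), one_smul]

theorem linearMap_ext_away {f : Λ} {L : Type (u + 1)} [CommRing L] [Algebra Λ L] [IsLocalization.Away f L]
    {M : Type (u + 1)} [AddCommGroup M] [Module Λ M] {p q : L →ₗ[Λ] M}
    (h : ∀ i, p ((IsLocalization.Away.invSelf f : L) ^ i) = q ((IsLocalization.Away.invSelf f : L) ^ i)) :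
    p = q := by
  refine LinearMap.ext fun z => ?_
  obtain ⟨n, a, ha⟩ := IsLocalization.Away.surj f z
  have hz : z = a • (IsLocalization.Away.invSelf f : L) ^ n := by
    rw [Algebra.smul_def, ← ha, mul_assoc, ← mul_pow, IsLocalization.Away.mul_invSelf, one_pow, mul_one]
  rw [hz, map_smul, map_smul, h]

theorem free_away_coker (U : X.ProEt) (f : Λ) (L : Type (u + 1)) [CommRing L] [Algebra Λ L]
    [IsLocalization.Away f L] :
    ∃ (q : Sg.obj (PU Λ U) ⟶ (freeF (Λ := Λ) U).obj (ModuleCat.of Λ L)) (hq : T f (PU Λ U) ≫ q = 0),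
      Nonempty (IsColimit (CokernelCofork.ofπ q hq)) := by
  let c : ℕ → (ModuleCat.of Λ Λ ⟶ ModuleCat.of Λ L) := fun i =>
    ModuleCat.ofHom (LinearMap.toSpanSingleton Λ L ((IsLocalization.Away.invSelf f : L) ^ i))
  let q := sdesc (A := PU Λ U) fun i => (freeF (Λ := Λ) U).map (c i)
  have hc1 : ∀ i, (c i).hom (1 : Λ) = (IsLocalization.Away.invSelf f : L) ^ i := fun i => one_smul Λ _
  have hrel : ∀ i, (IsLocalization.Away.invSelf f : L) ^ i = f • (IsLocalization.Away.invSelf f : L) ^ (i + 1) :=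
    fun i => by rw [Algebra.smul_def, pow_succ', ← mul_assoc, IsLocalization.Away.mul_invSelf, one_mul]
  have hq : T f (PU Λ U) ≫ q = 0 := by
    refine sg_ext fun i => (secEquiv U _).injective ?_
    rw [inc_T_comp, comp_zero, map_zero]
    show secEquiv U _ (inc (PU Λ U) i ≫ q - f • inc (PU Λ U) (i + 1) ≫ q) = 0
    simp only [q, inc_sdesc]
    rw [map_sub, map_smul, ← Category.comp_id ((freeF (Λ := Λ) U).map (c i)), freeF_map_eval,
      ← Category.comp_id ((freeF (Λ := Λ) U).map (c (i + 1))), freeF_map_eval, hc1, hc1,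
      sub_eq_zero]
    exact (congrArg _ (hrel i)).trans (map_smul _ _ _)
  have hg' : ∀ {Z : EtModW.ModP Λ X} (g : Sg.obj (PU Λ U) ⟶ Z), T f (PU Λ U) ≫ g = 0 →
      ∀ i, secEquiv U Z (inc (PU Λ U) i ≫ g) = f • secEquiv U Z (inc (PU Λ U) (i + 1) ≫ g) := fun g hg i => by
    rw [← map_smul]
    refine congrArg _ (sub_eq_zero.mp ?_)
    exact (inc_T_comp f g i).symm.trans (by rw [hg, comp_zero])
  refine ⟨q, hq, ⟨CokernelCofork.IsColimit.ofπ q hq
    (fun {Z} g hg => ((freeAdj (Λ := Λ) U).homEquiv _ _).symm (ModuleCat.ofHom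
      (Classical.choose (exists_away_lift (L := L) (f := f) _ (hg' g hg)))))
    (fun {Z} g hg => sg_ext fun i => (secEquiv U Z).injective ?_)
    (fun {Z} g hg m hm => (((freeAdj (Λ := Λ) U).homEquiv _ _).eq_symm_apply).mpr ?_)⟩⟩
  · rw [inc_sdesc_assoc, freeF_map_eval, Equiv.apply_symm_apply, hc1]
    exact Classical.choose_spec (exists_away_lift (L := L) (f := f) _ (hg' g hg)) i
  · refine ModuleCat.hom_ext (linearMap_ext_away (f := f) (L := L) fun i => ?_)
    rw [← hc1, ← freeF_map_eval, hc1]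
    refine (Eq.trans ?_ (Classical.choose_spec (exists_away_lift (L := L) (f := f) _ (hg' g hg)) i).symm)
    rw [← hm, inc_sdesc_assoc]

theorem dc_of_locExt {I : Ideal Λ} {F : EtModW.ModP Λ X} (h : ProEtDC.IsDCSheaf Λ I F) {f : Λ} (hf : f ∈ I)
    (U : X.ProEt) (hU : ProEtS.IsWC U) : DCSec f (F.obj.obj (op U)) := by
  obtain ⟨q, hq, ⟨hc⟩⟩ := free_away_coker U f (Localization.Away f)
  haveI := projective_PU (Λ := Λ) U hU
  exact DCSec.of_equiv (secEquiv U F) (dcSec_of_subsingleton_ext q hq hc fun n _ => h U f hf n)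

/-- A sheaf is derived complete iff its sections on weakly contractible objects are. -/
theorem isDCSheaf_iff (I : Ideal Λ) (F : EtModW.ModP Λ X) :
    ProEtDC.IsDCSheaf Λ I F ↔ ∀ f ∈ I, ∀ U : X.ProEt, ProEtS.IsWC U → DCSec f (F.obj.obj (op U)) := by
  refine ⟨fun h f hf U hU => dc_of_locExt h hf U hU, fun h U f hf n => ?_⟩
  obtain ⟨q, hq, ⟨hc⟩⟩ := free_away_coker U f (Localization.Away f)
  exact subsingleton_ext_coker (enough_dc (h f hf)) (PU Λ U) q hq hc n

/-- Morphism modules into a derived complete sheaf are derived complete. -/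
theorem dcSec_hom_sheaf {I : Ideal Λ} {F : EtModW.ModP Λ X} (h : ProEtDC.IsDCSheaf Λ I F) {f : Λ} (hf : f ∈ I)
    (A : EtModW.ModP Λ X) : DCSec f (A ⟶ F) :=
  dcSec_hom (enough_dc ((isDCSheaf_iff I F).mp h f hf)) A

theorem isDCSheaf_of_hom (I : Ideal Λ) (F : EtModW.ModP Λ X)
    (h : ∀ f ∈ I, ∀ U : X.ProEt, ProEtS.IsWC U → DCSec f (PU Λ U ⟶ F)) : ProEtDC.IsDCSheaf Λ I F :=
  (isDCSheaf_iff I F).mpr fun f hf U hU => DCSec.of_equiv (secEquiv U F) (h f hf U hU)

theorem isDC_ker {I : Ideal Λ} (S : ShortComplex (EtModW.ModP Λ X)) (hS : S.Exact) [Mono S.f]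
    (h₂ : ProEtDC.IsDCSheaf Λ I S.X₂) (h₃ : ProEtDC.IsDCSheaf Λ I S.X₃) : ProEtDC.IsDCSheaf Λ I S.X₁ :=
  isDCSheaf_of_hom I _ fun f hf U hU => DCSec.of_ker (Linear.rightComp Λ (PU Λ U) S.f)
    (Linear.rightComp Λ (PU Λ U) S.g) (fun x y hxy => (cancel_mono S.f).mp hxy)
    (fun g => ⟨fun hg => ⟨hS.lift g hg, hS.lift_f g hg⟩, by rintro ⟨l, rfl⟩; simp⟩)
    (dcSec_hom_sheaf h₂ hf _) (dcSec_hom_sheaf h₃ hf _).1

theorem exact_rightComp {U : X.ProEt} (hU : ProEtS.IsWC U) (S : ShortComplex (EtModW.ModP Λ X)) (hS : S.Exact) :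
    Function.Exact (Linear.rightComp Λ (PU Λ U) S.f) (Linear.rightComp Λ (PU Λ U) S.g) := fun g => by
  haveI := projective_PU (Λ := Λ) U hU
  exact ⟨fun hg => ⟨hS.liftFromProjective g hg, hS.liftFromProjective_comp g hg⟩, by rintro ⟨l, rfl⟩; simp⟩

theorem isDC_coker {I : Ideal Λ} (S : ShortComplex (EtModW.ModP Λ X)) (hS : S.Exact) [Epi S.g]
    (h₁ : ProEtDC.IsDCSheaf Λ I S.X₁) (h₂ : ProEtDC.IsDCSheaf Λ I S.X₂) : ProEtDC.IsDCSheaf Λ I S.X₃ :=
  isDCSheaf_of_hom I _ fun f hf U hU => by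
    haveI := projective_PU (Λ := Λ) U hU
    exact DCSec.of_coker (Linear.rightComp Λ (PU Λ U) S.f) (Linear.rightComp Λ (PU Λ U) S.g)
      (fun g => ⟨Projective.factorThru g S.g, Projective.factorThru_comp g S.g⟩) (exact_rightComp hU S hS)
      (dcSec_hom_sheaf h₂ hf _) (dcSec_hom_sheaf h₁ hf _).2

theorem isDC_ext {I : Ideal Λ} (S : ShortComplex (EtModW.ModP Λ X)) (hS : S.ShortExact)
    (h₁ : ProEtDC.IsDCSheaf Λ I S.X₁) (h₃ : ProEtDC.IsDCSheaf Λ I S.X₃) : ProEtDC.IsDCSheaf Λ I S.X₂ :=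
  isDCSheaf_of_hom I _ fun f hf U hU => by
    haveI := projective_PU (Λ := Λ) U hU
    haveI := hS.mono_f
    haveI := hS.epi_g
    exact DCSec.of_ext (Linear.rightComp Λ (PU Λ U) S.f) (Linear.rightComp Λ (PU Λ U) S.g)
      (fun x y hxy => (cancel_mono S.f).mp hxy)
      (fun g => ⟨Projective.factorThru g S.g, Projective.factorThru_comp g S.g⟩) (exact_rightComp hU S hS.exact)
      (dcSec_hom_sheaf h₁ hf _) (dcSec_hom_sheaf h₃ hf _)

theorem isDC_limit {I : Ideal Λ} {J : Type} [Category.{0} J] (D : J ⥤ EtModW.ModP Λ X) [HasLimit D]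
    (h : ∀ j, ProEtDC.IsDCSheaf Λ I (D.obj j)) : ProEtDC.IsDCSheaf Λ I (limit D) :=
  isDCSheaf_of_hom I _ fun f hf U _ => by
    have hj := fun j => dcSec_hom_sheaf (h j) hf (PU Λ U)
    refine ⟨dcSec_inj_iff.mpr fun x hx => funext fun i => limit.hom_ext fun j => ?_, fun z => ?_⟩
    · have h0 := dcSec_inj_iff.mp (hj j).1 (fun i => Linear.rightComp Λ (PU Λ U) (limit.π D j) (x i))
        (funext fun k => by rw [tel_map, hx]; simp)
      exact (congrFun h0 i).trans (by simp)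
    · choose y hy using fun j => (hj j).2 fun i => z i ≫ limit.π D j
      have hcomp : ∀ (i : ℕ) {j k : J} (a : j ⟶ k), y j i ≫ D.map a = y k i := fun i j k a => by
        refine congrFun ((hj k).1 (a₁ := fun i => y j i ≫ D.map a) (funext fun m => ?_)) i
        rw [hy k]
        show tel f _ (fun i => Linear.rightComp Λ (PU Λ U) (D.map a) (y j i)) m = _
        rw [tel_map, hy j]
        simp
      refine ⟨fun i => limit.lift D ⟨_, { app := fun j => y j i
                                          naturality := fun j k a => by simpa using (hcomp i a).symm }⟩,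
        funext fun k => limit.hom_ext fun j => ?_⟩
      show Linear.rightComp Λ (PU Λ U) (limit.π D j) (tel f _ _ k) = _
      rw [← tel_map, ← congrFun (hy j) k]
      simp

theorem isDC_of_pow_killed {I : Ideal Λ} (F : EtModW.ModP Λ X)
    (h : ∀ f ∈ I, ∃ n : ℕ, f ^ n • 𝟙 F = 0) : ProEtDC.IsDCSheaf Λ I F :=
  isDCSheaf_of_hom I _ fun f hf U _ => by
    obtain ⟨n, hn⟩ := h f hf
    refine DCSec.of_pow_smul_eq_zero n fun g => ?_
    rw [← Category.comp_id g, ← Linear.comp_smul, hn, comp_zero]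

theorem smulHom_eq (F : EtModW.ModP Λ X) (a : Λ) : ProEtDC.smulHom Λ F a = a • 𝟙 F := rfl

end Groth.Agent.WContr.DC
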