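import Groth.Agent.AnLib.FlatLan
import Groth.Prelude.Def_ProEtS
import Mathlib

/-!
Restriction of injective abelian sheaves from big slice sites.
-/

set_option autoImplicit false
set_option backward.isDefEq.respectTransparency false
set_option backward.isDefEq.respectTransparency.types false
set_option linter.style.haveILetI false

universe u

open CategoryTheory CategoryTheory.Limits AlgebraicGeometry Opposite

namespace Groth.Agent.WContr

section coind

variable {E : Type (u + 1)} [Category.{u} E]

/-- coinduced presheaf -/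
def coindL (A : E → AddCommGrpCat.{u + 1}) : Eᵒᵖ ⥤ AddCommGrpCat.{u + 1} where
  obj W := AddCommGrpCat.of (∀ V : E, (V ⟶ W.unop) → A V)
  map g := AddCommGrpCat.ofHom (AddMonoidHom.mk' (fun φ V f => φ V (f ≫ g.unop)) (fun _ _ => rfl))
  map_id W := by ext φ V f; change φ V (f ≫ 𝟙 _) = φ V f; rw [Category.comp_id]
  map_comp g h := by
    ext φ V f
    change φ V (f ≫ h.unop ≫ g.unop) = φ V ((f ≫ h.unop) ≫ g.unop)
    rw [Category.assoc]

theorem injective_coindL (A : E → AddCommGrpCat.{u + 1}) [∀ V, Injective (A V)] : Injective (coindL A) where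
  factors {P Q} φ m hm := by
    let ev : ∀ V, (coindL A).obj (op V) ⟶ A V := fun V =>
      AddCommGrpCat.ofHom (AddMonoidHom.mk' (fun φ => φ V (𝟙 V)) fun _ _ => rfl)
    let ψ : ∀ V, Q.obj (op V) ⟶ A V := fun V => Injective.factorThru (φ.app (op V) ≫ ev V) (m.app (op V))
    refine ⟨{ app := fun W => AddCommGrpCat.ofHom (AddMonoidHom.mk' (fun q V f => ψ V (Q.map f.op q)) fun a b => ?_)
              naturality := fun W W' g => ?_ }, ?_⟩
    · funext V f
      exact (congr_arg (ψ V) (map_add (Q.map f.op).hom a b)).trans (map_add (ψ V).hom _ _)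
    · ext q; funext V f
      change ψ V (Q.map f.op (Q.map g q)) = ψ V (Q.map (f ≫ g.unop).op q)
      refine congr_arg (ψ V) ?_
      rw [← ConcreteCategory.comp_apply, ← Functor.map_comp]
      rfl
    · ext W p; funext V f
      change ψ V (Q.map f.op (m.app W p)) = φ.app W p V f
      rw [← NatTrans.naturality_apply m f.op p]
      refine (ConcreteCategory.congr_hom
        (Injective.comp_factorThru (φ.app (op V) ≫ ev V) (m.app (op V))) _).trans ?_
      refine (congr_arg (ev V) (NatTrans.naturality_apply φ f.op p)).trans ?_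
      change φ.app W p V (𝟙 V ≫ f) = φ.app W p V f
      rw [Category.id_comp]

/-- the map into a coinduced presheaf of injectives -/
noncomputable def toCoindL (Q : Eᵒᵖ ⥤ AddCommGrpCat.{u + 1}) : Q ⟶ coindL fun V => Injective.under (Q.obj (op V)) where
  app W := AddCommGrpCat.ofHom (AddMonoidHom.mk' (fun s V f => Injective.ι (Q.obj (op V)) (Q.map f.op s))
    fun a b => funext fun V => funext fun f =>
      (congrArg (Injective.ι (Q.obj (op V))).hom (map_add (Q.map f.op).hom a b)).trans (map_add (Injective.ι (Q.obj (op V))).hom _ _))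
  naturality W W' g := by
    ext s; funext V f
    change Injective.ι (Q.obj (op V)) (Q.map f.op (Q.map g s)) = Injective.ι (Q.obj (op V)) (Q.map (f ≫ g.unop).op s)
    refine congrArg (fun z => Injective.ι (Q.obj (op V)) z) ?_
    rw [← ConcreteCategory.comp_apply, ← Functor.map_comp]
    rfl

theorem mono_toCoindL (Q : Eᵒᵖ ⥤ AddCommGrpCat.{u + 1}) : Mono (toCoindL Q) := by
  haveI : ∀ W, Mono ((toCoindL Q).app W) := fun W => (AddCommGrpCat.mono_iff_injective _).mpr fun a b h => by
    have hc : Injective.ι (Q.obj (op W.unop)) (Q.map (𝟙 W.unop).op a) =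
        Injective.ι (Q.obj (op W.unop)) (Q.map (𝟙 W.unop).op b) := congr_fun (congr_fun h W.unop) (𝟙 _)
    have h' := (AddCommGrpCat.mono_iff_injective (Injective.ι (Q.obj (op W.unop)))).mp inferInstance hc
    simpa using h'
  exact NatTrans.mono_of_mono_app _

end coind

section slice

variable {C : Type (u + 1)} [Category.{u} C] {T S : C} (f : T ⟶ S)

/-- transported family of values -/
def liftFam (A : Over S → AddCommGrpCat.{u + 1}) (V : Over T) : AddCommGrpCat.{u + 1} :=
  AddCommGrpCat.of (∀ g : {g : V.left ⟶ S // V.hom ≫ f = g}, A (Over.mk g.1))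

theorem injective_liftFam (A : Over S → AddCommGrpCat.{u + 1}) [∀ V, Injective (A V)] (V : Over T) :
    Injective (liftFam f A V) where
  factors {P Q} φ m hm := by
    let p : ∀ g : {g : V.left ⟶ S // V.hom ≫ f = g}, liftFam f A V ⟶ A (Over.mk g.1) := fun g =>
      AddCommGrpCat.ofHom (AddMonoidHom.mk' (fun x => x g) fun _ _ => rfl)
    refine ⟨AddCommGrpCat.ofHom (AddMonoidHom.mk' (fun q g => Injective.factorThru (φ ≫ p g) m q)
      fun a b => funext fun g => map_add (Injective.factorThru (φ ≫ p g) m).hom a b), ?_⟩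
    ext x; funext g
    exact ConcreteCategory.congr_hom (Injective.comp_factorThru (φ ≫ p g) m) x

theorem injective_map_coindL (A : Over S → AddCommGrpCat.{u + 1}) [∀ V, Injective (A V)] :
    Injective ((Over.map f).op ⋙ coindL A) := by
  haveI : ∀ V, Injective (liftFam f A V) := injective_liftFam f A
  haveI := injective_coindL (liftFam f A)
  refine Retract.injective (Y := coindL (liftFam f A))
    { i :=
        { app := fun W => AddCommGrpCat.ofHom (AddMonoidHom.mk'
            (fun ψ V' m g => ψ (Over.mk g.1) (Over.homMk m.left (by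
              change m.left ≫ W.unop.hom ≫ f = g.1
              rw [← Category.assoc, Over.w m]; exact g.2))) fun _ _ => rfl)
          naturality := fun W W' k => by ext ψ; funext V' m g; rfl }
      r :=
        { app := fun W => AddCommGrpCat.ofHom (AddMonoidHom.mk'
            (fun χ V m => χ (Over.mk (m.left ≫ W.unop.hom)) (Over.homMk m.left rfl) ⟨V.hom, by
              change (m.left ≫ W.unop.hom) ≫ f = V.hom
              rw [Category.assoc]; exact Over.w m⟩) fun _ _ => rfl)
          naturality := fun W W' k => ?_ }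
      retract := ?_ }
  · ext χ; funext V m
    change χ (Over.mk (m.left ≫ W'.unop.hom)) (Over.homMk m.left rfl ≫ k.unop) ⟨V.hom, _⟩ =
      χ (Over.mk ((m.left ≫ k.unop.left) ≫ W.unop.hom)) (Over.homMk (m.left ≫ k.unop.left) rfl) ⟨V.hom, _⟩
    have aux : ∀ (g₁ g₂ : V.left ⟶ T) (_ : g₁ = g₂) (m₁ : Over.mk g₁ ⟶ W.unop) (m₂ : Over.mk g₂ ⟶ W.unop)
        (_ : m₁.left = m₂.left) (h₁ : g₁ ≫ f = V.hom) (h₂ : g₂ ≫ f = V.hom),
        χ (Over.mk g₁) m₁ ⟨V.hom, h₁⟩ = χ (Over.mk g₂) m₂ ⟨V.hom, h₂⟩ := by
      intro g₁ g₂ hg m₁ m₂ hm h₁ h₂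
      subst hg
      obtain rfl : m₁ = m₂ := Over.OverMorphism.ext hm
      rfl
    refine aux _ _ ?_ _ _ ?_ _ _
    · rw [Category.assoc, Over.w k.unop]
    · rfl
  · ext W ψ; funext V m
    rfl

theorem injective_map_restrict (I : (Over S)ᵒᵖ ⥤ AddCommGrpCat.{u + 1}) [Injective I] :
    Injective ((Over.map f).op ⋙ I) := by
  haveI := mono_toCoindL I
  let A := fun V : Over S => Injective.under (I.obj (op V))
  haveI : Injective (coindL A) := injective_coindL A
  haveI := injective_map_coindL f A
  exact Retract.injective (Y := (Over.map f).op ⋙ coindL A)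
    { i := Functor.whiskerLeft _ (toCoindL I)
      r := Functor.whiskerLeft _ (Injective.factorThru (𝟙 I) (toCoindL I))
      retract := by rw [← Functor.whiskerLeft_comp, Injective.comp_factorThru, Functor.whiskerLeft_id'] }

end slice

theorem injective_flat_restrict {C D : Type (u + 1)} [Category.{u} C] [Category.{u} D] (F : C ⥤ D)
    [RepresentablyFlat F] (I : Dᵒᵖ ⥤ AddCommGrpCat.{u + 1}) [Injective I] : Injective (F.op ⋙ I) := by
  haveI := Groth.Agent.AnLib.lan_preservesFiniteLimits F
  haveI : (F.op.lan : (Cᵒᵖ ⥤ AddCommGrpCat.{u + 1}) ⥤ _).PreservesMonomorphisms := inferInstance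
  exact Injective.injective_of_adjoint (F.op.lanAdjunction AddCommGrpCat.{u + 1}) I

theorem injective_restrict_big {T S : Scheme.{u}} (f : T ⟶ S)
    [(Scheme.ProEt.forget T ⋙ Over.map f).IsContinuous (Scheme.ProEt.topology T) (Scheme.proetaleTopology.over S)]
    (I : Sheaf (Scheme.proetaleTopology.over S) AddCommGrpCat.{u + 1})
    (hI : Injective I.obj) :
    Injective (((Scheme.ProEt.forget T ⋙ Over.map f).sheafPushforwardContinuous AddCommGrpCat.{u + 1}
      (Scheme.ProEt.topology T) (Scheme.proetaleTopology.over S)).obj I) := by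
  haveI := hI
  haveI := injective_map_restrict f I.obj
  haveI := injective_flat_restrict (Scheme.ProEt.forget T) ((Over.map f).op ⋙ I.obj)
  refine ⟨fun {A B} g m hm => ?_⟩
  haveI : Mono m.hom := inferInstanceAs (Mono ((sheafToPresheaf _ _).map m))
  exact ⟨⟨Injective.factorThru (J := (Scheme.ProEt.forget T).op ⋙ (Over.map f).op ⋙ I.obj) g.hom m.hom⟩,
    Sheaf.hom_ext (Injective.comp_factorThru (J := (Scheme.ProEt.forget T).op ⋙ (Over.map f).op ⋙ I.obj) g.hom m.hom)⟩

end Groth.Agent.WContr
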