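import Groth.Prelude.Def_PBC
import Groth.Prelude.Def_ProEtW
import Groth.Agent.Hensel.IndEtale
import Groth.Agent.IndEtLib.Cat
import Groth.Agent.IndEtLib.Basic
import Groth.Agent.S0739

/-!
The universal covering step: the product of all faithfully flat presented étale algebras.
-/

set_option autoImplicit false
set_option backward.isDefEq.respectTransparency false
set_option linter.style.haveILetI false

universe u

open CategoryTheory TensorProduct

namespace Groth.Agent.WContr

variable (R : Type u) [CommRing R]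

/-- presented faithfully flat étale algebras -/
abbrev CoverIdx : Type u := {i : Groth.Agent.Hensel.EtFP R // Module.FaithfullyFlat R i.Ring}

/-- their tensor product -/
abbrev Cover : Type u := Groth.Agent.Hensel.AlgProd (fun i : CoverIdx R => i.1)

theorem isIndEtale_cover : EtPBC.IsIndEtale R (Cover R) := by
  haveI : IsLocalization (⊥ : Submonoid (Cover R)) (Cover R) := IsLocalization.self bot_le
  exact Groth.Agent.Hensel.isIndEtale_localization (fun i : CoverIdx R => i.1) ⊥ (Cover R)

theorem exists_algHom_of_isAlgClosed (K : Type u) [Field K] [IsAlgClosed K] [Algebra R K] (E : Type u) [CommRing E]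
    [Algebra R E] [Algebra.WeaklyEtale R E] [Module.FaithfullyFlat R E] : Nonempty (E →ₐ[R] K) := by
  haveI : Nontrivial (K ⊗[R] E) := Module.FaithfullyFlat.rTensor_nontrivial R E K
  obtain ⟨ψ⟩ := Groth.Agent.S0739.exists_section_spec K (K ⊗[R] E)
  exact ⟨(ψ.restrictScalars R).comp (Algebra.TensorProduct.includeRight : E →ₐ[R] K ⊗[R] E)⟩

theorem faithfullyFlat_cover : Module.FaithfullyFlat R (Cover R) := by
  classical
  refine Module.FaithfullyFlat.of_comap_surjective fun p => ?_
  let K := AlgebraicClosure p.asIdeal.ResidueField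
  have hi : ∀ i : CoverIdx R, ∃ x : Fin i.1.n → K, i.1.HasPt x := fun i => by
    haveI := i.2
    obtain ⟨ψ⟩ := exists_algHom_of_isAlgClosed R K i.1.Ring
    exact ⟨_, i.1.hasPt_pt.map ψ⟩
  choose x hx using hi
  let φ : Cover R →ₐ[R] K := Groth.Agent.Hensel.algLift x hx
  refine ⟨⟨RingHom.ker φ.toRingHom, RingHom.ker_isPrime φ.toRingHom⟩, PrimeSpectrum.ext (Ideal.ext fun r => ?_)⟩
  simp only [PrimeSpectrum.comap_asIdeal, Ideal.mem_comap, RingHom.mem_ker]
  change φ (algebraMap R (Cover R) r) = 0 ↔ _
  rw [φ.commutes, IsScalarTower.algebraMap_apply R p.asIdeal.ResidueField K,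
    map_eq_zero_iff _ (algebraMap p.asIdeal.ResidueField K).injective, Ideal.algebraMap_residueField_eq_zero]

/-- Every faithfully flat étale algebra maps to the cover. -/
theorem exists_algHom_cover (E : Type u) [CommRing E] [Algebra R E] [Algebra.Etale R E]
    (hE : Module.FaithfullyFlat R E) : Nonempty (E →ₐ[R] Cover R) := by
  obtain ⟨i, ⟨e⟩⟩ := Groth.Agent.Hensel.EtFP.exists_algEquiv (A := R) E
  haveI := hE
  let i' : CoverIdx R := ⟨i, Module.FaithfullyFlat.of_linearEquiv R E e.toLinearEquiv⟩
  exact ⟨(Groth.Agent.Hensel.algIncl (fun i : CoverIdx R => i.1) i').comp e.symm.toAlgHom⟩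

theorem isIndEtale_self : EtPBC.IsIndEtale R R := by
  refine Groth.Agent.Hensel.isIndEtale_of_directed (fun _ : PUnit.{u + 1} => R) (fun _ => inferInstance)
    (fun _ _ _ => AlgHom.id R R) (fun _ _ => rfl) (fun _ _ _ _ _ _ => rfl) (fun _ => AlgHom.id R R)
    (fun _ _ _ _ => rfl) (fun b => ⟨PUnit.unit, b, rfl⟩) fun _ x hx => ⟨PUnit.unit, le_rfl, hx⟩

end Groth.Agent.WContr
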