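import Mathlib

/-!
Completions of flat-like modules: passing from `J` to `J + (f)` changes kernel and cokernel only by
modules on which `f` is bijective.
-/

set_option autoImplicit false
set_option linter.unusedSectionVars false

namespace Groth.Agent.WContr.DC

variable {Λ : Type*} [CommRing Λ]

/-- Colons and intersections of ideals commute with extension to `C`. -/
structure FlatLike (Λ : Type*) [CommRing Λ] (C : Type*) [AddCommGroup C] [Module Λ C] : Prop where
  colon : ∀ (𝔞 : Ideal Λ) (g : Λ) (x : C), g • x ∈ 𝔞 • (⊤ : Submodule Λ C) →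
    x ∈ (Submodule.comap (LinearMap.lsmul Λ Λ g) 𝔞 : Ideal Λ) • (⊤ : Submodule Λ C)
  inter : ∀ (𝔞 𝔟 : Ideal Λ) (x : C), x ∈ 𝔞 • (⊤ : Submodule Λ C) → x ∈ 𝔟 • (⊤ : Submodule Λ C) →
    x ∈ (𝔞 ⊓ 𝔟) • (⊤ : Submodule Λ C)

section Ideals

variable [IsNoetherianRing Λ]

theorem exists_artinRees (J N : Ideal Λ) : ∃ c : ℕ, ∀ n, J ^ (n + c) ⊓ N ≤ J ^ n * N := by
  obtain ⟨c, hc⟩ := Ideal.exists_pow_inf_eq_pow_smul J N
  refine ⟨c, fun n => ?_⟩
  have h := hc (n + c) (Nat.le_add_left c n)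
  simp only [smul_eq_mul, Ideal.mul_top] at h
  rw [h, Nat.add_sub_cancel]
  exact Ideal.mul_mono le_rfl inf_le_right

theorem exists_colon_le (J : Ideal Λ) (g : Λ) : ∃ c : ℕ, ∀ n,
    (Submodule.comap (LinearMap.lsmul Λ Λ g) (J ^ (n + c)) : Ideal Λ) ≤
      Submodule.comap (LinearMap.lsmul Λ Λ g) ⊥ ⊔ J ^ n := by
  obtain ⟨c, hc⟩ := exists_artinRees J (Ideal.span {g})
  refine ⟨c, fun n x hx => ?_⟩
  obtain ⟨y, hy, hxy⟩ := Ideal.mem_mul_span_singleton.mp
    (hc n ⟨hx, Ideal.mem_span_singleton.mpr (dvd_mul_right g x)⟩)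
  refine Submodule.mem_sup.mpr ⟨x - y, ?_, y, hy, sub_add_cancel x y⟩
  show g * (x - y) = 0
  rw [mul_sub, mul_comm g y, hxy]
  simp

end Ideals

theorem sup_pow_succ_le (J : Ideal Λ) (f : Λ) (n : ℕ) :
    (J ⊔ Ideal.span {f}) ^ (n + 1) ≤ J ^ (n + 1) ⊔ Ideal.span {f} * (J ⊔ Ideal.span {f}) ^ n := by
  induction n with
  | zero => simp
  | succ n ih =>
    calc (J ⊔ Ideal.span {f}) ^ (n + 2)
        = J * (J ⊔ Ideal.span {f}) ^ (n + 1) ⊔ Ideal.span {f} * (J ⊔ Ideal.span {f}) ^ (n + 1) := by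
          rw [← Ideal.sup_mul, ← pow_succ']
      _ ≤ _ := by
        refine sup_le ((Ideal.mul_mono le_rfl ih).trans ?_) le_sup_right
        rw [Ideal.mul_sup, ← pow_succ', mul_left_comm]
        refine sup_le le_sup_left (le_sup_of_le_right (Ideal.mul_mono le_rfl ?_))
        rw [pow_succ']
        exact Ideal.mul_mono le_sup_left le_rfl

variable {C : Type*} [AddCommGroup C] [Module Λ C]

/-- `J ^ n • C`. -/
abbrev St (C : Type*) [AddCommGroup C] [Module Λ C] (J : Ideal Λ) (n : ℕ) : Submodule Λ C := J ^ n • ⊤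

theorem st_anti (J : Ideal Λ) {n m : ℕ} (h : n ≤ m) : St C J m ≤ St C J n :=
  Submodule.smul_mono_left (Ideal.pow_le_pow_right h)

theorem cauchy_mem (J : Ideal Λ) (b : ℕ → C) (h : ∀ n, b (n + 1) - b n ∈ St C J n) (n k : ℕ) :
    b (n + k) - b n ∈ St C J n := by
  induction k with
  | zero => simp
  | succ k ih =>
    rw [← add_assoc, show b (n + k + 1) - b n = (b (n + k + 1) - b (n + k)) + (b (n + k) - b n) by abel]
    exact Submodule.add_mem _ (st_anti J (Nat.le_add_right n k) (h _)) ih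

theorem mem_span_singleton_mul_top {f : Λ} {K : Ideal Λ} {x : C} (h : x ∈ (Ideal.span {f} * K) • (⊤ : Submodule Λ C)) :
    ∃ k ∈ K • (⊤ : Submodule Λ C), f • k = x := by
  rw [mul_smul, Submodule.ideal_span_singleton_smul] at h
  exact Submodule.mem_smul_pointwise_iff_exists _ _ _ |>.mp h

section AR

variable [IsNoetherianRing Λ] (hC : FlatLike Λ C)

include hC

theorem exists_colon_split (J : Ideal Λ) (g : Λ) : ∃ c : ℕ, ∀ n (x : C), g • x ∈ St C J (n + c) →
    ∃ t : C, g • t = 0 ∧ x - t ∈ St C J n := by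
  obtain ⟨c, hc⟩ := exists_colon_le J g
  refine ⟨c, fun n x hx => ?_⟩
  have h := Submodule.smul_mono_left (hc n) (hC.colon _ g x hx)
  rw [Submodule.sup_smul] at h
  obtain ⟨t, ht, u, hu, rfl⟩ := Submodule.mem_sup.mp h
  refine ⟨t, ?_, by simpa using hu⟩
  exact Submodule.smul_induction_on ht (fun a ha m _ => by rw [smul_smul, show g * a = 0 from ha, zero_smul])
    (fun p q hp hq => by rw [smul_add, hp, hq, add_zero])

theorem exists_torsion_bound (f : Λ) : ∃ e : ℕ, ∀ m (x : C), f ^ m • x = 0 → f ^ e • x = 0 := by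
  let K : ℕ →o Ideal Λ := ⟨fun m => Submodule.comap (LinearMap.lsmul Λ Λ (f ^ m)) ⊥, fun m n hmn x hx => by
    have hx' : f ^ m * x = 0 := hx
    show f ^ n * x = 0
    rw [← Nat.sub_add_cancel hmn, pow_add, mul_assoc, hx', mul_zero]⟩
  obtain ⟨e, he⟩ := monotone_stabilizes_iff_noetherian.mpr ‹IsNoetherianRing Λ› K
  refine ⟨e, fun m x hx => ?_⟩
  have hle : K m ≤ K e := by
    rcases le_total m e with h | h
    · exact K.mono h
    · exact (he m h).ge
  have := Submodule.smul_mono_left hle (hC.colon ⊥ (f ^ m) x (by rw [hx]; exact Submodule.zero_mem _))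
  exact Submodule.smul_induction_on this (fun a ha m _ => by rw [smul_smul, show f ^ e * a = 0 from ha, zero_smul])
    (fun p q hp hq => by rw [smul_add, hp, hq, add_zero])

theorem exists_torsion_inter (J : Ideal Λ) (f : Λ) : ∃ c : ℕ, ∀ n (x : C), f • x = 0 →
    x ∈ St C (J ⊔ Ideal.span {f}) (n + c) → x ∈ St C J n := by
  obtain ⟨c, hc⟩ := exists_artinRees (J ⊔ Ideal.span {f}) (Submodule.comap (LinearMap.lsmul Λ Λ f) ⊥ : Ideal Λ)
  refine ⟨c, fun n x hx hxn => ?_⟩
  have h := hC.inter _ _ x hxn (hC.colon ⊥ f x (by rw [hx]; exact Submodule.zero_mem _))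
  refine Submodule.smul_mono_left ((hc n).trans ?_) h
  clear h hxn
  induction n with
  | zero => simp
  | succ n ih =>
    rw [pow_succ', mul_assoc, pow_succ']
    refine (Ideal.mul_mono le_rfl (le_inf ih Ideal.mul_le_right)).trans ?_
    rw [Ideal.sup_mul]
    refine sup_le (Ideal.mul_mono le_rfl inf_le_left) ?_
    rw [Ideal.mul_le]
    intro p hp q hq
    obtain ⟨c, rfl⟩ := Ideal.mem_span_singleton.mp hp
    have hq' : f * q = 0 := hq.2
    rw [mul_right_comm, hq', zero_mul]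
    exact Submodule.zero_mem _

end AR

/-- `M` is the `J`-adic completion of `C`. -/
structure Hat (C : Type*) [AddCommGroup C] [Module Λ C] (J : Ideal Λ) (M : Type*) [AddCommGroup M]
    [Module Λ M] where
  p : ∀ n, M →ₗ[Λ] C ⧸ St C J n
  inj : ∀ x, (∀ n, p n x = 0) → x = 0
  surj : ∀ b : ℕ → C, (∀ n, b (n + 1) - b n ∈ St C J n) → ∃ x, ∀ n, p n x = Submodule.Quotient.mk (b n)
  compat : ∀ n x b, p (n + 1) x = Submodule.Quotient.mk b → p n x = Submodule.Quotient.mk b

variable {M M' : Type*} [AddCommGroup M] [Module Λ M] [AddCommGroup M'] [Module Λ M']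

theorem Hat.exists_rep {J : Ideal Λ} (H : Hat C J M) (x : M) : ∃ b : ℕ → C,
    (∀ n, b (n + 1) - b n ∈ St C J n) ∧ ∀ n, H.p n x = Submodule.Quotient.mk (b n) := by
  choose b hb using fun n => Submodule.Quotient.mk_surjective _ (H.p n x)
  exact ⟨b, fun n => (Submodule.Quotient.eq _).mp ((H.compat n x _ (hb (n + 1)).symm).symm.trans (hb n).symm),
    fun n => (hb n).symm⟩

theorem Hat.closed [IsNoetherianRing Λ] (hC : FlatLike Λ C) {J : Ideal Λ} (H : Hat C J M) (g : Λ) (x : M)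
    (b : ℕ → C) (hb : ∀ n, H.p n x = Submodule.Quotient.mk (b n)) (h : ∀ k, ∃ z, g • z - b k ∈ St C J k) :
    ∃ y, g • y = x := by
  have hcau : ∀ n, b (n + 1) - b n ∈ St C J n := fun n =>
    (Submodule.Quotient.eq _).mp ((H.compat n x _ (hb (n + 1))).symm.trans (hb n))
  obtain ⟨c, hc⟩ := exists_colon_split hC J g
  choose z hz using h
  choose t ht htn using fun n => hc n (z (n + c + 1) - z (n + c)) (by
    have h1 := Submodule.sub_mem _ (Submodule.add_mem _ (st_anti J (Nat.le_succ _) (hz (n + c + 1))) (hcau (n + c)))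
      (hz (n + c))
    convert h1 using 1
    rw [smul_sub]; abel)
  let y : ℕ → C := fun n => z (n + c) - ∑ i ∈ Finset.range n, t i
  obtain ⟨w, hw⟩ := H.surj y fun n => by
    have : y (n + 1) - y n = z (n + c + 1) - z (n + c) - t n := by
      simp only [y, Finset.sum_range_succ, show n + 1 + c = n + c + 1 by omega]; abel
    rw [this]; exact htn n
  refine ⟨w, sub_eq_zero.mp (H.inj _ fun n => ?_)⟩
  rw [map_sub, map_smul, hw, hb, ← Submodule.Quotient.mk_smul, ← Submodule.Quotient.mk_sub,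
    Submodule.Quotient.mk_eq_zero]
  have : g • y n = g • z (n + c) := by
    simp only [y, smul_sub, Finset.smul_sum, ht]; simp
  rw [this, show g • z (n + c) - b n = (g • z (n + c) - b (n + c)) + (b (n + c) - b n) by abel]
  exact Submodule.add_mem _ (st_anti J (Nat.le_add_right n c) (hz _)) (cauchy_mem J b hcau n c)

theorem Hat.torsion_bound [IsNoetherianRing Λ] (hC : FlatLike Λ C) {J : Ideal Λ} (H : Hat C J M) (f : Λ) :
    ∃ e : ℕ, ∀ m (x : M), f ^ m • x = 0 → f ^ e • x = 0 := by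
  obtain ⟨e, he⟩ := exists_torsion_bound hC f
  refine ⟨e, fun m x hx => H.inj _ fun n => ?_⟩
  obtain ⟨b, hcau, hb⟩ := H.exists_rep x
  obtain ⟨c, hc⟩ := exists_colon_split hC J (f ^ m)
  obtain ⟨t, ht, htn⟩ := hc n (b (n + c)) (by
    rw [← Submodule.Quotient.mk_eq_zero, Submodule.Quotient.mk_smul, ← hb, ← map_smul, hx, map_zero])
  rw [map_smul, hb, ← Submodule.Quotient.mk_smul, Submodule.Quotient.mk_eq_zero,
    show f ^ e • b n = f ^ e • ((b (n + c) - t) - (b (n + c) - b n)) + f ^ e • t by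
      rw [← smul_add]; congr 1; abel, he m t ht, add_zero]
  exact Submodule.smul_mem _ _ (Submodule.sub_mem _ htn (cauchy_mem J b hcau n c))

theorem exists_split_pow (J : Ideal Λ) (f : Λ) (k m : ℕ) (x : C) (hx : x ∈ St C (J ⊔ Ideal.span {f}) (k + m)) :
    ∃ z, f ^ m • z - x ∈ St C J k := by
  have h := Submodule.smul_mono_left (N := (⊤ : Submodule Λ C)) Ideal.sup_pow_add_le_pow_sup_pow hx
  rw [Submodule.sup_smul, Ideal.span_singleton_pow] at h
  obtain ⟨u, hu, v, hv, rfl⟩ := Submodule.mem_sup.mp h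
  rw [Submodule.ideal_span_singleton_smul] at hv
  obtain ⟨z, -, rfl⟩ := (Submodule.mem_smul_pointwise_iff_exists _ _ _).mp hv
  exact ⟨z, by rw [show f ^ m • z - (u + f ^ m • z) = -u by abel]; exact Submodule.neg_mem _ hu⟩

variable [IsNoetherianRing Λ] (hC : FlatLike Λ C) {J : Ideal Λ} {f : Λ}
  (H : Hat C J M) (H' : Hat C (J ⊔ Ideal.span {f}) M') (φ : M →ₗ[Λ] M')
  (hφ : ∀ n x b, H.p n x = Submodule.Quotient.mk b → H'.p n (φ x) = Submodule.Quotient.mk b)

include hC hφ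

theorem ker_divisible (x : M) (hx : φ x = 0) (m : ℕ) : ∃ y, f ^ m • y = x := by
  obtain ⟨b, hcau, hb⟩ := H.exists_rep x
  refine H.closed hC (f ^ m) x b hb fun k => ?_
  have h0 : b (k + m) ∈ St C (J ⊔ Ideal.span {f}) (k + m) := by
    rw [← Submodule.Quotient.mk_eq_zero, ← hφ _ x _ (hb _), hx, map_zero]
  obtain ⟨z, hz⟩ := exists_split_pow J f k m _ h0
  exact ⟨z, by
    rw [show f ^ m • z - b k = (f ^ m • z - b (k + m)) + (b (k + m) - b k) by abel]
    exact Submodule.add_mem _ hz (cauchy_mem J b hcau k m)⟩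

theorem map_pow_smul_eq_zero (x : M) (h : ∀ m, ∃ y, f ^ m • y = x) : φ x = 0 := by
  refine H'.inj _ fun n => ?_
  obtain ⟨y, rfl⟩ := h n
  obtain ⟨b, hb⟩ := Submodule.Quotient.mk_surjective _ (H.p n y)
  rw [map_smul, map_smul, hφ n y b hb.symm, ← Submodule.Quotient.mk_smul, Submodule.Quotient.mk_eq_zero]
  exact Submodule.smul_mem_smul (Ideal.pow_mem_pow (Ideal.mem_sup_right (Ideal.mem_span_singleton_self f)) n)
    Submodule.mem_top

theorem ker_smul_injective (x : M) (hx : φ x = 0) (h : f • x = 0) : x = 0 := by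
  obtain ⟨e, he⟩ := H.torsion_bound hC f
  obtain ⟨y, rfl⟩ := ker_divisible hC H H' φ hφ x hx e
  exact he (e + 1) y (by rw [pow_succ', mul_smul, h])

theorem ker_smul_surjective (x : M) (hx : φ x = 0) : ∃ w, φ w = 0 ∧ f • w = x := by
  obtain ⟨e, he⟩ := H.torsion_bound hC f
  obtain ⟨y, hy⟩ := ker_divisible hC H H' φ hφ x hx (e + 1)
  refine ⟨f ^ e • y, map_pow_smul_eq_zero hC H H' φ hφ _ fun m => ?_, by rw [smul_smul, ← pow_succ']; exact hy⟩
  obtain ⟨y', hy'⟩ := ker_divisible hC H H' φ hφ x hx (e + 1 + m)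
  refine ⟨f ^ e • y', ?_⟩
  have h0 : f ^ (e + 1) • (y - f ^ m • y') = 0 := by
    rw [smul_sub, smul_smul, ← pow_add, hy, hy', sub_self]
  have h1 := he (e + 1) _ h0
  rw [smul_sub, sub_eq_zero] at h1
  rw [h1, smul_comm]

theorem coker_smul_surjective (t : M') : ∃ x s, φ x + f • s = t := by
  obtain ⟨c, hcau, hc⟩ := H'.exists_rep t
  choose u hu v hv huv using fun n => Submodule.mem_sup.mp
    (show c (n + 2) - c (n + 1) ∈ St C J (n + 1) ⊔ (Ideal.span {f} * (J ⊔ Ideal.span {f}) ^ n) • ⊤ by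
      rw [St, ← Submodule.sup_smul]
      exact Submodule.smul_mono_left (sup_pow_succ_le J f n) (hcau (n + 1)))
  choose e he hev using fun n => mem_span_singleton_mul_top (hv n)
  obtain ⟨x, hx⟩ := H.surj (fun n => c 1 + ∑ i ∈ Finset.range n, u i) fun n => by
    rw [show c 1 + ∑ i ∈ Finset.range (n + 1), u i - (c 1 + ∑ i ∈ Finset.range n, u i) = u n by
      rw [Finset.sum_range_succ]; abel]
    exact st_anti J (Nat.le_succ n) (hu n)
  obtain ⟨s, hs⟩ := H'.surj (fun n => ∑ i ∈ Finset.range n, e i) fun n => by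
    rw [Finset.sum_range_succ, add_sub_cancel_left]; exact he n
  refine ⟨x, s, sub_eq_zero.mp (H'.inj _ fun n => ?_)⟩
  have hsum : c 1 + ∑ i ∈ Finset.range n, u i + f • ∑ i ∈ Finset.range n, e i = c (n + 1) := by
    rw [Finset.smul_sum, add_assoc, ← Finset.sum_add_distrib,
      show ∑ i ∈ Finset.range n, (u i + f • e i) = ∑ i ∈ Finset.range n, (c (i + 1 + 1) - c (i + 1)) from
        Finset.sum_congr rfl fun i _ => by rw [hev, huv], Finset.sum_range_sub (fun i => c (i + 1))]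
    abel
  rw [map_sub, map_add, map_smul, hφ n x _ (hx n), hs, hc, ← Submodule.Quotient.mk_smul,
    ← Submodule.Quotient.mk_add, ← Submodule.Quotient.mk_sub, Submodule.Quotient.mk_eq_zero, hsum]
  exact hcau n

theorem coker_smul_injective (t : M') (x : M) (h : f • t = φ x) : ∃ y, φ y = t := by
  obtain ⟨b, hbcau, hb⟩ := H.exists_rep x
  obtain ⟨c, hcau, hc⟩ := H'.exists_rep t
  obtain ⟨y, rfl⟩ := H.closed hC f x b hb fun k => by
    have h0 : f • c (k + 1) - b (k + 1) ∈ St C (J ⊔ Ideal.span {f}) (k + 1) := by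
      rw [← Submodule.Quotient.mk_eq_zero, Submodule.Quotient.mk_sub, Submodule.Quotient.mk_smul, ← hc,
        ← hφ _ x _ (hb _), ← map_smul, h, sub_self]
    obtain ⟨z, hz⟩ := exists_split_pow J f k 1 _ h0
    rw [pow_one] at hz
    refine ⟨c (k + 1) - z, ?_⟩
    rw [show f • (c (k + 1) - z) - b k = -(f • z - (f • c (k + 1) - b (k + 1))) + (b (k + 1) - b k) by
      rw [smul_sub]; abel]
    exact Submodule.add_mem _ (Submodule.neg_mem _ hz) (hbcau k)
  have hu : f • (t - φ y) = 0 := by rw [smul_sub, h, map_smul, sub_self]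
  obtain ⟨d, hdcau, hd⟩ := H'.exists_rep (t - φ y)
  obtain ⟨c₁, hc₁⟩ := exists_colon_split hC (J ⊔ Ideal.span {f}) f
  obtain ⟨c₂, hc₂⟩ := exists_torsion_inter hC J f
  choose s hs hsn using fun n => hc₁ n (d (n + c₁)) (by
    rw [← Submodule.Quotient.mk_eq_zero, Submodule.Quotient.mk_smul, ← hd, ← map_smul, hu, map_zero])
  obtain ⟨y', hy'⟩ := H.surj (fun n => s (n + c₂)) fun n => hc₂ n _ (by rw [smul_sub, hs, hs, sub_self]) (by
    have h1 := Submodule.sub_mem _ (Submodule.add_mem _ (st_anti (J ⊔ Ideal.span {f}) (Nat.le_refl _) (hsn (n + c₂)))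
      (st_anti (C := C) (J ⊔ Ideal.span {f}) (Nat.le_add_right (n + c₂) c₁) (hdcau (n + c₂ + c₁))))
      (st_anti (C := C) (J ⊔ Ideal.span {f}) (Nat.le_succ _) (hsn (n + c₂ + 1)))
    convert h1 using 1
    rw [show n + 1 + c₂ = n + c₂ + 1 by omega, show n + c₂ + 1 + c₁ = n + c₂ + c₁ + 1 by omega]
    abel)
  refine ⟨y' + y, ?_⟩
  rw [map_add, ← eq_sub_iff_add_eq]
  refine sub_eq_zero.mp (H'.inj _ fun n => ?_)
  rw [map_sub, hφ n y' _ (hy' n), hd, ← Submodule.Quotient.mk_sub, Submodule.Quotient.mk_eq_zero,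
    show s (n + c₂) - d n = -(d (n + c₂ + c₁) - s (n + c₂)) + (d (n + (c₂ + c₁)) - d n) by
      rw [← add_assoc]; abel]
  exact Submodule.add_mem _ (Submodule.neg_mem _ (st_anti _ (Nat.le_add_right n c₂) (hsn _)))
    (cauchy_mem _ d hdcau n _)

end Groth.Agent.WContr.DC
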