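import Groth.Agent.WContr.DCSite
import Groth.Agent.WContr.DCHat
import Mathlib

/-!
Morphisms from a constant sheaf to a derived complete sheaf extend to the completed constant sheaf.
-/

set_option autoImplicit false
set_option backward.isDefEq.respectTransparency false
set_option backward.isDefEq.respectTransparency.types false
set_option linter.style.haveILetI false
set_option maxHeartbeats 800000
set_option synthInstance.maxHeartbeats 200000

universe u

open CategoryTheory CategoryTheory.Limits AlgebraicGeometry Opposite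

namespace Groth.Agent.WContr.DC

variable {Λ : Type (u + 1)} [CommRing Λ] {X : Scheme.{u}}

theorem isTerminal_topP (X : Scheme.{u}) : Nonempty (IsTerminal (ProEtS.topP X)) :=
  ⟨IsTerminal.ofUniqueHom (fun W => MorphismProperty.Over.homMk W.hom (Category.comp_id _))
    (fun _ m => MorphismProperty.Over.Hom.ext ((Category.comp_id _).symm.trans (MorphismProperty.Over.w m)))⟩

variable (Λ X) in
/-- The constant sheaf functor. -/
noncomputable abbrev cst : ModuleCat.{u + 1} Λ ⥤ EtModW.ModP Λ X :=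
  constantSheaf (Scheme.ProEt.topology X) (ModuleCat.{u + 1} Λ)

theorem cst_map_smul {M N : ModuleCat.{u + 1} Λ} (a : Λ) (m : M ⟶ N) :
    (cst Λ X).map (a • m) = a • (cst Λ X).map m := by
  let adj := constantSheafAdj (Scheme.ProEt.topology X) (ModuleCat.{u + 1} Λ) (isTerminal_topP X).some
  have h : ∀ k : M ⟶ N, adj.homEquiv _ _ ((cst Λ X).map k) = k ≫ adj.unit.app N := fun k => by
    rw [Adjunction.homEquiv_unit]; exact (adj.unit.naturality k).symm
  apply (adj.homEquiv _ _).injective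
  rw [h, Adjunction.homEquiv_unit, Linear.smul_comp, ← h, Adjunction.homEquiv_unit]
  rfl

theorem exact_secF {U : X.ProEt} (hU : ProEtS.IsWC U) (S : ShortComplex (EtModW.ModP Λ X)) (hS : S.Exact) :
    (S.map (secF (Λ := Λ) U)).Exact := by
  rw [ShortComplex.moduleCat_exact_iff]
  intro x hx
  obtain ⟨g, rfl⟩ := (secEquiv U S.X₂).surjective x
  obtain ⟨k, hk⟩ := (exact_rightComp hU S hS g).mp ((secEquiv U S.X₃).injective (by
    rw [map_zero]; exact (secEquiv_comp U g S.g).trans hx))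
  exact ⟨secEquiv U S.X₁ k, ((secEquiv_comp U k S.f).symm.trans (congrArg (secEquiv U S.X₂) hk))⟩

variable (Λ) in
/-- Sections of constant sheaves. -/
noncomputable abbrev cs (U : X.ProEt) : ModuleCat.{u + 1} Λ ⥤ ModuleCat.{u + 1} Λ :=
  cst Λ X ⋙ secF (Λ := Λ) U

theorem cs_map_smul (U : X.ProEt) {M N : ModuleCat.{u + 1} Λ} (a : Λ) (m : M ⟶ N) :
    (cs Λ U).map (a • m) = a • (cs Λ U).map m := by
  show (secF (Λ := Λ) U).map ((cst Λ X).map (a • m)) = _
  rw [cst_map_smul]
  rfl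

instance : PreservesFiniteLimits (cst Λ X) := by
  have : PreservesFiniteLimits (presheafToSheaf (Scheme.ProEt.topology X) (ModuleCat.{u + 1} Λ)) := inferInstance
  exact comp_preservesFiniteLimits _ _

instance : (cst Λ X).IsLeftAdjoint :=
  (constantSheafAdj (Scheme.ProEt.topology X) (ModuleCat.{u + 1} Λ) (isTerminal_topP X).some).isLeftAdjoint

instance : (cst Λ X).Additive := Functor.additive_of_preserves_binary_products _

theorem cs_exact {U : X.ProEt} (hU : ProEtS.IsWC U) (S : ShortComplex (ModuleCat.{u + 1} Λ)) (hS : S.Exact) :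
    (S.map (cs Λ U)).Exact := by
  haveI : PreservesFiniteColimits (cst Λ X) := inferInstance
  haveI : (cst Λ X).PreservesHomology := inferInstance
  exact exact_secF hU _ (hS.map (cst Λ X))

theorem cs_injective {U : X.ProEt} {M N : ModuleCat.{u + 1} Λ} (g : M ⟶ N) [Mono g] :
    Function.Injective ((cs Λ U).map g).hom := fun x y h => by
  obtain ⟨a, rfl⟩ := (secEquiv U ((cst Λ X).obj M)).surjective x
  obtain ⟨b, rfl⟩ := (secEquiv U ((cst Λ X).obj M)).surjective y
  haveI : Mono ((cst Λ X).map g) := inferInstance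
  have h' : a ≫ (cst Λ X).map g = b ≫ (cst Λ X).map g := (secEquiv U _).injective h
  rw [(cancel_mono _).mp h']

theorem cs_surjective {U : X.ProEt} (hU : ProEtS.IsWC U) {M N : ModuleCat.{u + 1} Λ} (g : M ⟶ N) [Epi g] :
    Function.Surjective ((cs Λ U).map g).hom := by
  haveI : Epi ((cst Λ X).map g) := inferInstance
  exact Groth.Agent.S14017.surjective_of_epi _ U hU

variable (Λ) in
/-- Sections of the constant sheaf `Λ`. -/
abbrev CU (U : X.ProEt) : Type (u + 1) := (cs Λ U).obj (ModuleCat.of Λ Λ)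

/-- Reduction of constant sections modulo an ideal. -/
noncomputable abbrev red (U : X.ProEt) (N : Submodule Λ Λ) :
    CU Λ U →ₗ[Λ] (cs Λ U).obj (ModuleCat.of Λ (Λ ⧸ N)) :=
  ((cs Λ U).map (ModuleCat.ofHom N.mkQ)).hom

theorem red_eq_zero_of_mem (U : X.ProEt) (N : Submodule Λ Λ) (x : CU Λ U)
    (hx : x ∈ (N : Ideal Λ) • (⊤ : Submodule Λ (CU Λ U))) : red U N x = 0 :=
  Submodule.smul_induction_on hx (fun a ha m _ => by
      rw [map_smul]
      have : a • ModuleCat.ofHom N.mkQ = 0 := ModuleCat.hom_ext (LinearMap.ext fun z => by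
        show a • N.mkQ z = 0
        rw [← map_smul]
        exact (Submodule.Quotient.mk_eq_zero N).mpr (Ideal.mul_mem_right z (N : Ideal Λ) ha))
      have h := congrArg (fun g => ((cs Λ U).map g).hom m) this
      simp only [cs_map_smul] at h
      exact h.trans (by rw [Functor.map_zero]; rfl))
    (fun p q hp hq => by rw [map_add, hp, hq, add_zero])

theorem red_eq_zero_iff [IsNoetherianRing Λ] {U : X.ProEt} (hU : ProEtS.IsWC U) (N : Submodule Λ Λ)
    (x : CU Λ U) : red U N x = 0 ↔ x ∈ (N : Ideal Λ) • (⊤ : Submodule Λ (CU Λ U)) := by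
  refine ⟨fun hx => ?_, red_eq_zero_of_mem U N x⟩
  obtain ⟨r, a, ha⟩ := Submodule.fg_iff_exists_fin_generating_family.mp (IsNoetherian.noetherian N)
  have haN : ∀ k, a k ∈ N := fun k => ha ▸ Submodule.subset_span ⟨k, rfl⟩
  let M := ModuleCat.of Λ (Fin r → Λ)
  let σ : M ⟶ ModuleCat.of Λ Λ := ∑ k, ModuleCat.ofHom (LinearMap.proj k) ≫ (a k • 𝟙 (ModuleCat.of Λ Λ))
  have hσ : ∀ y : Fin r → Λ, σ.hom y = ∑ k, a k * y k := fun y => by
    simp only [σ, ModuleCat.hom_sum, LinearMap.sum_apply]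
    rfl
  have w : σ ≫ ModuleCat.ofHom N.mkQ = 0 := ModuleCat.hom_ext (LinearMap.ext fun y => by
    show N.mkQ (σ.hom y) = 0
    rw [hσ, Submodule.mkQ_apply, Submodule.Quotient.mk_eq_zero]
    exact Submodule.sum_mem _ fun k _ => Ideal.mul_mem_right _ (N : Ideal Λ) (haN k))
  have hex : (ShortComplex.mk σ (ModuleCat.ofHom N.mkQ) w).Exact := by
    rw [ShortComplex.moduleCat_exact_iff]
    intro z hz
    have hz' : z ∈ N := (Submodule.Quotient.mk_eq_zero N).mp hz
    obtain ⟨c, hc⟩ := Submodule.mem_span_range_iff_exists_fun Λ |>.mp (ha.symm.le hz')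
    exact ⟨c, (hσ c).trans (Eq.trans (Finset.sum_congr rfl fun k _ => mul_comm _ _) hc)⟩
  obtain ⟨y, hy⟩ := (ShortComplex.moduleCat_exact_iff _).mp (cs_exact hU _ hex) x hx
  rw [← show ((cs Λ U).map σ).hom y = x from hy, Functor.map_sum, ModuleCat.hom_sum, LinearMap.sum_apply]
  refine Submodule.sum_mem _ fun k _ => ?_
  rw [Functor.map_comp, cs_map_smul, CategoryTheory.Functor.map_id]
  exact Submodule.smul_mem_smul (haN k) Submodule.mem_top

theorem flatLike_CU [IsNoetherianRing Λ] {U : X.ProEt} (hU : ProEtS.IsWC U) : FlatLike Λ (CU Λ U) where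
  colon 𝔞 g x hx := by
    let 𝔟 : Submodule Λ Λ := Submodule.comap (LinearMap.lsmul Λ Λ g) 𝔞
    let m : ModuleCat.of Λ (Λ ⧸ 𝔟) ⟶ ModuleCat.of Λ (Λ ⧸ (𝔞 : Submodule Λ Λ)) :=
      ModuleCat.ofHom (Submodule.mapQ 𝔟 𝔞 (LinearMap.lsmul Λ Λ g) le_rfl)
    haveI : Mono m := (ModuleCat.mono_iff_injective m).mpr (by
      rw [injective_iff_map_eq_zero]
      intro z hz
      obtain ⟨z, rfl⟩ := Submodule.Quotient.mk_surjective _ z
      exact (Submodule.Quotient.mk_eq_zero _).mpr
        ((Submodule.Quotient.mk_eq_zero (𝔞 : Submodule Λ Λ)).mp hz : g * z ∈ 𝔞))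
    refine (red_eq_zero_iff hU 𝔟 x).mp (cs_injective (U := U) m ?_)
    have hm : ModuleCat.ofHom 𝔟.mkQ ≫ m = g • ModuleCat.ofHom (𝔞 : Submodule Λ Λ).mkQ :=
      ModuleCat.hom_ext (LinearMap.ext fun z => rfl)
    have h := congrArg (fun k => ((cs Λ U).map k).hom x) hm
    simp only [Functor.map_comp, cs_map_smul] at h
    rw [map_zero]
    refine h.trans ?_
    show g • red U 𝔞 x = 0
    rw [← map_smul, red_eq_zero_of_mem U 𝔞 _ hx]
  inter 𝔞 𝔟 x hxa hxb := by
    let A := ModuleCat.of Λ (Λ ⧸ (𝔞 : Submodule Λ Λ))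
    let B := ModuleCat.of Λ (Λ ⧸ (𝔟 : Submodule Λ Λ))
    let P := ModuleCat.of Λ ((Λ ⧸ (𝔞 : Submodule Λ Λ)) × (Λ ⧸ (𝔟 : Submodule Λ Λ)))
    let fa : P ⟶ A := ModuleCat.ofHom (LinearMap.fst Λ _ _)
    let fb : P ⟶ B := ModuleCat.ofHom (LinearMap.snd Λ _ _)
    let ia : A ⟶ P := ModuleCat.ofHom (LinearMap.inl Λ _ _)
    let ib : B ⟶ P := ModuleCat.ofHom (LinearMap.inr Λ _ _)
    have hid : fa ≫ ia + fb ≫ ib = 𝟙 P := ModuleCat.hom_ext (LinearMap.ext fun z => Prod.ext (add_zero _) (zero_add _))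
    let m : ModuleCat.of Λ (Λ ⧸ ((𝔞 ⊓ 𝔟 : Ideal Λ) : Submodule Λ Λ)) ⟶ P :=
      ModuleCat.ofHom ((Submodule.factor (inf_le_left : 𝔞 ⊓ 𝔟 ≤ 𝔞)).prod
        (Submodule.factor (inf_le_right : 𝔞 ⊓ 𝔟 ≤ 𝔟)))
    haveI : Mono m := (ModuleCat.mono_iff_injective m).mpr (by
      rw [injective_iff_map_eq_zero]
      intro z hz
      obtain ⟨z, rfl⟩ := Submodule.Quotient.mk_surjective _ z
      exact (Submodule.Quotient.mk_eq_zero _).mpr
        ⟨(Submodule.Quotient.mk_eq_zero _).mp (congrArg Prod.fst hz),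
          (Submodule.Quotient.mk_eq_zero _).mp (congrArg Prod.snd hz)⟩)
    refine (red_eq_zero_iff hU _ x).mp (cs_injective (U := U) m ?_)
    rw [map_zero]
    let y := ModuleCat.ofHom ((𝔞 ⊓ 𝔟 : Ideal Λ) : Submodule Λ Λ).mkQ ≫ m
    have hy : y = ModuleCat.ofHom (𝔞 : Submodule Λ Λ).mkQ ≫ ia + ModuleCat.ofHom (𝔟 : Submodule Λ Λ).mkQ ≫ ib := by
      rw [← Category.comp_id y, ← hid, Preadditive.comp_add, ← Category.assoc, ← Category.assoc]
      rfl
    have h := congrArg (fun k => ((cs Λ U).map k).hom x) hy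
    simp only [Functor.map_add, Functor.map_comp, y] at h
    refine h.trans ?_
    show ((cs Λ U).map ia).hom (red U 𝔞 x) + ((cs Λ U).map ib).hom (red U 𝔟 x) = 0
    rw [red_eq_zero_of_mem U 𝔞 x hxa, red_eq_zero_of_mem U 𝔟 x hxb, map_zero, map_zero, add_zero]

variable (Λ X) in
/-- The canonical map to the completed constant sheaf. -/
noncomputable def iota (J : Ideal Λ) : (cst Λ X).obj (ModuleCat.of Λ Λ) ⟶ ProEtDC.lambdaHat Λ X J :=
  limit.lift (ProEtDC.quotTower Λ J ⋙ cst Λ X)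
    ⟨_, { app := fun n => (cst Λ X).map (ModuleCat.ofHom (Submodule.mkQ (J ^ n.unop • ⊤ : Submodule Λ Λ)))
          naturality := fun n m h => by
            show 𝟙 _ ≫ _ = (cst Λ X).map _ ≫ (cst Λ X).map _
            rw [Category.id_comp, ← Functor.map_comp]
            rfl }⟩

/-- Change of ideal for the tower. -/
noncomputable def towerMap {J J' : Ideal Λ} (h : J ≤ J') : ProEtDC.quotTower Λ J ⟶ ProEtDC.quotTower Λ J' where
  app n := ModuleCat.ofHom (Submodule.factor (p := (J ^ n.unop • ⊤ : Submodule Λ Λ))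
    (p' := (J' ^ n.unop • ⊤ : Submodule Λ Λ)) (Submodule.smul_mono_left (Ideal.pow_right_mono h _)))
  naturality n m k := ModuleCat.hom_ext (LinearMap.ext fun z => by
    obtain ⟨z, rfl⟩ := Submodule.Quotient.mk_surjective _ z
    rfl)

variable (X) in
noncomputable def hatMap {J J' : Ideal Λ} (h : J ≤ J') : ProEtDC.lambdaHat Λ X J ⟶ ProEtDC.lambdaHat Λ X J' :=
  limMap (Functor.whiskerRight (towerMap h) (cst Λ X))

theorem iota_hatMap {J J' : Ideal Λ} (h : J ≤ J') : iota Λ X J ≫ hatMap X h = iota Λ X J' := by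
  refine limit.hom_ext fun n => ?_
  simp only [hatMap, Category.assoc, limMap_π, iota, limit.lift_π, limit.lift_π_assoc, Functor.whiskerRight_app]
  rw [← Functor.map_comp]
  rfl

theorem exists_hat [IsNoetherianRing Λ] {U : X.ProEt} (hU : ProEtS.IsWC U) (J : Ideal Λ) :
    ∃ H : Hat (CU Λ U) J ((ProEtDC.lambdaHat Λ X J).obj.obj (op U)), ∀ n x b,
      H.p n x = Submodule.Quotient.mk b ↔
        ((secF (Λ := Λ) U).map (limit.π (ProEtDC.quotTower Λ J ⋙ cst Λ X) (op n))).hom x =
          red U (J ^ n • ⊤ : Submodule Λ Λ) b := by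
  have hker : ∀ n (b : CU Λ U), red U (J ^ n • ⊤ : Submodule Λ Λ) b = 0 ↔ b ∈ St (CU Λ U) J n := fun n b => by
    rw [red_eq_zero_iff hU]
    simp [St]
  have hsurj : ∀ n, Function.Surjective (red U (J ^ n • ⊤ : Submodule Λ Λ)) := fun n => by
    haveI : Epi (ModuleCat.ofHom (Submodule.mkQ (J ^ n • ⊤ : Submodule Λ Λ))) :=
      (ModuleCat.epi_iff_surjective _).mpr (Submodule.mkQ_surjective _)
    exact cs_surjective hU _
  let e := fun n => (Submodule.quotEquivOfEq (St (CU Λ U) J n) (LinearMap.ker (red U (J ^ n • ⊤ : Submodule Λ Λ)))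
    (Submodule.ext fun b => (LinearMap.mem_ker.trans (hker n b)).symm)).trans
    ((red U (J ^ n • ⊤ : Submodule Λ Λ)).quotKerEquivOfSurjective (hsurj n))
  have he : ∀ n b, e n (Submodule.Quotient.mk b) = red U (J ^ n • ⊤ : Submodule Λ Λ) b := fun n b => rfl
  let p : ∀ n, (ProEtDC.lambdaHat Λ X J).obj.obj (op U) →ₗ[Λ] CU Λ U ⧸ St (CU Λ U) J n := fun n =>
    (e n).symm.toLinearMap ∘ₗ ((secF (Λ := Λ) U).map (limit.π (ProEtDC.quotTower Λ J ⋙ cst Λ X) (op n))).hom
  have hp : ∀ n x b, p n x = Submodule.Quotient.mk b ↔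
      ((secF (Λ := Λ) U).map (limit.π (ProEtDC.quotTower Λ J ⋙ cst Λ X) (op n))).hom x =
        red U (J ^ n • ⊤ : Submodule Λ Λ) b := fun n x b => by
    rw [← he]; exact LinearEquiv.symm_apply_eq _
  have hstep : ∀ n (b : CU Λ U),
      ((cs Λ U).map ((ProEtDC.quotTower Λ J).map (homOfLE (Nat.le_succ n)).op)).hom
        (red U (J ^ (n + 1) • ⊤ : Submodule Λ Λ) b) = red U (J ^ n • ⊤ : Submodule Λ Λ) b := fun n b => by
    show ((cs Λ U).map _ ≫ (cs Λ U).map _).hom b = _
    rw [← Functor.map_comp]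
    rfl
  refine ⟨⟨p, fun x hx => ?_, fun b hb => ?_, fun n x b h => ?_⟩, hp⟩
  · obtain ⟨g, rfl⟩ := (secEquiv U _).surjective x
    rw [LinearEquiv.map_eq_zero_iff]
    refine limit.hom_ext fun n => (secEquiv U _).injective ?_
    rw [secEquiv_comp, zero_comp, map_zero]
    exact (LinearEquiv.map_eq_zero_iff (e n.unop).symm).mp (hx n.unop)
  · let s : ∀ n : ℕ, PU Λ U ⟶ (cst Λ X).obj ((ProEtDC.quotTower Λ J).obj (op n)) := fun n =>
      (secEquiv U _).symm (red U (J ^ n • ⊤ : Submodule Λ Λ) (b n))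
    have hs : ∀ n, s (n + 1) ≫ (cst Λ X).map ((ProEtDC.quotTower Λ J).map (homOfLE (Nat.le_succ n)).op) = s n :=
      fun n => (secEquiv U _).injective (by
        rw [secEquiv_comp]
        simp only [s, LinearEquiv.apply_symm_apply]
        refine (hstep n _).trans ?_
        exact sub_eq_zero.mp ((map_sub _ _ _).symm.trans ((hker _ _).mpr (hb n))))
    let c : Cone (ProEtDC.quotTower Λ J ⋙ cst Λ X) :=
      ⟨PU Λ U, NatTrans.ofOpSequence (F := (Functor.const ℕᵒᵖ).obj (PU Λ U))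
        (fun n => s n) (fun n => by
          show 𝟙 _ ≫ s n = _
          rw [Category.id_comp]; exact (hs n).symm)⟩
    refine ⟨secEquiv U _ (limit.lift _ c), fun n => (hp n _ _).mpr ?_⟩
    refine (secEquiv_comp U (limit.lift _ c) _).symm.trans ?_
    rw [limit.lift_π]
    exact (secEquiv U _).apply_symm_apply _
  · rw [hp] at h ⊢
    rw [← hstep, ← h, ← limit.w (ProEtDC.quotTower Λ J ⋙ cst Λ X) (homOfLE (Nat.le_succ n)).op, Functor.map_comp]
    rfl

theorem isIso_of_bijective_wc {A B : EtModW.ModP Λ X} (e : A ⟶ B)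
    (h : ∀ U : X.ProEt, ProEtS.IsWC U → Function.Bijective fun g : PU Λ U ⟶ A => g ≫ e) : IsIso e := by
  haveI : Mono e := Preadditive.mono_of_cancel_zero _ fun {Z} k hk => by
    obtain ⟨ι, V, π, hV, hπ⟩ := exists_projective_cover Z
    refine (cancel_epi π).mp (Sigma.hom_ext _ _ fun i => (h _ (hV i)).1 ?_)
    simp only [Category.assoc, hk, comp_zero, zero_comp]
  haveI : Epi e := by
    obtain ⟨ι, V, π, hV, hπ⟩ := exists_projective_cover B
    choose l hl using fun i => (h _ (hV i)).2 (Sigma.ι (fun i => PU Λ (V i)) i ≫ π)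
    exact epi_of_epi_fac (f := Sigma.desc l) (g := e) (h := π) (Sigma.hom_ext _ _ fun i => by simp [hl])
  exact isIso_of_mono_of_epi e

theorem subsingleton_ext_of_isIso_smul {I : Ideal Λ} {F : EtModW.ModP Λ X} (hF : ProEtDC.IsDCSheaf Λ I F)
    {f : Λ} (hf : f ∈ I) (A : EtModW.ModP Λ X) [IsIso (f • 𝟙 A)] (n : ℕ) :
    Subsingleton (Abelian.Ext.{u + 1} A F n) := by
  let v : ℕ → (A ⟶ A) := fun i => Nat.rec (𝟙 A) (fun _ g => g ≫ inv (f • 𝟙 A)) i
  have hv : ∀ i, f • v (i + 1) = v i := fun i => by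
    show f • (v i ≫ inv (f • 𝟙 A)) = v i
    rw [← Linear.comp_smul]
    nth_rw 1 [← Category.comp_id (inv (f • 𝟙 A))]
    rw [← Linear.comp_smul, IsIso.inv_hom_id, Category.comp_id]
  have hq : T f A ≫ sdesc v = 0 := sg_ext fun i => by
    rw [inc_T_comp, comp_zero]
    show inc A i ≫ sdesc v - f • inc A (i + 1) ≫ sdesc v = 0
    rw [inc_sdesc, inc_sdesc, hv, sub_self]
  refine subsingleton_ext_coker (enough_dc ((isDCSheaf_iff I F).mp hF f hf)) A (sdesc v) hq
    (CokernelCofork.IsColimit.ofπ _ hq (fun g _ => inc A 0 ≫ g) (fun {Z} g hg => sg_ext fun i => ?_)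
      (fun g _ m hm => by
        have := inc_sdesc v 0
        rw [← hm, reassoc_of% this]
        exact (Category.id_comp m).symm)) n
  rw [inc_sdesc_assoc]
  induction i with
  | zero => exact Category.id_comp _
  | succ i ih =>
    have h0 : inc A i ≫ g = f • inc A (i + 1) ≫ g :=
      sub_eq_zero.mp ((inc_T_comp f g i).symm.trans (by rw [hg, comp_zero]))
    refine ((cancel_epi (f • 𝟙 A)).mp ?_)
    rw [Linear.smul_comp, Linear.smul_comp, Category.id_comp, Category.id_comp, ← h0, ← Linear.smul_comp, hv, ih]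

theorem exists_extension {B B' : EtModW.ModP Λ X} (φ : B ⟶ B') {F : EtModW.ModP Λ X}
    (h₀ : Subsingleton (Abelian.Ext.{u + 1} (kernel φ) F 0))
    (h₁ : Subsingleton (Abelian.Ext.{u + 1} (cokernel φ) F 1)) (g : B ⟶ F) :
    ∃ g' : B' ⟶ F, φ ≫ g' = g := by
  let e := Abelian.factorThruImage φ
  have hk : kernel.ι e ≫ g = 0 := by
    have hz : kernel.ι e ≫ φ = 0 := by
      exact (congrArg (kernel.ι e ≫ ·) (Abelian.image.fac φ).symm).trans
        (by rw [← Category.assoc, kernel.condition, zero_comp])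
    have h0 : kernel.ι φ ≫ g = 0 := (Abelian.Ext.mk₀_bijective _ _).1 (Subsingleton.elim _ _)
    rw [← kernel.lift_ι φ _ hz, Category.assoc, h0, comp_zero]
  obtain ⟨l, hl⟩ := CokernelCofork.IsColimit.desc'
    (Abelian.epiIsCokernelOfKernel _ (kernelIsKernel e)) g hk
  have hS : (ShortComplex.mk (kernel.ι (cokernel.π φ)) (cokernel.π φ) (kernel.condition _)).ShortExact :=
    { exact := ShortComplex.exact_of_f_is_kernel _ (kernelIsKernel _) }
  obtain ⟨y, hy⟩ := Abelian.Ext.contravariant_sequence_exact₁ hS F (Abelian.Ext.mk₀ l) (add_zero 1)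
    (Subsingleton.elim _ _)
  obtain ⟨g', rfl⟩ := (Abelian.Ext.mk₀_bijective _ _).2 y
  refine ⟨g', ?_⟩
  have h2 : Abelian.image.ι φ ≫ g' = l := (Abelian.Ext.mk₀_bijective _ _).1 (by simpa using hy)
  refine (congrArg (· ≫ g') (Abelian.image.fac φ).symm).trans ?_
  rw [Category.assoc, h2]
  exact hl

theorem isIso_smul_ker_coker [IsNoetherianRing Λ] (J : Ideal Λ) (f : Λ) :
    IsIso (f • 𝟙 (kernel (hatMap X (Λ := Λ) (le_sup_left : J ≤ J ⊔ Ideal.span {f})))) ∧
      IsIso (f • 𝟙 (cokernel (hatMap X (Λ := Λ) (le_sup_left : J ≤ J ⊔ Ideal.span {f})))) := by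
  let h := (le_sup_left : J ≤ J ⊔ Ideal.span {f})
  have key : ∀ U : X.ProEt, ProEtS.IsWC U →
      ∃ (H : Hat (CU Λ U) J ((ProEtDC.lambdaHat Λ X J).obj.obj (op U)))
        (H' : Hat (CU Λ U) (J ⊔ Ideal.span {f}) ((ProEtDC.lambdaHat Λ X (J ⊔ Ideal.span {f})).obj.obj (op U))),
        ∀ n x b, H.p n x = Submodule.Quotient.mk b →
          H'.p n (((secF (Λ := Λ) U).map (hatMap X h)).hom x) = Submodule.Quotient.mk b := fun U hU => by
    obtain ⟨H, hH⟩ := exists_hat (Λ := Λ) hU J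
    obtain ⟨H', hH'⟩ := exists_hat (Λ := Λ) hU (J ⊔ Ideal.span {f})
    refine ⟨H, H', fun n x b hb => (hH' n _ b).mpr ?_⟩
    show ((secF (Λ := Λ) U).map (hatMap X h) ≫ (secF (Λ := Λ) U).map _).hom x = _
    rw [← Functor.map_comp, hatMap, limMap_π, Functor.map_comp, ModuleCat.hom_comp, LinearMap.comp_apply,
      (hH n x b).mp hb]
    show ((cs Λ U).map _ ≫ (cs Λ U).map _).hom b = _
    rw [← Functor.map_comp]
    rfl
  constructor
  · refine isIso_of_bijective_wc _ fun U hU => ⟨fun g₁ g₂ hg => ?_, fun g => ?_⟩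
    all_goals obtain ⟨H, H', hφ⟩ := key U hU
    · dsimp only at hg
      rw [Linear.comp_smul, Category.comp_id, Linear.comp_smul, Category.comp_id] at hg
      rw [← sub_eq_zero, ← cancel_mono (kernel.ι _), zero_comp]
      refine (secEquiv U _).injective ?_
      rw [map_zero]
      refine ker_smul_injective (flatLike_CU hU) H H' _ hφ _ ?_ ?_
      · refine (secEquiv_comp U _ (hatMap X h)).symm.trans ?_
        rw [Category.assoc, kernel.condition, comp_zero, map_zero]
      · rw [← map_smul, ← Linear.smul_comp, smul_sub, hg, sub_self, zero_comp, map_zero]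
    · obtain ⟨w, hw, hw'⟩ := ker_smul_surjective (flatLike_CU hU) H H' _ hφ
        (secEquiv U _ (g ≫ kernel.ι _)) (by
          refine (secEquiv_comp U _ (hatMap X h)).symm.trans ?_
          rw [Category.assoc, kernel.condition, comp_zero, map_zero])
      obtain ⟨w, rfl⟩ := (secEquiv U _).surjective w
      refine ⟨kernel.lift _ w ((secEquiv U _).injective (by rw [map_zero]; exact (secEquiv_comp U w _).trans hw)), ?_⟩
      dsimp only
      rw [Linear.comp_smul, Category.comp_id, ← cancel_mono (kernel.ι _), Linear.smul_comp, kernel.lift_ι]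
      exact (secEquiv U _).injective (by rw [map_smul]; exact hw')
  · refine isIso_of_bijective_wc _ fun U hU => ?_
    haveI := projective_PU (Λ := Λ) U hU
    obtain ⟨H, H', hφ⟩ := key U hU
    refine ⟨fun g₁ g₂ hg => ?_, fun g => ?_⟩
    · dsimp only at hg
      rw [Linear.comp_smul, Category.comp_id, Linear.comp_smul, Category.comp_id] at hg
      rw [← sub_eq_zero]
      obtain ⟨t, ht⟩ : ∃ t, t ≫ cokernel.π (hatMap X h) = g₁ - g₂ :=
        ⟨Projective.factorThru _ _, Projective.factorThru_comp _ _⟩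
      rw [← ht]
      obtain ⟨x, hx⟩ := (exact_rightComp hU (ShortComplex.mk _ _ (cokernel.condition (hatMap X h)))
        (ShortComplex.exact_of_g_is_cokernel _ (cokernelIsCokernel _)) (f • t)).mp (by
          show (f • t) ≫ cokernel.π (hatMap X h) = 0
          rw [Linear.smul_comp, ht, smul_sub, hg, sub_self])
      obtain ⟨y, hy⟩ := coker_smul_injective (flatLike_CU hU) H H' _ hφ (secEquiv U _ t) (secEquiv U _ x) (by
        rw [← map_smul, ← show x ≫ hatMap X h = f • t from hx]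
        rfl)
      obtain ⟨y, rfl⟩ := (secEquiv U _).surjective y
      rw [← (secEquiv U _).injective ((secEquiv_comp U y _).trans hy), Category.assoc, cokernel.condition, comp_zero]
    · obtain ⟨t, rfl⟩ : ∃ t, t ≫ cokernel.π (hatMap X h) = g :=
        ⟨Projective.factorThru _ _, Projective.factorThru_comp _ _⟩
      obtain ⟨x, s, hs⟩ := coker_smul_surjective (flatLike_CU hU) H H' _ hφ (secEquiv U _ t)
      obtain ⟨x, rfl⟩ := (secEquiv U _).surjective x
      obtain ⟨s, rfl⟩ := (secEquiv U _).surjective s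
      refine ⟨s ≫ cokernel.π (hatMap X h), ?_⟩
      dsimp only
      rw [Linear.comp_smul, Category.comp_id,
        show t = x ≫ hatMap X h + f • s from (secEquiv U _).injective (by
          rw [map_add, map_smul]; exact hs.symm),
        Preadditive.add_comp, Category.assoc, cokernel.condition, comp_zero, zero_add, Linear.smul_comp]

/-- Morphisms from the constant sheaf into a derived complete sheaf extend to the completion. -/
theorem exists_extend_lambdaHat [IsNoetherianRing Λ] {I : Ideal Λ} {F : EtModW.ModP Λ X}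
    (hF : ProEtDC.IsDCSheaf Λ I F) (g : (cst Λ X).obj (ModuleCat.of Λ Λ) ⟶ F) :
    ∃ g' : ProEtDC.lambdaHat Λ X I ⟶ F, iota Λ X I ≫ g' = g := by
  classical
  obtain ⟨s₀, hs₀⟩ := IsNoetherian.noetherian I
  suffices H : ∀ s : Finset Λ, (↑s : Set Λ) ⊆ I →
      ∃ g' : ProEtDC.lambdaHat Λ X (Ideal.span (↑s : Set Λ)) ⟶ F, iota Λ X (Ideal.span (↑s : Set Λ)) ≫ g' = g by
    have := H s₀ (fun x hx => hs₀ ▸ Submodule.subset_span hx)
    rwa [show Ideal.span (↑s₀ : Set Λ) = I from hs₀] at this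
  intro s
  induction s using Finset.induction_on with
  | empty =>
    intro _
    rw [Finset.coe_empty, Ideal.span_empty]
    have h1 : ((⊥ : Ideal Λ) ^ (1 : ℕ) • ⊤ : Submodule Λ Λ) ≤ LinearMap.ker (LinearMap.id : Λ →ₗ[Λ] Λ) := by simp
    refine ⟨limit.π (ProEtDC.quotTower Λ (⊥ : Ideal Λ) ⋙ cst Λ X) (op 1) ≫
      (cst Λ X).map (ModuleCat.ofHom (Submodule.liftQ _ LinearMap.id h1)) ≫ g, ?_⟩
    rw [iota, limit.lift_π_assoc, ← Functor.map_comp_assoc]
    refine Eq.trans ?_ (Category.id_comp g)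
    rw [← CategoryTheory.Functor.map_id]
    rfl
  | @insert f s hfs ih =>
    intro hsub
    rw [Finset.coe_insert, Set.insert_subset_iff] at hsub
    obtain ⟨g', hg'⟩ := ih hsub.2
    rw [show Ideal.span (↑(insert f s) : Set Λ) = Ideal.span (↑s : Set Λ) ⊔ Ideal.span {f} by
      rw [Finset.coe_insert, Ideal.span_insert, sup_comm]]
    obtain ⟨_, _⟩ := isIso_smul_ker_coker (X := X) (Ideal.span (↑s : Set Λ)) f
    obtain ⟨g'', hg''⟩ := exists_extension (hatMap X (le_sup_left : Ideal.span (↑s : Set Λ) ≤ _ ⊔ Ideal.span {f}))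
      (subsingleton_ext_of_isIso_smul hF hsub.1 _ 0) (subsingleton_ext_of_isIso_smul hF hsub.1 _ 1) g'
    exact ⟨g'', by rw [← iota_hatMap (le_sup_left), Category.assoc, hg'', hg']⟩

end Groth.Agent.WContr.DC
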