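import Groth.Prelude.Def_PBC
import Mathlib.RingTheory.LocalIso
import Mathlib

/-!
Localizations of local isomorphisms are ind-Zariski, and ind-Zariski algebras identify local rings.
-/

set_option autoImplicit false
set_option backward.isDefEq.respectTransparency false
set_option linter.style.haveILetI false

universe u

open CategoryTheory CategoryTheory.Limits

namespace Groth.Agent.WContr

variable {A : Type u} [CommRing A]

theorem isIndZariski_of_directed {B : Type u} [CommRing B] [Algebra A B]
    {J : Type u} [Preorder J] [IsDirectedOrder J] [Nonempty J] (E : J → Type u) [∀ j, CommRing (E j)]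
    [∀ j, Algebra A (E j)] (hE : ∀ j, Algebra.IsLocalIso A (E j)) (tr : ∀ i j : J, i ≤ j → E i →ₐ[A] E j)
    (tr_id : ∀ i x, tr i i le_rfl x = x)
    (tr_comp : ∀ i j k (h : i ≤ j) (h' : j ≤ k) x, tr i k (h.trans h') x = tr j k h' (tr i j h x))
    (φ : ∀ j, E j →ₐ[A] B) (hφ : ∀ i j (h : i ≤ j) x, φ j (tr i j h x) = φ i x)
    (hs : ∀ b, ∃ j x, φ j x = b) (hz : ∀ j x, φ j x = 0 → ∃ k h, tr j k h x = 0) :
    EtPBC.IsIndZariski A B := by
  let D : J ⥤ Under (CommRingCat.of A) :=
    { obj := fun j => Under.mk (CommRingCat.ofHom (algebraMap A (E j)))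
      map := fun {i j} f => Under.homMk (CommRingCat.ofHom (tr i j (leOfHom f)).toRingHom)
        (CommRingCat.hom_ext (RingHom.ext fun a => (tr i j (leOfHom f)).commutes a))
      map_id := fun i => Under.UnderMorphism.ext (CommRingCat.hom_ext (RingHom.ext fun x => tr_id i x))
      map_comp := fun {i j k} f g => Under.UnderMorphism.ext (CommRingCat.hom_ext (RingHom.ext fun x =>
        tr_comp i j k (leOfHom f) (leOfHom g) x)) }
  let c : Cocone D :=
    { pt := Under.mk (CommRingCat.ofHom (algebraMap A B))
      ι :=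
        { app := fun j => Under.homMk (CommRingCat.ofHom (φ j).toRingHom)
            (CommRingCat.hom_ext (RingHom.ext fun a => (φ j).commutes a))
          naturality := fun i j f => Under.UnderMorphism.ext (CommRingCat.hom_ext
            (RingHom.ext fun x => hφ i j (leOfHom f) x)) } }
  haveI : IsFiltered J := inferInstance
  haveI : ReflectsColimitsOfShape J (Under.forget (CommRingCat.of A) ⋙ forget CommRingCat.{u}) :=
    reflectsColimitsOfShape_of_reflectsIsomorphisms
  refine ⟨J, inferInstance, inferInstance, D, c, ?_, fun j => ?_, ⟨Iso.refl _⟩⟩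
  · refine isColimitOfReflects (Under.forget (CommRingCat.of A) ⋙ forget CommRingCat.{u}) ?_
    refine Types.FilteredColimit.isColimitOf _ _ ?_ ?_
    · intro b
      obtain ⟨j, x, hx⟩ := hs b
      exact ⟨j, x, hx.symm⟩
    · intro i j (x : E i) (y : E j) (hxy : φ i x = φ j y)
      obtain ⟨k, hik, hjk⟩ := directed_of (· ≤ ·) i j
      obtain ⟨l, hkl, hl⟩ := hz k (tr i k hik x - tr j k hjk y) (by rw [map_sub, hφ, hφ, hxy, sub_self])
      refine ⟨l, homOfLE (hik.trans hkl), homOfLE (hjk.trans hkl), ?_⟩
      change tr i l (hik.trans hkl) x = tr j l (hjk.trans hkl) y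
      rw [tr_comp i k l hik hkl, tr_comp j k l hjk hkl, ← sub_eq_zero, ← map_sub]
      exact hl
  · dsimp only [D]
    change @Algebra.IsLocalIso A (E j) _ _ (algebraMap A (E j)).toAlgebra
    rw [show (algebraMap A (E j)).toAlgebra = (inferInstance : Algebra A (E j)) from
      Algebra.algebra_ext _ _ fun r => rfl]
    exact hE j

theorem isLocalIso_prod (S T : Type u) [CommRing S] [CommRing T] [Algebra A S] [Algebra A T]
    [Algebra.IsLocalIso A S] [Algebra.IsLocalIso A T] : Algebra.IsLocalIso A (S × T) := by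
  refine Algebra.IsLocalIso.of_span_eq_top (s := {((1, 0) : S × T), (0, 1)}) ?_ ?_
  · rw [Ideal.eq_top_iff_one, show (1 : S × T) = (1, 0) + (0, 1) by ext <;> simp]
    exact Ideal.add_mem _ (Ideal.subset_span (by simp)) (Ideal.subset_span (by simp))
  · rintro x (rfl | rfl)
    · letI : Algebra (S × T) S := (RingHom.fst S T).toAlgebra
      haveI : IsScalarTower A (S × T) S := IsScalarTower.of_algebraMap_eq fun _ => rfl
      haveI : IsLocalization.Away ((1, 0) : S × T) S :=
        IsLocalization.away_of_isIdempotentElem (by ext <;> simp) (by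
          ext ⟨a, b⟩
          rw [RingHom.mem_ker, Ideal.mem_span_singleton]
          constructor
          · intro ha
            refine ⟨(0, b), ?_⟩
            ext
            · simpa [RingHom.algebraMap_toAlgebra] using ha
            · simp
          · rintro ⟨c, hc⟩
            simpa [RingHom.algebraMap_toAlgebra] using congrArg Prod.fst hc) (fun a => ⟨(a, 0), rfl⟩)
      exact Algebra.IsLocalIso.of_algEquiv
        (((IsLocalization.algEquiv (.powers ((1, 0) : S × T)) S (Localization.Away ((1, 0) : S × T))).restrictScalars A))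
    · letI : Algebra (S × T) T := (RingHom.snd S T).toAlgebra
      haveI : IsScalarTower A (S × T) T := IsScalarTower.of_algebraMap_eq fun _ => rfl
      haveI : IsLocalization.Away ((0, 1) : S × T) T :=
        IsLocalization.away_of_isIdempotentElem (by ext <;> simp) (by
          ext ⟨a, b⟩
          rw [RingHom.mem_ker, Ideal.mem_span_singleton]
          constructor
          · intro ha
            refine ⟨(a, 0), ?_⟩
            ext
            · simp
            · simpa [RingHom.algebraMap_toAlgebra] using ha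
          · rintro ⟨c, hc⟩
            simpa [RingHom.algebraMap_toAlgebra] using congrArg Prod.snd hc) (fun a => ⟨(0, a), rfl⟩)
      exact Algebra.IsLocalIso.of_algEquiv
        (((IsLocalization.algEquiv (.powers ((0, 1) : S × T)) T (Localization.Away ((0, 1) : S × T))).restrictScalars A))

/-- A localization of a local isomorphism is ind-Zariski. -/
theorem isIndZariski_localization (P : Type u) [CommRing P] [Algebra A P] [Algebra.IsLocalIso A P] (M : Submonoid P)
    (B : Type u) [CommRing B] [Algebra P B] [Algebra A B] [IsScalarTower A P B] [IsLocalization M B] :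
    EtPBC.IsIndZariski A B := by
  let J : Type u := M
  let E : J → Type u := fun t => Localization.Away t.1
  letI : Preorder J :=
    { le := fun i j => IsUnit (algebraMap P (E j) i.1)
      le_refl := fun i => IsLocalization.Away.algebraMap_isUnit (S := E i) i.1
      le_trans := fun i j k h h' => by
        have h2 := h.map (IsLocalization.Away.lift j.1 (g := algebraMap P (E k)) h' : E j →+* E k)
        rwa [IsLocalization.Away.lift_eq] at h2 }
  haveI : Nonempty J := ⟨⟨1, M.one_mem⟩⟩
  haveI : IsDirectedOrder J := ⟨fun i j => by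
    have h := IsLocalization.Away.algebraMap_isUnit (S := Localization.Away (i.1 * j.1)) (i.1 * j.1)
    rw [map_mul] at h
    exact ⟨⟨i.1 * j.1, M.mul_mem i.2 j.2⟩, isUnit_of_mul_isUnit_left h, isUnit_of_mul_isUnit_right h⟩⟩
  let tr : ∀ i j : J, i ≤ j → E i →ₐ[A] E j := fun i j h =>
    IsLocalization.Away.liftAlgHom i.1 (f := IsScalarTower.toAlgHom A P (E j)) h
  have htr : ∀ i j h x, tr i j h (algebraMap P (E i) x) = algebraMap P (E j) x := fun i j h x =>
    IsLocalization.Away.lift_eq i.1 (g := (IsScalarTower.toAlgHom A P (E j)).toRingHom) h x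
  let φ : ∀ j : J, E j →ₐ[A] B := fun j =>
    IsLocalization.Away.liftAlgHom j.1 (f := IsScalarTower.toAlgHom A P B) (IsLocalization.map_units B ⟨_, j.2⟩)
  have hφe : ∀ j x, φ j (algebraMap P (E j) x) = algebraMap P B x := fun j x =>
    IsLocalization.Away.lift_eq j.1 (g := (IsScalarTower.toAlgHom A P B).toRingHom)
      (IsLocalization.map_units B (⟨_, j.2⟩ : M)) x
  have hext : ∀ (j : J) (T : Type u) [CommRing T] (f g : E j →+* T),
      (∀ x, f (algebraMap P (E j) x) = g (algebraMap P (E j) x)) → f = g := fun j T _ f g h =>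
    IsLocalization.ringHom_ext (Submonoid.powers j.1) (RingHom.ext h)
  refine isIndZariski_of_directed E (fun j => .trans A P (E j)) tr (fun i x => ?_) (fun i j k h h' x => ?_) φ
    (fun i j h x => ?_) (fun b => ?_) fun j x hx => ?_
  · exact RingHom.congr_fun (hext i _ (tr i i le_rfl).toRingHom (RingHom.id _) fun y => htr i i _ y) x
  · refine RingHom.congr_fun (hext i _ (tr i k (h.trans h')).toRingHom
      ((tr j k h').toRingHom.comp (tr i j h).toRingHom) fun y => ?_) x
    change tr i k _ (algebraMap P (E i) y) = tr j k h' (tr i j h (algebraMap P (E i) y))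
    rw [htr, htr, htr]
  · refine RingHom.congr_fun (hext i _ ((φ j).toRingHom.comp (tr i j h).toRingHom) (φ i).toRingHom fun y => ?_) x
    change φ j (tr i j h (algebraMap P (E i) y)) = φ i (algebraMap P (E i) y)
    rw [htr, hφe, hφe]
  · obtain ⟨p, t, rfl⟩ := IsLocalization.exists_mk'_eq M b
    refine ⟨t, IsLocalization.mk' (E t) p (⟨t.1, Submonoid.mem_powers _⟩ : Submonoid.powers t.1), ?_⟩
    rw [IsLocalization.eq_mk'_iff_mul_eq, ← hφe t t.1, ← map_mul, IsLocalization.mk'_spec, hφe]
  · obtain ⟨p, s, rfl⟩ := IsLocalization.exists_mk'_eq (Submonoid.powers j.1) x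
    have h0 : algebraMap P B p = 0 := by
      rw [← hφe j p, ← IsLocalization.mk'_spec (E j) p s, map_mul, hx, zero_mul]
    obtain ⟨u, hu⟩ := (IsLocalization.map_eq_zero_iff M B p).mp h0
    have h := IsLocalization.Away.algebraMap_isUnit (S := Localization.Away (j.1 * u.1)) (j.1 * u.1)
    rw [map_mul] at h
    refine ⟨⟨j.1 * u.1, M.mul_mem j.2 u.2⟩, isUnit_of_mul_isUnit_left h, ?_⟩
    have hp : algebraMap P (E ⟨j.1 * u.1, M.mul_mem j.2 u.2⟩) p = 0 :=
      (isUnit_of_mul_isUnit_right h).mul_right_eq_zero.mp (by rw [← map_mul, hu, map_zero])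
    have hs : IsUnit (algebraMap P (E j) s.1) := IsLocalization.map_units (E j) s
    refine (hs.map (tr j ⟨j.1 * u.1, M.mul_mem j.2 u.2⟩ (isUnit_of_mul_isUnit_left h))).mul_left_eq_zero.mp ?_
    rw [← map_mul, IsLocalization.mk'_spec, htr]
    exact hp

/-- An ind-Zariski algebra identifies local rings. -/
theorem identifiesLocalRings {B : Type u} [CommRing B] [Algebra A B] (h : EtPBC.IsIndZariski A B) :
    EtPBC.IdentifiesLocalRings A B := by
  obtain ⟨J, _, _, D, c, hc, hD, ⟨e⟩⟩ := h
  have := IsFiltered.isConnected J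
  let c' : Cocone D := c.extend e.hom
  have hc' : IsColimit c' := IsColimit.extendIso e.hom hc
  let G := Under.forget (CommRingCat.of A) ⋙ forget CommRingCat.{u}
  have hF : IsColimit (G.mapCocone c') := isColimitOfPreserves G hc'
  intro q
  -- the image of a stage is `A_p` near `q`
  have key : ∀ (j : J) (x : (D.obj j).right), ∃ (r a : A) (g : (D.obj j).right),
      r ∉ q.asIdeal.comap (algebraMap A B) ∧ (c'.ι.app j).right g ∉ q.asIdeal ∧
        g * ((D.obj j).hom r * x - (D.obj j).hom a) = 0 ∧
        ∀ a' : A, g * (D.obj j).hom a' = 0 → ∃ r', r' ∉ q.asIdeal.comap (algebraMap A B) ∧ r' * a' = 0 := by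
    intro j x
    letI := (D.obj j).hom.hom.toAlgebra
    haveI := hD j
    let f : (D.obj j).right →ₐ[A] B :=
      { (c'.ι.app j).right.hom with commutes' := fun r => congr($(Under.w (c'.ι.app j)) r) }
    let qj := q.asIdeal.comap f.toRingHom
    haveI : qj.IsPrime := Ideal.IsPrime.comap _
    obtain ⟨g, hg, ⟨r, hr⟩⟩ := Algebra.IsLocalIso.exists_notMem_isStandardOpenImmersion (R := A) qj
    have hgu : IsUnit (algebraMap (D.obj j).right (Localization.Away g) g) := IsLocalization.Away.algebraMap_isUnit g
    have hru : IsUnit (algebraMap A (Localization.Away g) r) := IsLocalization.Away.algebraMap_isUnit r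
    -- `r` is invertible at `q`
    have hrq : r ∉ q.asIdeal.comap (algebraMap A B) := by
      obtain ⟨v, hv⟩ := isUnit_iff_exists_inv.mp hru
      obtain ⟨n, y, hy⟩ := IsLocalization.Away.surj g v
      intro hrq
      rw [IsScalarTower.algebraMap_apply A (D.obj j).right (Localization.Away g)] at hv
      have h1 : algebraMap (D.obj j).right (Localization.Away g) (algebraMap A _ r * y) =
          algebraMap _ _ (g ^ n) := by
        rw [map_mul, map_pow, ← hy, ← mul_assoc, hv, one_mul]
      obtain ⟨⟨_, m, rfl⟩, hm⟩ := (IsLocalization.eq_iff_exists (Submonoid.powers g) _).mp h1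
      have h2 : g ^ m * (algebraMap A _ r * y) ∈ qj := qj.mul_mem_left _ (qj.mul_mem_right _ (by
        rw [Ideal.mem_comap]
        change f (algebraMap A _ r) ∈ q.asIdeal
        rw [f.commutes]; exact hrq))
      have h3 : g ^ m * g ^ n ∈ qj := hm ▸ h2
      rw [← pow_add] at h3
      exact hg (Ideal.IsPrime.mem_of_pow_mem inferInstance _ h3)
    obtain ⟨k, a, ha⟩ := IsLocalization.Away.surj r (algebraMap (D.obj j).right (Localization.Away g) x)
    rw [IsScalarTower.algebraMap_apply A (D.obj j).right (Localization.Away g) r,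
      IsScalarTower.algebraMap_apply A (D.obj j).right (Localization.Away g) a, ← map_pow, ← map_mul] at ha
    obtain ⟨⟨_, m, rfl⟩, hm⟩ := (IsLocalization.eq_iff_exists (Submonoid.powers g) _).mp ha
    refine ⟨r ^ k, a, g ^ m, fun h => hrq (Ideal.IsPrime.mem_of_pow_mem inferInstance _ h), ?_, ?_, fun a' ha' => ?_⟩
    · change f (g ^ m) ∉ q.asIdeal
      rw [map_pow]
      exact fun h => hg (Ideal.mem_comap.mpr (Ideal.IsPrime.mem_of_pow_mem q.2 _ h))
    · change g ^ m * (algebraMap A (D.obj j).right (r ^ k) * x - algebraMap A (D.obj j).right a) = 0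
      simp only at hm
      rw [map_pow, mul_sub, sub_eq_zero, ← hm]
      ring
    · have h0 : algebraMap A (Localization.Away g) a' = 0 := by
        rw [IsScalarTower.algebraMap_apply A (D.obj j).right (Localization.Away g)]
        exact ((hgu.pow m)).mul_right_eq_zero.mp (by rw [← map_pow, ← map_mul]; exact (congrArg _ ha').trans (map_zero _))
      obtain ⟨⟨_, i, rfl⟩, hi⟩ := (IsLocalization.map_eq_zero_iff (Submonoid.powers r) _ _).mp h0
      exact ⟨r ^ i, fun h => hrq (Ideal.IsPrime.mem_of_pow_mem inferInstance _ h), hi⟩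
  let p := q.asIdeal.comap (algebraMap A B)
  refine ⟨(injective_iff_map_eq_zero _).mpr fun z hz => ?_, fun w => ?_⟩
  · obtain ⟨a, t, rfl⟩ := IsLocalization.exists_mk'_eq p.primeCompl z
    rw [Localization.localRingHom_mk', IsLocalization.mk'_eq_zero_iff] at hz
    obtain ⟨⟨b, hb⟩, hba⟩ := hz
    obtain ⟨j, y₀, hy₀⟩ := Types.jointly_surjective _ hF b
    obtain ⟨y, hy⟩ : ∃ y : (D.obj j).right, (c'.ι.app j).right y = b := ⟨y₀, hy₀⟩
    have hw : (c'.ι.app j).right ((D.obj j).hom a) = algebraMap A B a := congr($(Under.w (c'.ι.app j)) a)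
    have h0 : (c'.ι.app j).right (y * (D.obj j).hom a) = 0 := by
      rw [map_mul, hw]
      exact (congrArg (· * algebraMap A B a) hy).trans hba
    obtain ⟨k, g, hk⟩ := (Types.FilteredColimit.isColimit_eq_iff' hF (y * (D.obj j).hom a) (0 : (D.obj j).right)).mp
      (h0.trans (map_zero (c'.ι.app j).right.hom).symm)
    obtain ⟨r, a₁, gk, hr, hgk, hrel, hinj⟩ := key k ((D.map g).right y)
    have hk' : (D.map g).right y * (D.obj k).hom a = 0 := by
      have hga : (D.map g).right ((D.obj j).hom a) = (D.obj k).hom a := congr($(Under.w (D.map g)) a)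
      rw [← hga, ← map_mul]
      exact hk.trans (map_zero (D.map g).right.hom)
    have h1 : gk * (D.obj k).hom (a₁ * a) = 0 := by
      rw [map_mul]
      linear_combination (-(D.obj k).hom a) * hrel + (gk * (D.obj k).hom r) * hk'
    obtain ⟨r', hr', hr'a⟩ := hinj _ h1
    have ha₁ : a₁ ∉ p := fun ha₁ => by
      have h2 := congrArg (c'.ι.app k).right hrel
      rw [map_mul, map_sub, map_mul, map_zero] at h2
      have hw₁ : ∀ s, (c'.ι.app k).right ((D.obj k).hom s) = algebraMap A B s := fun s => congr($(Under.w (c'.ι.app k)) s)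
      have hwy : (c'.ι.app k).right ((D.map g).right y) = b :=
        Eq.trans congr(($(c'.w g)).right y) hy
      rw [hw₁, hw₁, hwy] at h2
      have h3 : algebraMap A B r * b - algebraMap A B a₁ ∈ q.asIdeal :=
        ((q.2.mem_or_mem (h2 ▸ q.asIdeal.zero_mem)).resolve_left hgk)
      have h4 : algebraMap A B r * b ∈ q.asIdeal := by simpa using q.asIdeal.add_mem h3 ha₁
      exact (q.2.mem_or_mem h4).elim hr hb
    rw [IsLocalization.mk'_eq_zero_iff]
    exact ⟨⟨r' * a₁, p.primeCompl.mul_mem hr' ha₁⟩, by simpa [mul_assoc] using hr'a⟩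
  · obtain ⟨b, ⟨t, ht⟩, rfl⟩ := IsLocalization.exists_mk'_eq q.asIdeal.primeCompl w
    suffices H : ∀ b : B, ∃ z, Localization.localRingHom p q.asIdeal (algebraMap A B) rfl z =
        algebraMap B (Localization.AtPrime q.asIdeal) b by
      obtain ⟨zb, hzb⟩ := H b
      obtain ⟨zt, hzt⟩ := H t
      have : IsUnit zt := by
        have hu : IsUnit (Localization.localRingHom p q.asIdeal (algebraMap A B) rfl zt) :=
          hzt ▸ IsLocalization.map_units _ (⟨t, ht⟩ : q.asIdeal.primeCompl)
        exact hu.of_map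
      obtain ⟨v, hv⟩ := isUnit_iff_exists_inv.mp this
      refine ⟨zb * v, ?_⟩
      rw [IsLocalization.eq_mk'_iff_mul_eq, ← hzt, ← hzb, ← map_mul, mul_assoc, mul_comm v, hv, mul_one]
    intro b
    obtain ⟨j, y₀, hy₀⟩ := Types.jointly_surjective _ hF b
    obtain ⟨y, hy⟩ : ∃ y : (D.obj j).right, (c'.ι.app j).right y = b := ⟨y₀, hy₀⟩
    obtain ⟨r, a, g, hr, hg, hrel, -⟩ := key j y
    refine ⟨IsLocalization.mk' _ a (⟨r, hr⟩ : p.primeCompl), ?_⟩
    rw [Localization.localRingHom_mk', IsLocalization.mk'_eq_iff_eq_mul, ← map_mul,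
      IsLocalization.eq_iff_exists q.asIdeal.primeCompl]
    refine ⟨⟨(c'.ι.app j).right g, hg⟩, ?_⟩
    have h2 := congrArg (c'.ι.app j).right hrel
    rw [map_mul, map_sub, map_mul, map_zero] at h2
    have hw₁ : ∀ s, (c'.ι.app j).right ((D.obj j).hom s) = algebraMap A B s := fun s => congr($(Under.w (c'.ι.app j)) s)
    have hy' : (c'.ι.app j).right y = b := hy
    rw [hw₁, hw₁, hy'] at h2
    linear_combination -h2

end Groth.Agent.WContr
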