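import Groth.Agent.WContr.LocEtale
import Groth.Agent.IndEtLib.Cat

/-!
Functions with finite range on the spectrum, localized at the pointwise invertible ones.
-/

set_option autoImplicit false
set_option backward.isDefEq.respectTransparency false
set_option linter.style.haveILetI false
set_option synthInstance.maxHeartbeats 200000
set_option maxHeartbeats 800000

universe u

open Topology

namespace Groth.Agent.WContr

variable (A : Type u) [CommRing A]

/-- functions with finite range on the spectrum -/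
def partRing : Subalgebra A (PrimeSpectrum A → A) where
  carrier := {g | (Set.range g).Finite}
  mul_mem' := fun {_ _} ha hb => (Set.Finite.image2 (· * ·) ha hb).subset (by
    rintro _ ⟨x, rfl⟩; exact ⟨_, ⟨x, rfl⟩, _, ⟨x, rfl⟩, rfl⟩)
  add_mem' := fun {_ _} ha hb => (Set.Finite.image2 (· + ·) ha hb).subset (by
    rintro _ ⟨x, rfl⟩; exact ⟨_, ⟨x, rfl⟩, _, ⟨x, rfl⟩, rfl⟩)
  algebraMap_mem' := fun a => (Set.finite_singleton a).subset (by rintro _ ⟨x, rfl⟩; rfl)

/-- pointwise invertible functions -/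
def partSub : Submonoid (partRing A) where
  carrier := {g | ∀ x : PrimeSpectrum A, g.1 x ∉ x.asIdeal}
  one_mem' := fun x => x.2.one_notMem
  mul_mem' := fun {_ _} ha hb x h => (x.2.mem_or_mem h).elim (ha x) (hb x)

/-- pointwise vanishing functions -/
def partIdeal : Ideal (partRing A) where
  carrier := {g | ∀ x : PrimeSpectrum A, g.1 x ∈ x.asIdeal}
  add_mem' := fun {_ _} ha hb x => x.asIdeal.add_mem (ha x) (hb x)
  zero_mem' := fun x => x.asIdeal.zero_mem
  smul_mem' := fun c _ ha x => x.asIdeal.mul_mem_left (c.1 x) (ha x)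

/-- the partition localization -/
abbrev PartLoc : Type u := Localization (partSub A)

/-- its distinguished closed set -/
def partSet : Set (PrimeSpectrum (PartLoc A)) :=
  PrimeSpectrum.zeroLocus ((partIdeal A).map (algebraMap (partRing A) (PartLoc A)) : Set (PartLoc A))

variable {A}

/-- indicator functions -/
noncomputable def chi (H : Set (PrimeSpectrum A)) : partRing A :=
  ⟨H.indicator 1, (Set.toFinite {(0 : A), 1}).subset (by
    rintro _ ⟨x, rfl⟩
    by_cases hx : x ∈ H <;> simp [hx])⟩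

/-- indicator functions in the localization -/
noncomputable def chiLoc (H : Set (PrimeSpectrum A)) : PartLoc A := algebraMap (partRing A) (PartLoc A) (chi H)

theorem chiLoc_mul_compl (H : Set (PrimeSpectrum A)) : chiLoc H * chiLoc Hᶜ = 0 := by
  rw [chiLoc, chiLoc, ← map_mul, show chi H * chi Hᶜ = 0 from Subtype.ext (funext fun x => by
    by_cases hx : x ∈ H <;> simp [chi, hx]), map_zero]

theorem chiLoc_add_compl (H : Set (PrimeSpectrum A)) : chiLoc H + chiLoc Hᶜ = 1 := by
  rw [chiLoc, chiLoc, ← map_add, show chi H + chi Hᶜ = 1 from Subtype.ext (funext fun x => by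
    by_cases hx : x ∈ H <;> simp [chi, hx]), map_one]

theorem chiLoc_mul_of_subset {H W : Set (PrimeSpectrum A)} (h : H ⊆ W) : chiLoc H * chiLoc W = chiLoc H := by
  rw [chiLoc, chiLoc, ← map_mul, show chi H * chi W = chi H from Subtype.ext (funext fun x => by
    by_cases hx : x ∈ H
    · simp [chi, hx, h hx]
    · simp [chi, hx])]

theorem chiLoc_mul (H W : Set (PrimeSpectrum A)) : chiLoc H * chiLoc W = chiLoc (H ∩ W) := by
  rw [chiLoc, chiLoc, ← map_mul, chiLoc, show chi H * chi W = chi (H ∩ W) from Subtype.ext (funext fun x => by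
    by_cases hx : x ∈ H <;> by_cases hx' : x ∈ W <;> simp [chi, hx, hx'])]

theorem chiLoc_mem_iff (y : PrimeSpectrum (PartLoc A)) (H : Set (PrimeSpectrum A)) :
    chiLoc H ∈ y.asIdeal ↔ chiLoc Hᶜ ∉ y.asIdeal := by
  refine ⟨fun h h' => y.2.one_notMem ?_, fun h => ?_⟩
  · rw [← chiLoc_add_compl H]; exact y.asIdeal.add_mem h h'
  · exact (y.2.mem_or_mem ((chiLoc_mul_compl H).symm ▸ y.asIdeal.zero_mem)).resolve_right h

theorem chiLoc_mem_iff_of_le {y y' : PrimeSpectrum (PartLoc A)} (h : y.asIdeal ≤ y'.asIdeal)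
    (H : Set (PrimeSpectrum A)) : chiLoc H ∈ y.asIdeal ↔ chiLoc H ∈ y'.asIdeal := by
  refine ⟨fun hy => h hy, fun hy => ?_⟩
  rw [chiLoc_mem_iff] at hy ⊢
  exact fun h' => hy (h h')

/-- on the closed set, membership is decided by indicator functions -/
theorem algebraMap_mem_iff {y : PrimeSpectrum (PartLoc A)} (hy : y ∈ partSet A) (g : partRing A) :
    algebraMap (partRing A) (PartLoc A) g ∈ y.asIdeal ↔ chiLoc {x | g.1 x ∉ x.asIdeal} ∈ y.asIdeal := by
  set H : Set (PrimeSpectrum A) := {x | g.1 x ∉ x.asIdeal}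
  have hz : g * chi Hᶜ ∈ partIdeal A := fun x => by
    by_cases hx : x ∈ H
    · simp [chi, hx]
    · simpa [chi, hx] using (not_not.mp hx : g.1 x ∈ x.asIdeal)
  have hzy : algebraMap (partRing A) (PartLoc A) (g * chi Hᶜ) ∈ y.asIdeal := hy (Ideal.mem_map_of_mem _ hz)
  have hs : g * chi H + chi Hᶜ ∈ partSub A := fun x => by
    by_cases hx : x ∈ H
    · simp [chi, Set.indicator_of_mem hx, Set.indicator_of_notMem (show x ∉ Hᶜ from fun h => h hx)]
      exact hx
    · simpa [chi, hx] using x.2.one_notMem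
  have hu : algebraMap (partRing A) (PartLoc A) (g * chi H + chi Hᶜ) ∉ y.asIdeal := fun h =>
    y.2.ne_top (Ideal.eq_top_of_isUnit_mem _ h (IsLocalization.map_units (PartLoc A) (⟨_, hs⟩ : partSub A)))
  rw [map_mul] at hzy
  rw [map_add, map_mul] at hu
  constructor
  · intro h
    rw [chiLoc_mem_iff]
    exact fun h' => hu (y.asIdeal.add_mem (y.asIdeal.mul_mem_right _ h) h')
  · intro h
    rw [chiLoc_mem_iff] at h
    exact (y.2.mem_or_mem hzy).resolve_right h

theorem eq_of_chiLoc_mem_iff {y y' : PrimeSpectrum (PartLoc A)} (hy : y ∈ partSet A) (hy' : y' ∈ partSet A)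
    (h : ∀ H, chiLoc H ∈ y.asIdeal ↔ chiLoc H ∈ y'.asIdeal) : y = y' := by
  refine PrimeSpectrum.ext (Ideal.ext fun z => ?_)
  obtain ⟨g, s, rfl⟩ := IsLocalization.exists_mk'_eq (partSub A) z
  rw [IsLocalization.mk'_mem_iff, IsLocalization.mk'_mem_iff, algebraMap_mem_iff hy, algebraMap_mem_iff hy', h]

theorem isMaximal_of_mem_partSet {y : PrimeSpectrum (PartLoc A)} (hy : y ∈ partSet A) : y.asIdeal.IsMaximal := by
  obtain ⟨n, hn, hle⟩ := Ideal.exists_le_maximal y.asIdeal y.2.ne_top
  have : y = ⟨n, hn.isPrime⟩ :=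
    eq_of_chiLoc_mem_iff hy (fun z hz => hle (hy hz)) (chiLoc_mem_iff_of_le (y' := ⟨n, hn.isPrime⟩) hle)
  rw [this]; exact hn

/-- evaluation at a point -/
noncomputable def evalPt (x : PrimeSpectrum A) : PartLoc A →ₐ[A] x.asIdeal.ResidueField :=
  IsLocalization.liftAlgHom (M := partSub A)
    (f := (IsScalarTower.toAlgHom A A x.asIdeal.ResidueField).comp ((Pi.evalAlgHom A (fun _ => A) x).comp (partRing A).val))
    fun g => IsUnit.mk0 _ fun h => g.2 x (Ideal.algebraMap_residueField_eq_zero.mp h)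

theorem evalPt_algebraMap (x : PrimeSpectrum A) (g : partRing A) :
    evalPt x (algebraMap (partRing A) (PartLoc A) g) = algebraMap A x.asIdeal.ResidueField (g.1 x) :=
  IsLocalization.lift_eq _ g

/-- the point of the closed set over a prime -/
noncomputable def partPt (x : PrimeSpectrum A) : PrimeSpectrum (PartLoc A) :=
  ⟨RingHom.ker (evalPt x).toRingHom, RingHom.ker_isPrime _⟩

theorem partPt_mem (x : PrimeSpectrum A) : partPt x ∈ partSet A := by
  change (partIdeal A).map _ ≤ (partPt x).asIdeal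
  rw [Ideal.map_le_iff_le_comap]
  intro g hg
  change evalPt x (algebraMap _ _ g) = 0
  rw [evalPt_algebraMap, Ideal.algebraMap_residueField_eq_zero]
  exact hg x

theorem comap_partPt (x : PrimeSpectrum A) :
    PrimeSpectrum.comap (algebraMap A (PartLoc A)) (partPt x) = x := by
  refine PrimeSpectrum.ext (Ideal.ext fun a => ?_)
  change evalPt x (algebraMap A (PartLoc A) a) = 0 ↔ _
  rw [(evalPt x).commutes, Ideal.algebraMap_residueField_eq_zero]

theorem chiLoc_notMem_partPt {x : PrimeSpectrum A} {H : Set (PrimeSpectrum A)} (hx : x ∈ H) :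
    chiLoc H ∉ (partPt x).asIdeal := by
  change ¬ evalPt x (algebraMap _ _ (chi H)) = 0
  rw [evalPt_algebraMap]
  simp [chi, hx]

theorem t2Space_partSet : T2Space (partSet A) := ⟨fun y y' hne => by
  classical
  obtain ⟨H, hH⟩ : ∃ H, ¬ (chiLoc H ∈ y.1.asIdeal ↔ chiLoc H ∈ y'.1.asIdeal) := by
    by_contra! h
    exact hne (Subtype.ext (eq_of_chiLoc_mem_iff y.2 y'.2 h))
  have hy' : chiLoc H ∈ y'.1.asIdeal ↔ ¬ chiLoc H ∈ y.1.asIdeal := by tauto
  refine ⟨Subtype.val ⁻¹' PrimeSpectrum.basicOpen (if chiLoc H ∈ y.1.asIdeal then chiLoc Hᶜ else chiLoc H),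
    Subtype.val ⁻¹' PrimeSpectrum.basicOpen (if chiLoc H ∈ y.1.asIdeal then chiLoc H else chiLoc Hᶜ),
    (PrimeSpectrum.basicOpen _).2.preimage continuous_subtype_val,
    (PrimeSpectrum.basicOpen _).2.preimage continuous_subtype_val, ?_, ?_, ?_⟩
  · split_ifs with h
    · exact (chiLoc_mem_iff y.1 H).mp h
    · exact h
  · split_ifs with h
    · exact fun h' => (hy'.mp h') h
    · exact (chiLoc_mem_iff y'.1 H).mp (hy'.mpr h)
  · rw [Set.disjoint_left]
    intro z hz hz'
    have hz2 : chiLoc H * chiLoc Hᶜ ∈ z.1.asIdeal := by rw [chiLoc_mul_compl]; exact z.1.asIdeal.zero_mem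
    split_ifs at hz hz' with h
    · exact (z.1.2.mem_or_mem hz2).elim hz' hz
    · exact (z.1.2.mem_or_mem hz2).elim hz hz'⟩

theorem extremallyDisconnected_partSet : ExtremallyDisconnected (partSet A) := by
  constructor
  intro U hU
  let W : Set (PrimeSpectrum A) :=
    {x | ∃ H, x ∈ H ∧ Subtype.val ⁻¹' (PrimeSpectrum.basicOpen (chiLoc H) : Set (PrimeSpectrum (PartLoc A))) ⊆ U}
  have hopen : ∀ H : Set (PrimeSpectrum A), IsOpen (Subtype.val ⁻¹'
      (PrimeSpectrum.basicOpen (chiLoc H) : Set (PrimeSpectrum (PartLoc A))) : Set (partSet A)) :=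
    fun H => (PrimeSpectrum.basicOpen _).2.preimage continuous_subtype_val
  have nbhd : ∀ (y : partSet A) (O : Set (partSet A)), IsOpen O → y ∈ O →
      ∃ H, chiLoc H ∉ y.1.asIdeal ∧
        Subtype.val ⁻¹' (PrimeSpectrum.basicOpen (chiLoc H) : Set (PrimeSpectrum (PartLoc A))) ⊆ O := by
    intro y O hO hy
    obtain ⟨O', hO', rfl⟩ := isOpen_induced_iff.mp hO
    obtain ⟨_, ⟨z, rfl⟩, hyz, hzO⟩ := PrimeSpectrum.isTopologicalBasis_basic_opens.exists_subset_of_mem_open hy hO'
    obtain ⟨g, s, rfl⟩ := IsLocalization.exists_mk'_eq (partSub A) z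
    refine ⟨{x | g.1 x ∉ x.asIdeal}, ?_, fun w hw => hzO ?_⟩
    · rw [← algebraMap_mem_iff y.2, ← IsLocalization.mk'_mem_iff (y := s)]
      exact hyz
    · change IsLocalization.mk' (PartLoc A) g s ∉ w.1.asIdeal
      rw [IsLocalization.mk'_mem_iff, algebraMap_mem_iff w.2]
      exact hw
  have : closure U = Subtype.val ⁻¹' (PrimeSpectrum.basicOpen (chiLoc W) : Set (PrimeSpectrum (PartLoc A))) := by
    refine Set.Subset.antisymm (closure_minimal (fun y hy => ?_) ?_) fun y hy => ?_
    · obtain ⟨H, hH, hHU⟩ := nbhd y U hU hy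
      intro hW
      refine hH ?_
      rw [← chiLoc_mul_of_subset (H := H) (W := W) fun x hx => ⟨H, hx, hHU⟩]
      exact y.1.asIdeal.mul_mem_left _ hW
    · rw [← isOpen_compl_iff]
      convert hopen Wᶜ using 1
      ext z
      simp only [Set.mem_compl_iff, Set.mem_preimage, SetLike.mem_coe, PrimeSpectrum.mem_basicOpen, not_not]
      exact chiLoc_mem_iff z.1 W
    · rw [mem_closure_iff]
      intro O hO hyO
      obtain ⟨H', hH', hHO⟩ := nbhd y O hO hyO
      obtain ⟨x, hxH', hxW⟩ : (H' ∩ W).Nonempty := by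
        rw [Set.nonempty_iff_ne_empty]
        intro h0
        have h1 : chiLoc H' * chiLoc W = 0 := by
          rw [chiLoc_mul, h0, chiLoc, show chi (∅ : Set (PrimeSpectrum A)) = 0 from Subtype.ext (funext fun x => by
            simp [chi]), map_zero]
        exact (y.1.2.mem_or_mem (h1.symm ▸ y.1.asIdeal.zero_mem)).elim hH' hy
      obtain ⟨H, hxH, hHU⟩ := hxW
      exact ⟨⟨partPt x, partPt_mem x⟩, hHO (chiLoc_notMem_partPt hxH'), hHU (chiLoc_notMem_partPt hxH)⟩
  rw [this]
  exact hopen W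

variable (A)

theorem isIndEtale_partRing : EtPBC.IsIndEtale A (partRing A) := by
  classical
  let sig : ∀ F : Finset (Set (PrimeSpectrum A)), PrimeSpectrum A → (↥F → Prop) := fun _ x S => x ∈ S.1
  haveI : ∀ F : Finset (Set (PrimeSpectrum A)), Finite (Set.range (sig F)) := fun F => inferInstance
  let restr : ∀ F G : Finset (Set (PrimeSpectrum A)), F ≤ G → Set.range (sig G) → Set.range (sig F) := fun F G h s =>
    ⟨fun S => s.1 ⟨S.1, h S.2⟩, by obtain ⟨_, x, rfl⟩ := s; exact ⟨x, rfl⟩⟩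
  let φ : ∀ F : Finset (Set (PrimeSpectrum A)), (Set.range (sig F) → A) →ₐ[A] partRing A := fun F =>
    (AlgHom.ofLinearMap (LinearMap.funLeft A A (Set.rangeFactorization (sig F))) rfl fun _ _ => rfl).codRestrict
      (partRing A) fun g => (Set.finite_range g).subset (by rintro _ ⟨x, rfl⟩; exact ⟨_, rfl⟩)
  refine Groth.Agent.Hensel.isIndEtale_of_directed (fun F => Set.range (sig F) → A) (fun F => inferInstance)
    (fun F G h => AlgHom.ofLinearMap (LinearMap.funLeft A A (restr F G h)) rfl fun _ _ => rfl)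
    (fun F g => rfl) (fun F G H h h' g => rfl) φ (fun F G h g => rfl) (fun g => ?_) fun F g hg => ⟨F, le_rfl, ?_⟩
  · let F : Finset (Set (PrimeSpectrum A)) := g.2.toFinset.image fun a => g.1 ⁻¹' {a}
    refine ⟨F, fun s => g.1 s.2.choose, Subtype.ext (funext fun x => ?_)⟩
    show g.1 (Set.rangeFactorization (sig F) x).2.choose = g.1 x
    set w := (Set.rangeFactorization (sig F) x).2.choose
    have hw : sig F w = sig F x := (Set.rangeFactorization (sig F) x).2.choose_spec
    have hmem : g.1 ⁻¹' {g.1 x} ∈ F := Finset.mem_image.mpr ⟨g.1 x, g.2.mem_toFinset.mpr ⟨x, rfl⟩, rfl⟩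
    exact (congrFun hw ⟨_, hmem⟩).mpr rfl
  · refine funext fun s => ?_
    obtain ⟨_, x, rfl⟩ := s
    exact congrFun (congrArg Subtype.val hg) x

theorem isIndEtale_partLoc : EtPBC.IsIndEtale A (PartLoc A) :=
  Groth.Agent.IndEtLib.isIndEtale_trans A (partRing A) (PartLoc A) (isIndEtale_partRing A)
    (isIndEtale_localization_of_etale (partRing A) (partSub A) (PartLoc A))

end Groth.Agent.WContr
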